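import Cfsg.Agent.Lib.BSW.Data

/-!
# Abstract Brauer–Suzuki–Wall: the case `d = 1 + 2k`
-/

set_option autoImplicit false
set_option linter.unusedSectionVars false
set_option linter.unusedVariables false

namespace Cfsg.Agent.Lib.BSW.CaseI

open Subgroup hiding mem_centralizer_singleton_iff
open Cfsg Cfsg.Agent.Lib.BSW.Setup Cfsg.Agent.Lib.BSW.Group Cfsg.Agent.Lib.BSW.Data
open Cfsg.Agent.Lib.Involutions.Counting (PairsWithProduct pairs_fst_inverts)

variable {G : Type*} [Group G] [Finite G]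

section core

variable {t s : G} {K : Subgroup G} {d : ℤ} {w : G → ℤ} (h : Hyp t s K) (H : CD K d w)
  (hd : d = 1 + 2 * (Nat.card K : ℤ))

include h H hd

/-- Every element of `Outer K` is inverted by an involution. -/
lemma exists_inv {z : G} (hz : Outer K z) : ∃ u : G, orderOf u = 2 ∧ u * z * u⁻¹ = z⁻¹ := by
  apply exists_inverter
  have h1 := H.hP1 z hz hd
  have hk : 0 < Nat.card K := Nat.card_pos
  have hkz : (0 : ℤ) < (Nat.card K : ℤ) := by exact_mod_cast hk
  have h2 : 0 < (Nat.card (PairsWithProduct z) : ℤ) := by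
    rw [h1, hd]
    rcases H.hval z hz with h3 | h3 <;> rw [h3] <;> linarith
  exact_mod_cast h2

theorem core {y : G} (hy : Outer K y) (hw : w y = 0) (hi : t * y * t⁻¹ = y⁻¹) : Concl G := by
  set k := Nat.card K with hk
  have hk0 : 0 < k := Nat.card_pos
  set Q := centralizer ({y} : Set G) with hQ
  have hQm : ∀ {a : G}, a ∈ Q ↔ a * y = y * a := Subgroup.mem_centralizer_singleton_iff
  have hyQ : y ∈ Q := hQm.mpr rfl
  have hcardQ : (Nat.card Q : ℤ) = d := by
    rw [← card_pairs_outer h hy hi, H.hP1 y hy hd, hw]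
    ring
  have hqN : Nat.card Q = 2 * k + 1 := by
    have : (Nat.card Q : ℤ) = 2 * k + 1 := by rw [hcardQ, hd]; ring
    exact_mod_cast this
  have hSC : SelfCent Q := by
    intro z hz hz1
    have hzO := outer_of_comm h hy (hQm.mp hz) hz1
    obtain ⟨u, hu, hui⟩ := exists_inv h H hd hzO
    apply le_antisymm
    · intro a ha
      rw [Subgroup.mem_centralizer_singleton_iff] at ha
      rw [hQm]
      exact comm_of_invert h hzO hu hui ha (hQm.mp hz).symm
    · intro a ha
      rw [Subgroup.mem_centralizer_singleton_iff]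
      have htu : orderOf t = 2 := h.ht
      exact comm_of_invert h hy htu hi (hQm.mp ha) (hQm.mp hz)
  have hwQ : ∀ z ∈ Q, z ≠ 1 → Outer K z ∧ w z = 0 := by
    intro z hz hz1
    have hzO := outer_of_comm h hy (hQm.mp hz) hz1
    refine ⟨hzO, ?_⟩
    obtain ⟨u, hu, hui⟩ := exists_inv h H hd hzO
    have h1 := card_pairs_outer' h hzO hu hui
    rw [hSC z hz hz1] at h1
    have h2 := H.hP1 z hzO hd
    rw [h1, hcardQ] at h2
    have h3 : (k : ℤ) * w z = 0 := by linarith
    rcases mul_eq_zero.mp h3 with h4 | h4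
    · exfalso
      have : k = 0 := by exact_mod_cast h4
      omega
    · exact h4
  -- the counting
  have hTI := card_TI Q (normalizer (Q : Set G))
    (fun x hx hx1 g hg => hSC.mem_normalizer hx hx1 hg)
    (fun g hg x hx => (mem_normalizer_iff.mp hg x).mp hx)
  have hle : Nat.card {g : G // g ≠ 1 ∧ ∃ c : G, c * g * c⁻¹ ∈ Q} ≤
      Nat.card {y : G // Outer K y ∧ w y = 0} := by
    have hmem : ∀ g : {g : G // g ≠ 1 ∧ ∃ c : G, c * g * c⁻¹ ∈ Q}, Outer K g.1 ∧ w g.1 = 0 := by
      intro g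
      obtain ⟨g1, c, hc⟩ := g.2
      have h1 := hwQ _ hc (conj_ne_one c g1)
      have h2 := h1.1.conj c⁻¹
      have e : c⁻¹ * (c * g.1 * c⁻¹) * c⁻¹⁻¹ = g.1 := by group
      rw [e] at h2
      refine ⟨h2, ?_⟩
      rw [← H.hconj g.1 c]
      exact h1.2
    apply Nat.card_le_card_of_injective (fun g => ⟨g.1, hmem g⟩)
    intro a b hab
    have : a.1 = b.1 := congrArg (fun z : {y : G // Outer K y ∧ w y = 0} => z.1) hab
    exact Subtype.ext this
  -- numbers in ℕ
  have hGN : Nat.card G = k * ((2 * k + 1) * (2 * k + 2)) := by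
    have := H.hG
    rw [hd] at this
    have e : (Nat.card G : ℤ) = (k * ((2 * k + 1) * (2 * k + 2)) : ℕ) := by
      rw [this]; push_cast; ring
    exact_mod_cast e
  have hcountN : Nat.card {y : G // Outer K y ∧ w y = 0} = (2 * k + 1) ^ 2 - 1 := by
    have e := H.hcount
    rw [hd] at e
    have e2 : (Nat.card {y : G // Outer K y ∧ w y = 0} : ℤ) + 1 = ((2 * k + 1) ^ 2 : ℕ) := by
      rw [e]; push_cast; ring
    have e3 : Nat.card {y : G // Outer K y ∧ w y = 0} + 1 = (2 * k + 1) ^ 2 := by exact_mod_cast e2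
    omega
  have hcn := card_normalizer h hy hi
  set A : Subgroup G := K ⊓ normalizer (Q : Set G) with hA
  set n := Nat.card {g : G // g ≠ 1 ∧ ∃ c : G, c * g * c⁻¹ ∈ Q}
  have hAk : Nat.card A ≤ k := Subgroup.card_le_of_le inf_le_left
  have hkA : k ≤ Nat.card A := by
    rw [hcountN] at hle
    rw [hGN, hqN, hcn, hqN] at hTI
    have e1 : 2 * k + 1 - 1 = 2 * k := by omega
    rw [e1] at hTI
    have e2 : (2 * k + 1) ^ 2 - 1 = 2 * k * (2 * k + 2) := by
      have : (2 * k + 1) ^ 2 = 2 * k * (2 * k + 2) + 1 := by ring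
      omega
    rw [e2] at hle
    have h3 : k * ((2 * k + 1) * (2 * k + 2)) * (2 * k) ≤
        2 * k * (2 * k + 2) * ((2 * k + 1) * Nat.card A) := by
      rw [← hTI]
      exact Nat.mul_le_mul_right _ hle
    have h4 : 2 * k * (2 * k + 2) * (2 * k + 1) * k ≤
        2 * k * (2 * k + 2) * (2 * k + 1) * Nat.card A := by
      calc _ = k * ((2 * k + 1) * (2 * k + 2)) * (2 * k) := by ring
        _ ≤ _ := h3
        _ = _ := by ring
    exact Nat.le_of_mul_le_mul_left h4 (by positivity)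
  have hAK : A = K := Subgroup.eq_of_le_of_card_ge inf_le_left hkA
  have hKN : K ≤ normalizer (Q : Set G) := by
    rw [← hAK]
    exact inf_le_right
  have hdisj : Q ⊓ K = ⊥ := by
    rw [Subgroup.eq_bot_iff_forall]
    rintro a ⟨ha, haK⟩
    by_contra ha1
    exact (hwQ a ha ha1).1.2 1 (by simpa using haK)
  have hnorm : normalizer (Q : Set G) = Q ⊔ K := by
    apply le_antisymm
    · intro g hg
      obtain ⟨r, hr, hrg⟩ := normalizer_decomp h hy hi hg
      have e : g = r⁻¹ * (r * g) := by group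
      rw [e]
      exact mul_mem ((le_sup_left : Q ≤ Q ⊔ K) (Q.inv_mem hr)) ((le_sup_right : K ≤ Q ⊔ K) hrg)
    · exact sup_le Subgroup.le_normalizer hKN
  refine ⟨Q, K, ?_, hSC, ?_, ?_, hdisj, hnorm, fun X hX hX1 => final_K h hX hX1⟩
  · rw [hGN, hqN]
    have e1 : 2 * k + 1 - 1 = 2 * k := by omega
    rw [e1]
    ring
  · exact ⟨⟨fun a b => Subtype.ext (h.hcomm a.1 a.2 b.1 b.2)⟩⟩
  · omega

end core

theorem main {t s : G} {K : Subgroup G} {d : ℤ} {w : G → ℤ} (h : Hyp t s K) (H : CD K d w)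
    (hd : d = 1 + 2 * (Nat.card K : ℤ)) : Concl G := by
  classical
  have hk0 : 0 < Nat.card K := Nat.card_pos
  have hpos : 0 < Nat.card {y : G // Outer K y ∧ w y = 0} := by
    have e := H.hcount
    rw [hd] at e
    have h1 : (0 : ℤ) < (Nat.card K : ℤ) := by exact_mod_cast hk0
    have h2 : (0 : ℤ) < (Nat.card {y : G // Outer K y ∧ w y = 0} : ℤ) := by
      rw [e]
      nlinarith
    exact_mod_cast h2
  haveI : Nonempty {y : G // Outer K y ∧ w y = 0} := (Nat.card_pos_iff.mp hpos).1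
  obtain ⟨⟨y, hy, hw⟩⟩ := this
  obtain ⟨u, hu, hui⟩ := exists_inv h H hd hy
  obtain ⟨g, hg, hh⟩ := exists_hyp h hu
  exact core hh (H.conj g) (by rw [card_conjS]; exact hd) (outer_conjS_iff.mpr hy) hw hui

end Cfsg.Agent.Lib.BSW.CaseI
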