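import Cfsg.Agent.Lib.BSW.Data

/-!
# Abstract Brauer–Suzuki–Wall: the case `d = 1 - 2k`, first part
-/

set_option autoImplicit false
set_option linter.unusedSectionVars false
set_option linter.unusedVariables false

namespace Cfsg.Agent.Lib.BSW.CaseIIa

open Subgroup hiding mem_centralizer_singleton_iff
open Cfsg Cfsg.Agent.Lib.BSW.Setup Cfsg.Agent.Lib.BSW.Group Cfsg.Agent.Lib.BSW.Data
open Cfsg.Agent.Lib.Involutions.Counting (PairsWithProduct pairs_fst_inverts
  exists_involution_inverting)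
open Cfsg.Agent.Lib.Char.Complete (card_isConj_mul_card_centralizer)

variable {G : Type*} [Group G] [Finite G]

/-- The numbers in the case `d = 1 - 2k`, with `k = m + 1`. -/
structure Num (K : Subgroup G) (w : G → ℤ) (m : ℕ) : Prop where
  hk : Nat.card K = m + 1
  hm : 3 ≤ m
  hG : Nat.card G = (m + 1) * ((2 * m + 1) * (2 * m))
  hY : Nat.card {y : G // Outer K y ∧ w y = 0} = 4 * m * (m + 1)
  hP : ∀ y, Outer K y → (Nat.card (PairsWithProduct y) : ℤ) = -(m : ℤ) * w y
  hval : ∀ y, Outer K y → w y = 0 ∨ w y = -1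
  hconj : ∀ g c, w (c * g * c⁻¹) = w g
  hinv : ∀ y, Outer K y → w y⁻¹ = w y
  hodd : Odd m

lemma Num.conj {K : Subgroup G} {w : G → ℤ} {m : ℕ} (N : Num K w m) (g : G) :
    Num (conjS g K) w m := by
  refine ⟨by rw [card_conjS]; exact N.hk, N.hm, N.hG, ?_, fun y hy => N.hP y (outer_conjS_iff.mp hy),
    fun y hy => N.hval y (outer_conjS_iff.mp hy), N.hconj, fun y hy => N.hinv y (outer_conjS_iff.mp hy),
    N.hodd⟩
  have : {y : G // Outer (conjS g K) y ∧ w y = 0} ≃ {y : G // Outer K y ∧ w y = 0} :=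
    Equiv.subtypeEquivRight (fun y => by rw [outer_conjS_iff])
  rw [Nat.card_congr this]
  exact N.hY

theorem exists_Num {t s : G} {K : Subgroup G} {d : ℤ} {w : G → ℤ} (h : Hyp t s K) (H : CD K d w)
    (hd : d = 1 - 2 * (Nat.card K : ℤ)) (hk : 4 ≤ Nat.card K) : ∃ m, Num K w m := by
  obtain ⟨m, hm⟩ : ∃ m, Nat.card K = m + 1 := ⟨Nat.card K - 1, by omega⟩
  have hdm : d = -(2 * (m : ℤ) + 1) := by rw [hd, hm]; push_cast; ring
  refine ⟨m, hm, by omega, ?_, ?_, ?_, H.hval, H.hconj, H.hinv, ?_⟩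
  · have e := H.hG
    rw [hdm, hm] at e
    have : (Nat.card G : ℤ) = ((m + 1) * ((2 * m + 1) * (2 * m)) : ℕ) := by
      rw [e]; push_cast; ring
    exact_mod_cast this
  · have e := H.hcount
    rw [hdm] at e
    have : (Nat.card {y : G // Outer K y ∧ w y = 0} : ℤ) = (4 * m * (m + 1) : ℕ) := by
      rw [e]; push_cast; ring
    exact_mod_cast this
  · intro y hy
    rw [H.hP2 y hy hd, hm]
    push_cast
    ring
  · have := even_card_K h
    rw [hm] at this
    rw [Nat.odd_iff]
    omega

section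

variable {t s : G} {K : Subgroup G} {w : G → ℤ} {m : ℕ} (h : Hyp t s K) (N : Num K w m)

include h N

lemma w_of_inverted {z u : G} (hz : Outer K z) (hu : orderOf u = 2) (hi : u * z * u⁻¹ = z⁻¹) :
    w z = -1 ∧ Nat.card (centralizer ({z} : Set G)) = m := by
  have h1 := card_pairs_outer' h hz hu hi
  have h2 := N.hP z hz
  rw [h1] at h2
  have h3 : 0 < Nat.card (centralizer ({z} : Set G)) := Nat.card_pos
  rcases N.hval z hz with h4 | h4
  · exfalso
    rw [h4] at h2
    simp at h2
    omega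
  · refine ⟨h4, ?_⟩
    rw [h4] at h2
    have : (Nat.card (centralizer ({z} : Set G)) : ℤ) = m := by rw [h2]; ring
    exact_mod_cast this

lemma inv_of_w1 {z : G} (hz : Outer K z) (hw : w z = -1) :
    ∃ u : G, orderOf u = 2 ∧ u * z * u⁻¹ = z⁻¹ := by
  apply exists_inverter
  have h2 := N.hP z hz
  rw [hw] at h2
  have hm := N.hm
  have : (Nat.card (PairsWithProduct z) : ℤ) = m := by rw [h2]; ring
  have h3 : Nat.card (PairsWithProduct z) = m := by exact_mod_cast this
  omega

lemma sc_w1 {y : G} (hy : Outer K y) (hw : w y = -1) :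
    SelfCent (centralizer ({y} : Set G)) ∧
      ∀ z ∈ centralizer ({y} : Set G), z ≠ 1 → Outer K z ∧ w z = -1 := by
  obtain ⟨u, hu, hui⟩ := inv_of_w1 h N hy hw
  have hD : ∀ {a : G}, a ∈ centralizer ({y} : Set G) ↔ a * y = y * a :=
    Subgroup.mem_centralizer_singleton_iff
  have key : ∀ z ∈ centralizer ({y} : Set G), z ≠ 1 → Outer K z ∧ w z = -1 ∧
      Nat.card (centralizer ({z} : Set G)) = m := by
    intro z hz hz1
    have hzO := outer_of_comm h hy (hD.mp hz) hz1
    have := w_of_inverted h N hzO hu (invert_centralizer' h hy hu hui (hD.mp hz))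
    exact ⟨hzO, this.1, this.2⟩
  refine ⟨?_, fun z hz hz1 => ⟨(key z hz hz1).1, (key z hz hz1).2.1⟩⟩
  intro z hz hz1
  symm
  apply Subgroup.eq_of_le_of_card_ge
  · intro a ha
    rw [Subgroup.mem_centralizer_singleton_iff]
    exact comm_of_invert h hy hu hui (hD.mp ha) (hD.mp hz)
  · rw [(key z hz hz1).2.2, (w_of_inverted h N hy hu hui).2]

lemma cent_w0 {y c : G} (hy : Outer K y) (hw : w y = 0)
    (hc : c ∈ centralizer ({y} : Set G)) (hc1 : c ≠ 1) : Outer K c ∧ w c = 0 := by
  have hD : ∀ {a b : G}, a ∈ centralizer ({b} : Set G) ↔ a * b = b * a :=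
    Subgroup.mem_centralizer_singleton_iff
  have hcO := outer_of_comm h hy (hD.mp hc) hc1
  refine ⟨hcO, ?_⟩
  rcases N.hval c hcO with h4 | h4
  · exact h4
  · exfalso
    have := (sc_w1 h N hcO h4).2 y (hD.mpr (hD.mp hc).symm) hy.1
    rw [hw] at this
    simp at this

lemma not_real_w0 {y : G} (hy : Outer K y) (hw : w y = 0) : ¬ IsConj y y⁻¹ := by
  intro hr
  obtain ⟨u, hu, hui⟩ := exists_involution_inverting y hy.1 hr (odd_card_centralizer h hy)
  have := (w_of_inverted h N hy hu hui).1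
  rw [hw] at this
  simp at this

lemma exists_w1 : ∃ y, Outer K y ∧ w y = -1 := by
  classical
  by_contra hcon
  push Not at hcon
  let _ := Fintype.ofFinite G
  have hb := card_big h
  rw [N.hk, N.hG] at hb
  have hbv : Nat.card {g : G // Big K g} = (2 * m + 1) * m ^ 2 := by
    have e : Nat.card {g : G // Big K g} * (2 * (m + 1)) = ((2 * m + 1) * m ^ 2) * (2 * (m + 1)) := by
      rw [hb]
      have : m + 1 - 1 = m := by omega
      rw [this]
      ring
    exact Nat.eq_of_mul_eq_mul_right (by positivity) e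
  have hsub : (Finset.univ : Finset G) ⊆ {1} ∪ (Finset.univ.filter (Big K)) ∪
      (Finset.univ.filter (fun y => Outer K y ∧ w y = 0)) := by
    intro g _
    simp only [Finset.mem_union, Finset.mem_singleton, Finset.mem_filter, Finset.mem_univ, true_and]
    rcases trichotomy K g with h1 | h1 | h1
    · exact Or.inl (Or.inl h1)
    · exact Or.inl (Or.inr h1)
    · right
      refine ⟨h1, ?_⟩
      rcases N.hval g h1 with h2 | h2
      · exact h2
      · exact absurd h2 (hcon g h1)
  have hc := Finset.card_le_card hsub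
  have h1 := Finset.card_union_le ({1} ∪ (Finset.univ.filter (Big K)))
    (Finset.univ.filter (fun y => Outer K y ∧ w y = 0))
  have h2 := Finset.card_union_le ({1} : Finset G) (Finset.univ.filter (Big K))
  rw [Finset.card_singleton] at h2
  rw [Finset.card_univ, ← Nat.card_eq_fintype_card, N.hG] at hc
  have h3 : (Finset.univ.filter (Big K)).card = Nat.card {g : G // Big K g} := by
    rw [Nat.card_eq_fintype_card, Fintype.card_subtype]
  have h4 : (Finset.univ.filter (fun y => Outer K y ∧ w y = 0)).card =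
      Nat.card {y : G // Outer K y ∧ w y = 0} := by
    rw [Nat.card_eq_fintype_card, Fintype.card_subtype]
  rw [h3, hbv] at h2
  rw [h4, N.hY] at h1
  have hm := N.hm
  have h5 : (m + 1) * ((2 * m + 1) * (2 * m)) ≤ 1 + (2 * m + 1) * m ^ 2 + 4 * m * (m + 1) := by omega
  nlinarith [sq_nonneg m, mul_pos (show 0 < m by omega) (show 0 < m by omega)]

/-- Centralizers of `w = 0` elements have order dividing `2m+1`. -/
lemma card_dvd {y : G} (hy : Outer K y) (hw : w y = 0) :
    Nat.card (centralizer ({y} : Set G)) ∣ 2 * m + 1 := by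
  have hmain : ∀ r : ℕ, r.Prime → r ∣ Nat.card (centralizer ({y} : Set G)) →
      r ≠ 2 ∧ ¬ r ∣ m + 1 ∧ ¬ r ∣ m := by
    intro r hr hrd
    haveI : Fact r.Prime := ⟨hr⟩
    obtain ⟨c, hc⟩ := exists_prime_orderOf_dvd_card' (G := centralizer ({y} : Set G)) r hrd
    have hc' : orderOf (c : G) = r := by rw [Subgroup.orderOf_coe]; exact hc
    have hc1 : (c : G) ≠ 1 := by
      intro h0
      rw [h0, orderOf_one] at hc'
      exact hr.one_lt.ne hc'
    obtain ⟨hcO, hcw⟩ := cent_w0 h N hy hw c.2 hc1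
    have hr2 : r ≠ 2 := by
      rintro rfl
      have := odd_card_centralizer h hy
      exact (Nat.not_even_iff_odd.mpr this) (even_iff_two_dvd.mpr hrd)
    have hzp : IsPGroup r (zpowers (c : G)) := by
      apply IsPGroup.of_card (n := 1)
      rw [Nat.card_zpowers, hc', pow_one]
    have hr1 : ¬ r ∣ 1 := Nat.Prime.not_dvd_one hr
    have hrm1 : ¬ r ∣ m + 1 := by
      intro hd
      have hidx : K.index = (2 * m + 1) * (2 * m) := by
        have h1 := K.index_mul_card
        rw [N.hG, N.hk] at h1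
        apply Nat.eq_of_mul_eq_mul_right (show 0 < m + 1 by omega)
        rw [h1]
        ring
      have hnd : ¬ r ∣ K.index := by
        rw [hidx]
        intro h2
        rcases hr.dvd_mul.mp h2 with h3 | h3
        · apply hr1
          have h4 : r ∣ 2 * (m + 1) := Dvd.dvd.mul_left hd 2
          have h5 := (Nat.dvd_sub h4 h3)
          have e : 2 * (m + 1) - (2 * m + 1) = 1 := by omega
          rwa [e] at h5
        · rcases hr.dvd_mul.mp h3 with h4 | h4
          · exact hr2 ((Nat.prime_dvd_prime_iff_eq hr Nat.prime_two).mp h4)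
          · apply hr1
            have h5 := (Nat.dvd_sub hd h4)
            have e : m + 1 - m = 1 := by omega
            rwa [e] at h5
      obtain ⟨g, hg⟩ := exists_conj_mem K hnd hzp
      exact hcO.2 g hg
    refine ⟨hr2, hrm1, ?_⟩
    intro hd
    obtain ⟨y₁, hy₁, hw₁⟩ := exists_w1 h N
    obtain ⟨u, hu, hui⟩ := inv_of_w1 h N hy₁ hw₁
    have hcard := (w_of_inverted h N hy₁ hu hui).2
    obtain ⟨hsc, hD⟩ := sc_w1 h N hy₁ hw₁
    have hidx : (centralizer ({y₁} : Set G)).index = (m + 1) * (2 * m + 1) * 2 := by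
      have h1 := (centralizer ({y₁} : Set G)).index_mul_card
      rw [N.hG, hcard] at h1
      apply Nat.eq_of_mul_eq_mul_right (show 0 < m by have := N.hm; omega)
      rw [h1]
      ring
    have hnd : ¬ r ∣ (centralizer ({y₁} : Set G)).index := by
      rw [hidx]
      intro h2
      rcases hr.dvd_mul.mp h2 with h3 | h3
      · rcases hr.dvd_mul.mp h3 with h4 | h4
        · exact hrm1 h4
        · apply hr1
          have h5 : r ∣ 2 * m := Dvd.dvd.mul_left hd 2
          have h6 := Nat.dvd_sub h4 h5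
          have e : 2 * m + 1 - 2 * m = 1 := by omega
          rwa [e] at h6
      · exact hr2 ((Nat.prime_dvd_prime_iff_eq hr Nat.prime_two).mp h3)
    obtain ⟨g, hg⟩ := exists_conj_mem _ hnd hzp
    have := (hD _ hg (conj_ne_one g hc1)).2
    rw [N.hconj, hcw] at this
    simp at this
  have hdvd : Nat.card (centralizer ({y} : Set G)) ∣ (2 * m + 1) * ((m + 1) * (2 * m)) := by
    have h1 : Nat.card (centralizer ({y} : Set G)) ∣ Nat.card G := Subgroup.card_subgroup_dvd_card _
    rw [N.hG] at h1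
    have e : (2 * m + 1) * ((m + 1) * (2 * m)) = (m + 1) * ((2 * m + 1) * (2 * m)) := by ring
    rw [e]
    exact h1
  have hcop : Nat.Coprime (Nat.card (centralizer ({y} : Set G))) ((m + 1) * (2 * m)) := by
    apply Nat.coprime_of_dvd
    intro r hr hr1 hr2
    obtain ⟨h1, h2, h3⟩ := hmain r hr hr1
    rcases hr.dvd_mul.mp hr2 with h4 | h4
    · exact h2 h4
    · rcases hr.dvd_mul.mp h4 with h5 | h5
      · exact h1 ((Nat.prime_dvd_prime_iff_eq hr Nat.prime_two).mp h5)
      · exact h3 h5
  exact hcop.dvd_of_dvd_mul_right hdvd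

/-- The class count. -/
lemma count_class {y : G} (hy : Outer K y) (hw : w y = 0) :
    Nat.card (centralizer ({y} : Set G)) = 2 * m + 1 ∧
      ∀ x, Outer K x → w x = 0 → IsConj y x ∨ IsConj y⁻¹ x := by
  classical
  let _ := Fintype.ofFinite G
  set C := Nat.card (centralizer ({y} : Set G)) with hC
  have hdvd := card_dvd h N hy hw
  have hCle : C ≤ 2 * m + 1 := Nat.le_of_dvd (by omega) hdvd
  have hcl : Nat.card {x : G // IsConj y x} * C = Nat.card G := by
    rw [← card_isConj_mul_card_centralizer y]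
    congr 1
    exact Nat.card_congr (Equiv.subtypeEquivRight fun u => isConj_comm)
  have hcl2 := Cfsg.Agent.Lib.Char.RealOdd.card_isConj_inv y
  let S₁ := Finset.univ.filter (fun x => IsConj y x)
  let S₂ := Finset.univ.filter (fun x => IsConj y⁻¹ x)
  let Y := Finset.univ.filter (fun x => Outer K x ∧ w x = 0)
  have hS₁ : S₁.card = Nat.card {x : G // IsConj y x} := by
    rw [Nat.card_eq_fintype_card, Fintype.card_subtype]
  have hS₂ : S₂.card = Nat.card {x : G // IsConj y⁻¹ x} := by
    rw [Nat.card_eq_fintype_card, Fintype.card_subtype]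
  have hYc : Y.card = Nat.card {x : G // Outer K x ∧ w x = 0} := by
    rw [Nat.card_eq_fintype_card, Fintype.card_subtype]
  have hdisj : Disjoint S₁ S₂ := by
    rw [Finset.disjoint_left]
    intro x hx hx2
    simp only [S₁, S₂, Finset.mem_filter, Finset.mem_univ, true_and] at hx hx2
    exact not_real_w0 h N hy hw (hx.trans hx2.symm)
  have hsub : S₁ ∪ S₂ ⊆ Y := by
    intro x hx
    simp only [S₁, S₂, Y, Finset.mem_union, Finset.mem_filter, Finset.mem_univ, true_and] at hx ⊢
    rcases hx with hx | hx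
    · obtain ⟨c, rfl⟩ := isConj_iff.mp hx
      exact ⟨hy.conj c, by rw [N.hconj]; exact hw⟩
    · obtain ⟨c, rfl⟩ := isConj_iff.mp hx
      refine ⟨hy.inv.conj c, ?_⟩
      rw [N.hconj, N.hinv y hy]
      exact hw
  have hcardU : (S₁ ∪ S₂).card = 2 * Nat.card {x : G // IsConj y x} := by
    rw [Finset.card_union_of_disjoint hdisj, hS₁, hS₂, hcl2]
    ring
  have hle := Finset.card_le_card hsub
  rw [hcardU, hYc, N.hY] at hle
  have hCpos : 0 < C := Nat.card_pos
  have hmpos : 0 < m := by have := N.hm; omega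
  have hCge : 2 * m + 1 ≤ C := by
    have h1 : (2 * Nat.card {x : G // IsConj y x}) * C ≤ (4 * m * (m + 1)) * C :=
      Nat.mul_le_mul_right _ hle
    have h2 : (2 * Nat.card {x : G // IsConj y x}) * C = 2 * Nat.card G := by
      rw [← hcl]; ring
    rw [h2, N.hG] at h1
    have h3 : (4 * m * (m + 1)) * (2 * m + 1) ≤ (4 * m * (m + 1)) * C := by
      calc _ = 2 * ((m + 1) * ((2 * m + 1) * (2 * m))) := by ring
        _ ≤ _ := h1
    exact Nat.le_of_mul_le_mul_left h3 (by positivity)
  have hCe : C = 2 * m + 1 := le_antisymm hCle hCge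
  refine ⟨hCe, ?_⟩
  have hcN : Nat.card {x : G // IsConj y x} * (2 * m + 1) = (m + 1) * ((2 * m + 1) * (2 * m)) := by
    rw [← N.hG, ← hcl, hCe]
  have hcN2 : Nat.card {x : G // IsConj y x} = (m + 1) * (2 * m) := by
    apply Nat.eq_of_mul_eq_mul_right (show 0 < 2 * m + 1 by omega)
    rw [hcN]
    ring
  have heq : S₁ ∪ S₂ = Y := by
    apply Finset.eq_of_subset_of_card_le hsub
    rw [hcardU, hYc, N.hY, hcN2]
    apply le_of_eq
    ring
  intro x hxO hxw
  have hxY : x ∈ Y := by
    simp only [Y, Finset.mem_filter, Finset.mem_univ, true_and]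
    exact ⟨hxO, hxw⟩
  rw [← heq] at hxY
  simpa only [S₁, S₂, Finset.mem_union, Finset.mem_filter, Finset.mem_univ, true_and] using hxY

lemma exists_w0 : ∃ y, Outer K y ∧ w y = 0 := by
  have h1 := N.hY
  have hm := N.hm
  have h2 : 0 < Nat.card {y : G // Outer K y ∧ w y = 0} := by
    rw [h1]
    positivity
  haveI : Nonempty {y : G // Outer K y ∧ w y = 0} := (Nat.card_pos_iff.mp h2).1
  obtain ⟨⟨y, hy⟩⟩ := this
  exact ⟨y, hy⟩

/-- There is a prime `p` which is the order of all elements with `w = 0`. -/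
lemma exists_p : ∃ p : ℕ, p.Prime ∧ ∀ y, Outer K y → w y = 0 → orderOf y = p := by
  obtain ⟨y₀, hy₀, hw₀⟩ := exists_w0 h N
  have hne : orderOf y₀ ≠ 1 := fun h1 => hy₀.1 (orderOf_eq_one_iff.mp h1)
  have hp := Nat.minFac_prime hne
  set p := (orderOf y₀).minFac with hpd
  have hpd2 : p ∣ orderOf y₀ := Nat.minFac_dvd _
  have hc := orderOf_pow_orderOf_div (x := y₀) (n := p) (by
    exact (orderOf_pos y₀).ne') hpd2
  set c := y₀ ^ (orderOf y₀ / p) with hcd
  have hc1 : c ≠ 1 := by
    intro h0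
    rw [h0, orderOf_one] at hc
    exact hp.one_lt.ne hc
  have hcm : c ∈ centralizer ({y₀} : Set G) := by
    rw [Subgroup.mem_centralizer_singleton_iff]
    exact (Commute.refl y₀).pow_left _
  obtain ⟨hcO, hcw⟩ := cent_w0 h N hy₀ hw₀ hcm hc1
  have hord : ∀ x, Outer K x → w x = 0 → orderOf x = orderOf y₀ := by
    intro x hx hxw
    rcases (count_class h N hy₀ hw₀).2 x hx hxw with h1 | h1
    · obtain ⟨a, rfl⟩ := isConj_iff.mp h1
      exact order_conj a y₀
    · obtain ⟨a, rfl⟩ := isConj_iff.mp h1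
      rw [order_conj, orderOf_inv]
  have h0 := hord c hcO hcw
  rw [hc] at h0
  refine ⟨p, hp, fun y hy hyw => ?_⟩
  rw [hord y hy hyw, h0]

end

end Cfsg.Agent.Lib.BSW.CaseIIa
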