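import Cfsg.Agent.Lib.BSW.CaseIIa
import Cfsg.Agent.S0183
import Cfsg.Agent.Lib.SmallSimple.SylowBasic

/-!
# Abstract Brauer–Suzuki–Wall: the case `d = 1 - 2k`, the Sylow subgroups form a TI-set
-/

set_option autoImplicit false
set_option linter.unusedSectionVars false
set_option linter.unusedVariables false

namespace Cfsg.Agent.Lib.BSW.CaseIIb

open Subgroup hiding mem_centralizer_singleton_iff
open Cfsg Cfsg.Agent.Lib.BSW.Setup Cfsg.Agent.Lib.BSW.Group Cfsg.Agent.Lib.BSW.Data
  Cfsg.Agent.Lib.BSW.CaseIIa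
open Cfsg.Agent.Lib.Involutions.Counting (PairsWithProduct pairs_fst_inverts
  exists_involution_inverting)
open Cfsg.Agent.Lib.Core.Basic (pCore_isPGroup)

variable {G : Type*} [Group G] [Finite G]

section

variable {t s : G} {K : Subgroup G} {w : G → ℤ} {m : ℕ} (h : Hyp t s K) (N : Num K w m)
  {p : ℕ} [hp : Fact p.Prime] (hord : ∀ y, Outer K y → w y = 0 → orderOf y = p)

include h N hord

lemma p_facts : p ≠ 2 ∧ p ∣ 2 * m + 1 ∧ ¬ p ∣ m ∧ ¬ p ∣ m + 1 := by
  obtain ⟨y₀, hy₀, hw₀⟩ := exists_w0 h N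
  have h1 : p ∣ 2 * m + 1 := by
    rw [← (count_class h N hy₀ hw₀).1, ← hord y₀ hy₀ hw₀]
    have := orderOf_dvd_natCard (⟨y₀, Subgroup.mem_centralizer_singleton_iff.mpr rfl⟩ :
      centralizer ({y₀} : Set G))
    rwa [Subgroup.orderOf_mk] at this
  have hp1 : ¬ p ∣ 1 := Nat.Prime.not_dvd_one hp.out
  refine ⟨?_, h1, ?_, ?_⟩
  · rintro rfl
    omega
  · intro h2
    apply hp1
    have h3 := Nat.dvd_sub h1 (Dvd.dvd.mul_left h2 2)
    have e : 2 * m + 1 - 2 * m = 1 := by omega
    rwa [e] at h3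
  · intro h2
    apply hp1
    have h3 := Nat.dvd_sub (Dvd.dvd.mul_left h2 2) h1
    have e : 2 * (m + 1) - (2 * m + 1) = 1 := by omega
    rwa [e] at h3

lemma isPGroup_cent {y : G} (hy : Outer K y) (hw : w y = 0) :
    IsPGroup p (centralizer ({y} : Set G)) := by
  intro c
  by_cases hc1 : (c : G) = 1
  · refine ⟨0, ?_⟩
    apply Subtype.ext
    simpa using hc1
  · obtain ⟨hcO, hcw⟩ := cent_w0 h N hy hw c.2 hc1
    refine ⟨1, ?_⟩
    apply Subtype.ext
    rw [pow_one]
    push_cast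
    rw [← hord _ hcO hcw, pow_orderOf_eq_one]

lemma not_dvd_index {y : G} (hy : Outer K y) (hw : w y = 0) :
    ¬ p ∣ (centralizer ({y} : Set G)).index := by
  obtain ⟨h1, h2, h3, h4⟩ := p_facts h N hord
  have hidx : (centralizer ({y} : Set G)).index = (m + 1) * (2 * m) := by
    have e := (centralizer ({y} : Set G)).index_mul_card
    rw [(count_class h N hy hw).1, N.hG] at e
    apply Nat.eq_of_mul_eq_mul_right (show 0 < 2 * m + 1 by omega)
    rw [e]
    ring
  rw [hidx]
  intro h5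
  rcases (hp.out).dvd_mul.mp h5 with h6 | h6
  · exact h4 h6
  · rcases (hp.out).dvd_mul.mp h6 with h7 | h7
    · exact h1 ((Nat.prime_dvd_prime_iff_eq hp.out Nat.prime_two).mp h7)
    · exact h3 h7

/-- Non-identity elements of Sylow `p`-subgroups have `w = 0`. -/
lemma sylow_mem (P : Sylow p G) {x : G} (hx : x ∈ P) (hx1 : x ≠ 1) : Outer K x ∧ w x = 0 := by
  obtain ⟨h1, h2, h3, h4⟩ := p_facts h N hord
  have hpd : p ∣ orderOf x := by
    obtain ⟨n, hn⟩ := P.2 ⟨x, hx⟩
    have h5 : x ^ p ^ n = 1 := by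
      have := congrArg Subtype.val hn
      simpa using this
    obtain ⟨j, -, hj⟩ := (Nat.dvd_prime_pow hp.out).mp (orderOf_dvd_of_pow_eq_one h5)
    rw [hj]
    rcases Nat.eq_zero_or_pos j with rfl | hj0
    · exfalso
      rw [pow_zero] at hj
      exact hx1 (orderOf_eq_one_iff.mp hj)
    · exact dvd_pow_self p hj0.ne'
  rcases trichotomy K x with h5 | h5 | h5
  · exact absurd h5 hx1
  · exfalso
    obtain ⟨-, c, hc⟩ := h5
    apply h4
    rw [← N.hk]
    have h6 := orderOf_dvd_natCard (⟨c * x * c⁻¹, hc⟩ : K)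
    rw [Subgroup.orderOf_mk, order_conj] at h6
    exact hpd.trans h6
  · refine ⟨h5, ?_⟩
    rcases N.hval x h5 with h6 | h6
    · exact h6
    · exfalso
      obtain ⟨u, hu, hui⟩ := inv_of_w1 h N h5 h6
      have h7 := (w_of_inverted h N h5 hu hui).2
      apply h3
      rw [← h7]
      have h8 := orderOf_dvd_natCard (⟨x, Subgroup.mem_centralizer_singleton_iff.mpr rfl⟩ :
        centralizer ({x} : Set G))
      rw [Subgroup.orderOf_mk] at h8
      exact hpd.trans h8

/-- The normalizer of a nontrivial subgroup with all `w = 0` has odd order. -/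
lemma odd_normalizer {R : Subgroup G} (hR1 : R ≠ ⊥) (hR : ∀ x ∈ R, x ≠ 1 → Outer K x ∧ w x = 0) :
    Odd (Nat.card (normalizer (R : Set G))) := by
  rw [← Nat.not_even_iff_odd]
  intro he
  haveI : Fact (Nat.Prime 2) := ⟨Nat.prime_two⟩
  obtain ⟨u, hu⟩ := exists_prime_orderOf_dvd_card' (G := normalizer (R : Set G)) 2 he.two_dvd
  have hu' : orderOf (u : G) = 2 := by rw [Subgroup.orderOf_coe]; exact hu
  have huu : (u : G) * u = 1 := by
    have := pow_orderOf_eq_one (u : G)
    rw [hu', sq] at this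
    exact this
  have hui : (u : G)⁻¹ = u := inv_eq_of_mul_eq_one_left huu
  obtain ⟨c, hc, hc1⟩ : ∃ x ∈ R, x ≠ 1 := by
    by_contra hcon
    push Not at hcon
    exact hR1 ((Subgroup.eq_bot_iff_forall R).mpr hcon)
  have hinv := Cfsg.Agent.Lib.Perm.KleinCent.inverts_of_fpf R huu
    (fun a ha => by
      have := (mem_normalizer_iff.mp u.2 a).mp ha
      rwa [hui] at this)
    (fun a ha hca => by
      by_contra ha1
      exact not_comm_invol h (hR a ha ha1).1 hu' hca)
  have h1 := hinv c hc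
  have h2 := (w_of_inverted h N (hR c hc hc1).1 hu' (by rw [hui]; exact h1)).1
  rw [(hR c hc hc1).2] at h2
  simp at h2

/-- A subgroup of odd order is a CN-group. -/
lemma cn_of_odd (L : Subgroup G) (hL : Odd (Nat.card L)) : IsCNGroup L := by
  classical
  intro g hg
  have hg1 : (g : G) ≠ 1 := fun h0 => hg (Subtype.ext h0)
  have hcent : ∀ a : centralizer ({g} : Set L), (a.1 : G) * g = g * a.1 := by
    intro a
    have := Subgroup.mem_centralizer_singleton_iff.mp a.2
    exact congrArg Subtype.val this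
  have hnil_comm : (∀ a b : centralizer ({g} : Set L), (a.1 : G) * b.1 = b.1 * a.1) →
      Group.IsNilpotent (centralizer ({g} : Set L)) := by
    intro hc
    letI : CommGroup (centralizer ({g} : Set L)) :=
      { (inferInstance : Group (centralizer ({g} : Set L))) with
        mul_comm := fun a b => Subtype.ext (Subtype.ext (hc a b)) }
    exact CommGroup.isNilpotent
  rcases trichotomy K (g : G) with h1 | h1 | h1
  · exact absurd h1 hg1
  · obtain ⟨-, b, hb⟩ := h1
    apply hnil_comm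
    have hmem : ∀ a : centralizer ({g} : Set L), b * a.1 * b⁻¹ ∈ K := by
      intro a
      have h2 : (b * a.1 * b⁻¹) * (b * g * b⁻¹) = (b * g * b⁻¹) * (b * a.1 * b⁻¹) := by
        calc (b * a.1 * b⁻¹) * (b * g * b⁻¹) = b * ((a.1 : G) * g) * b⁻¹ := by group
          _ = b * ((g : G) * a.1) * b⁻¹ := by rw [hcent a]
          _ = _ := by group
      have h3 := comm_t_of_comm h hb (conj_ne_one b hg1) h2
      apply mem_K_of_comm_of_odd h h3
      rw [order_conj, show orderOf ((a.1 : L) : G) = orderOf (a.1 : L) from Subgroup.orderOf_coe _]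
      exact Odd.of_dvd_nat hL (orderOf_dvd_natCard (a.1 : L))
    intro a₁ a₂
    have h5 := h.hcomm _ (hmem a₁) _ (hmem a₂)
    have h6 : b * ((a₁.1 : G) * a₂.1) * b⁻¹ = b * ((a₂.1 : G) * a₁.1) * b⁻¹ := by
      calc b * ((a₁.1 : G) * a₂.1) * b⁻¹ = (b * a₁.1 * b⁻¹) * (b * a₂.1 * b⁻¹) := by group
        _ = (b * a₂.1 * b⁻¹) * (b * a₁.1 * b⁻¹) := h5
        _ = _ := by group
    exact mul_left_cancel (mul_right_cancel h6)
  · rcases N.hval g h1 with hw | hw
    · -- `p`-group
      have hP := isPGroup_cent h N hord h1 hw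
      have : IsPGroup p (centralizer ({g} : Set L)) := by
        intro a
        obtain ⟨n, hn⟩ := hP ⟨(a.1 : G), Subgroup.mem_centralizer_singleton_iff.mpr (hcent a)⟩
        refine ⟨n, ?_⟩
        have h2 : ((a.1 : G)) ^ p ^ n = 1 := by
          have := congrArg Subtype.val hn
          simpa using this
        apply Subtype.ext
        apply Subtype.ext
        simpa using h2
      exact this.isNilpotent
    · apply hnil_comm
      have hsc := (sc_w1 h N h1 hw).1
      intro a b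
      exact hsc.comm (Subgroup.mem_centralizer_singleton_iff.mpr (hcent a))
        (Subgroup.mem_centralizer_singleton_iff.mpr (hcent b))

/-- An element of order `p` does not normalize the centralizer of an element with `w = -1`. -/
lemma not_normalize_w1 {c g : G} (hc : Outer K c) (hw : w c = -1) (hg : orderOf g = p)
    (hgn : g ∈ normalizer (centralizer ({c} : Set G) : Set G)) : False := by
  obtain ⟨h1, h2, h3, h4⟩ := p_facts h N hord
  obtain ⟨u, hu, hui⟩ := inv_of_w1 h N hc hw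
  obtain ⟨b, hb, hh⟩ := exists_hyp h hu
  have hc' : Outer (conjS b K) c := outer_conjS_iff.mpr hc
  have hcn := card_normalizer hh hc' hui
  rw [(w_of_inverted h N hc hu hui).2] at hcn
  have hdvd : p ∣ Nat.card (normalizer (centralizer ({c} : Set G) : Set G)) := by
    rw [← hg]
    have := orderOf_dvd_natCard (⟨g, hgn⟩ : normalizer (centralizer ({c} : Set G) : Set G))
    rwa [Subgroup.orderOf_mk] at this
  rw [hcn] at hdvd
  rcases (hp.out).dvd_mul.mp hdvd with h5 | h5
  · exact h3 h5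
  · apply h4
    rw [← N.hk, ← card_conjS b K]
    exact h5.trans (Subgroup.card_dvd_of_le inf_le_left)

/-- An element of order `p` does not normalize a nontrivial subgroup commuting with `c` where
`c` is conjugate into `K`. -/
lemma not_normalize_big {c g : G} {Y : Subgroup G} (hc : Big K c) (hcY : c ∈ Y)
    (hY : ∀ a ∈ Y, a * c = c * a) (hodd : ∀ a ∈ Y, Odd (orderOf a)) (hg : orderOf g = p)
    (hgn : g ∈ normalizer (Y : Set G)) : False := by
  obtain ⟨h1, h2, h3, h4⟩ := p_facts h N hord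
  obtain ⟨hc1, b, hb⟩ := hc
  have hmem : ∀ a ∈ Y, b * a * b⁻¹ ∈ K := by
    intro a ha
    have h5 : (b * a * b⁻¹) * (b * c * b⁻¹) = (b * c * b⁻¹) * (b * a * b⁻¹) := by
      calc (b * a * b⁻¹) * (b * c * b⁻¹) = b * (a * c) * b⁻¹ := by group
        _ = b * (c * a) * b⁻¹ := by rw [hY a ha]
        _ = _ := by group
    have h6 := comm_t_of_comm h hb (conj_ne_one b hc1) h5
    apply mem_K_of_comm_of_odd h h6
    rw [order_conj]
    exact hodd a ha
  have h7 : g * c * g⁻¹ ∈ Y := (mem_normalizer_iff.mp hgn c).mp hcY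
  have h8 := hmem _ h7
  have h9 : (b * g * b⁻¹) * (b * c * b⁻¹) * (b * g * b⁻¹)⁻¹ ∈ K := by
    have : (b * g * b⁻¹) * (b * c * b⁻¹) * (b * g * b⁻¹)⁻¹ = b * (g * c * g⁻¹) * b⁻¹ := by group
    rwa [this]
  have h10 := h.hTI _ hb (conj_ne_one b hc1) _ h9
  have h11 : b * g * b⁻¹ ∈ K := by
    apply mem_K_of_comm_of_odd h h10
    rw [order_conj, hg, Nat.odd_iff]
    exact (hp.out).eq_two_or_odd.resolve_left h1
  have h12 := orderOf_dvd_natCard (⟨_, h11⟩ : K)
  rw [Subgroup.orderOf_mk, order_conj, hg, N.hk] at h12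
  exact h4 h12

/-- The Sylow `p`-subgroups form a TI set. -/
theorem ti (P₁ P₂ : Sylow p G) (hne : P₁ ≠ P₂) : (P₁ : Subgroup G) ⊓ P₂ = ⊥ := by
  classical
  by_contra hcon
  let T := {x : Sylow p G × Sylow p G // x.1 ≠ x.2 ∧ (x.1 : Subgroup G) ⊓ x.2 ≠ ⊥}
  haveI : Nonempty T := ⟨⟨(P₁, P₂), hne, hcon⟩⟩
  obtain ⟨⟨⟨P₁, P₂⟩, hne, hR1⟩, hmax⟩ := Finite.exists_max
    (fun x : T => Nat.card ((x.1.1 : Subgroup G) ⊓ x.1.2 : Subgroup G))
  simp only at hne hR1 hmax
  set R : Subgroup G := (P₁ : Subgroup G) ⊓ P₂ with hRd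
  have hmax' : ∀ A B : Sylow p G, A ≠ B → (A : Subgroup G) ⊓ B ≠ ⊥ →
      Nat.card ((A : Subgroup G) ⊓ B : Subgroup G) ≤ Nat.card R :=
    fun A B hAB hAB2 => hmax ⟨(A, B), hAB, hAB2⟩
  have hRmem : ∀ x ∈ R, x ≠ 1 → Outer K x ∧ w x = 0 :=
    fun x hx hx1 => sylow_mem h N hord P₁ hx.1 hx1
  have hLodd := odd_normalizer h N hord hR1 hRmem
  have hCN := cn_of_odd h N hord _ hLodd
  haveI hsolv : Group.IsSolvable (normalizer (R : Set G)) := Cfsg.Agent.S0183.result hLodd hCN
  obtain ⟨f1, f2, f3, f4⟩ := p_facts h N hord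
  have hlt1 : R < P₁ := by
    refine lt_of_le_of_ne inf_le_left ?_
    intro h0
    apply hne
    have h1 : (P₁ : Subgroup G) ≤ P₂ := by
      rw [← h0]
      exact inf_le_right
    exact (Sylow.ext (P₁.is_maximal' P₂.2 h1)).symm
  have hlt2 : R < P₂ := by
    refine lt_of_le_of_ne inf_le_right ?_
    intro h0
    apply hne
    have h1 : (P₂ : Subgroup G) ≤ P₁ := by
      rw [← h0]
      exact inf_le_left
    exact Sylow.ext (P₂.is_maximal' P₁.2 h1)
  set L := normalizer (R : Set G) with hLd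
  have hindex : p ∣ (pCore p L).index := by
    by_contra hnd
    have hall : ∀ a : L, (∃ n, (a : G) ^ p ^ n = 1) → a ∈ pCore p L := by
      rintro a ⟨n, hn⟩
      have h1 : a ^ p ^ n = 1 := Subtype.ext (by simpa using hn)
      have h2 : ((a : L ⧸ pCore p L)) ^ p ^ n = 1 := by
        rw [← QuotientGroup.mk_pow, h1, QuotientGroup.mk_one]
      have h3 := orderOf_dvd_of_pow_eq_one h2
      have h4 := orderOf_dvd_natCard (a : L ⧸ pCore p L)
      have h5 : Nat.card (L ⧸ pCore p L) = (pCore p L).index := rfl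
      rw [h5] at h4
      have h6 : Nat.Coprime (orderOf (a : L ⧸ pCore p L)) (pCore p L).index := by
        obtain ⟨j, -, hj⟩ := (Nat.dvd_prime_pow hp.out).mp h3
        rw [hj]
        exact Nat.Coprime.pow_left _ ((Nat.Prime.coprime_iff_not_dvd hp.out).mpr hnd)
      have h7 : orderOf (a : L ⧸ pCore p L) = 1 := Nat.Coprime.eq_one_of_dvd h6 h4
      have h8 := orderOf_eq_one_iff.mp h7
      exact (QuotientGroup.eq_one_iff a).mp h8
    let W : Subgroup G := (pCore p L).map L.subtype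
    have hWp : IsPGroup p W := IsPGroup.map pCore_isPGroup L.subtype
    obtain ⟨P₃, hP₃⟩ := hWp.exists_le_sylow
    have hsyl : ∀ (P : Sylow p G) (x : G), x ∈ P → ∃ n, x ^ p ^ n = 1 := by
      intro P x hx
      obtain ⟨n, hn⟩ := P.2 ⟨x, hx⟩
      exact ⟨n, by simpa using congrArg Subtype.val hn⟩
    have hW : ∀ (P : Sylow p G) (x : G), x ∈ P → ∀ hxL : x ∈ L, x ∈ W := by
      intro P x hx hxL
      exact ⟨⟨x, hxL⟩, hall ⟨x, hxL⟩ (hsyl P x hx), rfl⟩
    have hRP₃ : R ≤ P₃ := fun x hx =>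
      hP₃ (hW P₁ x hx.1 ((Subgroup.le_normalizer) hx))
    have hkey : ∀ P : Sylow p G, R < P → P = P₃ := by
      intro P hlt
      by_contra hPne
      obtain ⟨a, haP, haR, haL⟩ :=
        Cfsg.Agent.Lib.SmallSimple.SylowBasic.exists_mem_normalizer_not_mem P.2 hlt
      have haP₃ : a ∈ P₃ := hP₃ (hW P a haP haL)
      have hle : R ≤ (P : Subgroup G) ⊓ P₃ := le_inf hlt.le hRP₃
      have hne' : (P : Subgroup G) ⊓ P₃ ≠ ⊥ := by
        intro h0
        apply hR1
        rw [h0] at hle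
        exact le_bot_iff.mp hle
      have h1 := hmax' P P₃ hPne hne'
      have h2 := Subgroup.eq_of_le_of_card_ge hle h1
      apply haR
      rw [h2]
      exact ⟨haP, haP₃⟩
    exact hne ((hkey P₁ hlt1).trans (hkey P₂ hlt2).symm)
  obtain ⟨r, hr, hrp, Y, hY, hYr, hpN⟩ := exists_sub_normalizer hindex
  haveI : Fact r.Prime := ⟨hr⟩
  haveI : Nontrivial Y := (Subgroup.nontrivial_iff_ne_bot Y).mpr hY
  have hz := hYr.center_nontrivial
  obtain ⟨c₀, hc₀⟩ := exists_ne (1 : center Y)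
  obtain ⟨g₀, hg₀⟩ := exists_prime_orderOf_dvd_card' (G := normalizer (Y : Set L)) p hpN
  let c : G := ((c₀ : Y) : L)
  let g : G := ((g₀ : L) : G)
  have hg : orderOf g = p := by
    have h1 : orderOf ((g₀ : L) : G) = orderOf (g₀ : L) := Subgroup.orderOf_coe _
    have h2 : orderOf (g₀ : L) = orderOf g₀ := Subgroup.orderOf_coe _
    rw [h1, h2, hg₀]
  have hc1 : c ≠ 1 := by
    intro h0
    apply hc₀
    exact Subtype.ext (Subtype.ext (Subtype.ext h0))
  let Y' : Subgroup G := Y.map L.subtype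
  have hcY' : c ∈ Y' := ⟨(c₀ : Y), (c₀ : Y).2, rfl⟩
  have hY'comm : ∀ a ∈ Y', a * c = c * a := by
    rintro _ ⟨a, ha, rfl⟩
    have h1 := (Subgroup.mem_center_iff.mp c₀.2 ⟨a, ha⟩)
    have h2 := congrArg (fun z : Y => ((z : L) : G)) h1
    simpa using h2
  have hgn : g ∈ normalizer (Y' : Set G) := by
    rw [mem_normalizer_iff]
    intro a
    constructor
    · rintro ⟨a', ha', rfl⟩
      refine ⟨g₀ * a' * (g₀ : L)⁻¹, (mem_normalizer_iff.mp g₀.2 a').mp ha', rfl⟩
    · rintro ⟨b, hb, hbe⟩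
      have haL : a ∈ L := by
        have e : a = ((g₀ : L) : G)⁻¹ * ((b : L) : G) * ((g₀ : L) : G) := by
          rw [show ((b : L) : G) = L.subtype b from rfl, hbe]
          change a = g⁻¹ * (g * a * g⁻¹) * g
          group
        rw [e]
        exact L.mul_mem (L.mul_mem (L.inv_mem (g₀ : L).2) b.2) (g₀ : L).2
      refine ⟨⟨a, haL⟩, (mem_normalizer_iff.mp g₀.2 ⟨a, haL⟩).mpr ?_, rfl⟩
      have : (g₀ : L) * ⟨a, haL⟩ * (g₀ : L)⁻¹ = b := by
        apply Subtype.ext
        exact hbe.symm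
      rwa [this]
  have hoddY : ∀ a ∈ Y', Odd (orderOf a) := by
    rintro _ ⟨a, ha, rfl⟩
    change Odd (orderOf (a : G))
    rw [Subgroup.orderOf_coe]
    exact Odd.of_dvd_nat hLodd (orderOf_dvd_natCard a)
  rcases trichotomy K c with h1 | h1 | h1
  · exact hc1 h1
  · exact not_normalize_big h N hord h1 hcY' hY'comm hoddY hg hgn
  · rcases N.hval c h1 with hw | hw
    · -- `c` has order `p`, but is an `r`-element
      have h2 := hord c h1 hw
      obtain ⟨n, hn⟩ := hYr (c₀ : Y)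
      have h3 : c ^ r ^ n = 1 := by
        have := congrArg (fun z : Y => ((z : L) : G)) hn
        simpa using this
      have h4 := orderOf_dvd_of_pow_eq_one h3
      rw [h2] at h4
      exact hrp ((Nat.prime_dvd_prime_iff_eq hp.out hr).mp (hp.out.dvd_of_dvd_pow h4)).symm
    · have hsc := (sc_w1 h N h1 hw).1
      have hcD : c ∈ centralizer ({c} : Set G) := Subgroup.mem_centralizer_singleton_iff.mpr rfl
      have h2 : g * c * g⁻¹ ∈ centralizer ({c} : Set G) := by
        rw [Subgroup.mem_centralizer_singleton_iff]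
        exact hY'comm _ ((mem_normalizer_iff.mp hgn c).mp hcY')
      exact not_normalize_w1 h N hord h1 hw hg (hsc.mem_normalizer hcD hc1 h2)

end

end Cfsg.Agent.Lib.BSW.CaseIIb
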