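import Cfsg.Agent.Lib.BSW.CaseIIb

/-!
# Abstract Brauer–Suzuki–Wall: the case `d = 1 - 2k`, conclusion
-/

set_option autoImplicit false
set_option linter.unusedSectionVars false
set_option linter.unusedVariables false

namespace Cfsg.Agent.Lib.BSW.CaseIIc

open Subgroup hiding mem_centralizer_singleton_iff
open Cfsg Cfsg.Agent.Lib.BSW.Setup Cfsg.Agent.Lib.BSW.Group Cfsg.Agent.Lib.BSW.Data
  Cfsg.Agent.Lib.BSW.CaseIIa Cfsg.Agent.Lib.BSW.CaseIIb
open Pointwise

variable {G : Type*} [Group G] [Finite G]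

/-- The complement acts freely on the nonidentity elements. -/
lemma frob_dvd {K D : Subgroup G} (hD : SelfCent D) (hdis : ∀ a ∈ D, a ∈ K → a = 1) :
    Nat.card (K ⊓ normalizer (D : Set G) : Subgroup G) ∣ Nat.card D - 1 := by
  let A : Subgroup G := K ⊓ normalizer (D : Set G)
  let X := {x : D // x ≠ 1}
  letI : MulAction A X :=
    { smul := fun a x => ⟨⟨a.1 * x.1.1 * a.1⁻¹, (mem_normalizer_iff.mp a.2.2 _).mp x.1.2⟩, fun h0 =>
        x.2 (Subtype.ext (by
          have h1 : a.1 * x.1.1 * a.1⁻¹ = 1 := congrArg Subtype.val h0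
          have h2 := congrArg (fun z => a.1⁻¹ * z * a.1) h1
          simpa [mul_assoc] using h2))⟩
      one_smul := fun x => by
        apply Subtype.ext
        apply Subtype.ext
        change ((1 : A) : G) * x.1.1 * ((1 : A) : G)⁻¹ = x.1.1
        simp
      mul_smul := fun a b x => by
        apply Subtype.ext
        apply Subtype.ext
        change ((a * b : A) : G) * x.1.1 * ((a * b : A) : G)⁻¹ =
          a.1 * (b.1 * x.1.1 * b.1⁻¹) * a.1⁻¹
        push_cast
        group }
  have hfree : ∀ (a : A) (x : X), a • x = x → a = 1 := by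
    intro a x hx
    have h1 : a.1 * x.1.1 * a.1⁻¹ = x.1.1 :=
      congrArg (fun z : X => (z.1 : G)) hx
    have h2 : a.1 ∈ centralizer ({x.1.1} : Set G) := by
      rw [Subgroup.mem_centralizer_singleton_iff]
      calc a.1 * x.1.1 = (a.1 * x.1.1 * a.1⁻¹) * a.1 := by group
        _ = x.1.1 * a.1 := by rw [h1]
    have hx1 : x.1.1 ≠ 1 := fun h0 => x.2 (Subtype.ext h0)
    rw [hD _ x.1.2 hx1] at h2
    exact Subtype.ext (hdis _ h2 a.2.1)
  have h3 := card_dvd_of_free hfree
  have h4 : Nat.card X + 1 = Nat.card D := card_ne_one_K D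
  have h5 : Nat.card X = Nat.card D - 1 := by omega
  rw [← h5]
  exact h3

section

variable {t s : G} {K : Subgroup G} {w : G → ℤ} {m : ℕ} (h : Hyp t s K) (N : Num K w m)

include h N

/-- The structure of the normalizer of the centralizer of a `w = -1` element. -/
lemma final_D {y : G} (hy : Outer K y) (hw : w y = -1) (hi : t * y * t⁻¹ = y⁻¹) :
    (∀ X : Subgroup G, X ≤ centralizer ({y} : Set G) → X ≠ ⊥ →
        normalizer (X : Set G) = normalizer (centralizer ({y} : Set G) : Set G)) ∧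
      t ∉ centralizer ({y} : Set G) ∧ (∀ d ∈ centralizer ({y} : Set G), t * d * t⁻¹ = d⁻¹) ∧
      normalizer (centralizer ({y} : Set G) : Set G) = centralizer ({y} : Set G) ⊔ zpowers t := by
  obtain ⟨hsc, hD⟩ := sc_w1 h N hy hw
  set D := centralizer ({y} : Set G) with hDd
  have hDm : ∀ {a : G}, a ∈ D ↔ a * y = y * a := Subgroup.mem_centralizer_singleton_iff
  have hcard := (w_of_inverted h N hy h.ht hi).2
  have hti := t_inv h
  have hinvD : ∀ d ∈ D, t * d * t⁻¹ = d⁻¹ := fun d hd =>
    invert_centralizer h hy hi (hDm.mp hd)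
  have htD : t ∉ D := by
    intro h0
    have h1 := orderOf_dvd_natCard (⟨t, h0⟩ : D)
    rw [Subgroup.orderOf_mk, h.ht, hcard] at h1
    have := N.hodd
    rw [Nat.odd_iff] at this
    omega
  have hdis : ∀ a ∈ D, a ∈ K → a = 1 := by
    intro a ha haK
    by_contra ha1
    exact (hD a ha ha1).1.2 1 (by simpa using haK)
  have hfd := frob_dvd (K := K) hsc hdis
  rw [hcard] at hfd
  have htN : t ∈ normalizer (D : Set G) := by
    rw [mem_normalizer_iff]
    intro x
    constructor
    · intro hx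
      rw [hinvD x hx]
      exact D.inv_mem hx
    · intro hx
      have h1 := hinvD _ hx
      have e : t * (t * x * t⁻¹) * t⁻¹ = x := by
        rw [hti]
        calc t * (t * x * t) * t = (t * t) * x * (t * t) := by group
          _ = x := by rw [tt h]; simp
      rw [e] at h1
      rw [h1]
      exact D.inv_mem hx
  set A : Subgroup G := K ⊓ normalizer (D : Set G) with hA
  have hcA : Nat.card A = 2 := by
    have h1 : Nat.card A ∣ m + 1 := by
      rw [← N.hk]
      exact Subgroup.card_dvd_of_le inf_le_left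
    have h2 := Nat.dvd_sub h1 hfd
    have e : m + 1 - (m - 1) = 2 := by have := N.hm; omega
    rw [e] at h2
    have h3 : Nat.card A ≠ 1 := by
      intro h0
      have h4 : (⟨t, h.htK, htN⟩ : A) = 1 := by
        haveI : Subsingleton A := (Nat.card_eq_one_iff_unique.mp h0).1
        exact Subsingleton.elim _ _
      exact t_ne_one h (congrArg Subtype.val h4)
    have h5 := Nat.le_of_dvd (by omega) h2
    have h6 : 0 < Nat.card A := Nat.card_pos
    omega
  have hAm : ∀ a ∈ A, a = 1 ∨ a = t := by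
    intro a ha
    by_cases ha1 : a = 1
    · exact Or.inl ha1
    · right
      obtain ⟨u, -, hu⟩ := (Nat.card_eq_two_iff' (1 : A)).mp hcA
      have h1 := hu ⟨a, ha⟩ (fun h0 => ha1 (congrArg Subtype.val h0))
      have h2 := hu ⟨t, h.htK, htN⟩ (fun h0 => t_ne_one h (congrArg Subtype.val h0))
      have h3 := h1.trans h2.symm
      exact congrArg Subtype.val h3
  have hnorm : normalizer (D : Set G) = D ⊔ zpowers t := by
    apply le_antisymm
    · intro g hg
      obtain ⟨r, hr, hrg⟩ := normalizer_decomp h hy hi hg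
      have hrA : r * g ∈ A := ⟨hrg, (normalizer (D : Set G)).mul_mem (Subgroup.le_normalizer hr) hg⟩
      have e : g = r⁻¹ * (r * g) := by group
      rw [e]
      refine mul_mem ((le_sup_left : D ≤ D ⊔ zpowers t) (D.inv_mem hr)) ?_
      rcases hAm _ hrA with h1 | h1
      · rw [h1]
        exact one_mem _
      · rw [h1]
        exact (le_sup_right : zpowers t ≤ D ⊔ zpowers t) (mem_zpowers t)
    · apply sup_le Subgroup.le_normalizer
      rw [Subgroup.zpowers_le]
      exact htN
  refine ⟨fun X hX hX1 => ?_, htD, hinvD, hnorm⟩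
  apply le_antisymm (hsc.normalizer_le hX hX1)
  rw [hnorm]
  apply sup_le
  · intro a ha
    rw [mem_normalizer_iff]
    intro x
    constructor
    · intro hx
      rw [hsc.comm ha (hX hx)]
      simpa using hx
    · intro hx
      have hxD : x ∈ D := by
        have h1 := hX hx
        have e : x = a⁻¹ * (a * x * a⁻¹) * a := by group
        rw [e]
        exact D.mul_mem (D.mul_mem (D.inv_mem ha) h1) ha
      rw [hsc.comm ha hxD] at hx
      simpa using hx
  · rw [Subgroup.zpowers_le, mem_normalizer_iff]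
    intro x
    constructor
    · intro hx
      rw [hinvD x (hX hx)]
      exact X.inv_mem hx
    · intro hx
      have h1 := hinvD _ (hX hx)
      have e : t * (t * x * t⁻¹) * t⁻¹ = x := by
        rw [hti]
        calc t * (t * x * t) * t = (t * t) * x * (t * t) := by group
          _ = x := by rw [tt h]; simp
      rw [e] at h1
      rw [h1]
      exact X.inv_mem hx

variable {p : ℕ} [hp : Fact p.Prime] (hord : ∀ y, Outer K y → w y = 0 → orderOf y = p)

include hord

/-- Centralizers of `w = 0` elements are TI. -/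
lemma selfcent_y0 {y : G} (hy : Outer K y) (hw : w y = 0) :
    SelfCent (centralizer ({y} : Set G)) := by
  intro z hz hz1
  obtain ⟨hzO, hzw⟩ := cent_w0 h N hy hw hz hz1
  let A : Sylow p G := (isPGroup_cent h N hord hy hw).toSylow (not_dvd_index h N hord hy hw)
  let B : Sylow p G := (isPGroup_cent h N hord hzO hzw).toSylow (not_dvd_index h N hord hzO hzw)
  by_cases hAB : A = B
  · have : (A : Subgroup G) = B := by rw [hAB]
    exact this.symm
  · exfalso
    have h1 := ti h N hord A B hAB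
    have hmem : z ∈ (A : Subgroup G) ⊓ B := ⟨hz, Subgroup.mem_centralizer_singleton_iff.mpr rfl⟩
    rw [h1, Subgroup.mem_bot] at hmem
    exact hz1 hmem

theorem core : Concl G := by
  classical
  obtain ⟨y₀, hy₀, hw₀⟩ := exists_w0 h N
  obtain ⟨f1, f2, f3, f4⟩ := p_facts h N hord
  have hmpos : 3 ≤ m := N.hm
  have hmodd := N.hodd
  have htt := tt h
  have hti := t_inv h
  set Q := centralizer ({y₀} : Set G) with hQd
  have hQm : ∀ {a : G}, a ∈ Q ↔ a * y₀ = y₀ * a := Subgroup.mem_centralizer_singleton_iff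
  obtain ⟨hQc, hcl⟩ := count_class h N hy₀ hw₀
  have hSC : SelfCent Q := selfcent_y0 h N hord hy₀ hw₀
  have hQY : ∀ x ∈ Q, x ≠ 1 → Outer K x ∧ w x = 0 := fun x hx hx1 => cent_w0 h N hy₀ hw₀ hx hx1
  -- the normalizer of `Q`
  have hTI := card_TI Q (normalizer (Q : Set G))
    (fun x hx hx1 g hg => hSC.mem_normalizer hx hx1 hg)
    (fun g hg x hx => (mem_normalizer_iff.mp hg x).mp hx)
  have hset : {g : G // g ≠ 1 ∧ ∃ c : G, c * g * c⁻¹ ∈ Q} ≃ {y : G // Outer K y ∧ w y = 0} := by
    apply Equiv.subtypeEquivRight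
    intro g
    constructor
    · rintro ⟨g1, c, hc⟩
      have h1 := hQY _ hc (conj_ne_one c g1)
      have h2 := h1.1.conj c⁻¹
      have e : c⁻¹ * (c * g * c⁻¹) * c⁻¹⁻¹ = g := by group
      rw [e] at h2
      refine ⟨h2, ?_⟩
      rw [← N.hconj g c]
      exact h1.2
    · rintro ⟨g1, g2⟩
      refine ⟨g1.1, ?_⟩
      rcases hcl g g1 g2 with h1 | h1
      · obtain ⟨a, rfl⟩ := isConj_iff.mp h1
        refine ⟨a⁻¹, ?_⟩
        have e : a⁻¹ * (a * y₀ * a⁻¹) * a⁻¹⁻¹ = y₀ := by group
        rw [e]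
        exact hQm.mpr rfl
      · obtain ⟨a, rfl⟩ := isConj_iff.mp h1
        refine ⟨a⁻¹, ?_⟩
        have e : a⁻¹ * (a * y₀⁻¹ * a⁻¹) * a⁻¹⁻¹ = y₀⁻¹ := by group
        rw [e]
        exact Q.inv_mem (hQm.mpr rfl)
  rw [Nat.card_congr hset, N.hY, N.hG, hQc] at hTI
  have hNQ : Nat.card (normalizer (Q : Set G)) = (2 * m + 1) * m := by
    have e1 : 2 * m + 1 - 1 = 2 * m := by omega
    rw [e1] at hTI
    apply Nat.eq_of_mul_eq_mul_left (show 0 < 4 * m * (m + 1) by positivity)
    rw [hTI]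
    ring
  have hoddN : Odd (Nat.card (normalizer (Q : Set G))) := by
    rw [hNQ]
    exact Odd.mul (⟨m, rfl⟩ : Odd (2 * m + 1)) hmodd
  have htN : t ∉ normalizer (Q : Set G) := by
    intro h0
    have h1 := orderOf_dvd_natCard (⟨t, h0⟩ : normalizer (Q : Set G))
    rw [Subgroup.orderOf_mk, h.ht] at h1
    exact (Nat.not_even_iff_odd.mpr hoddN) (even_iff_two_dvd.mpr h1)
  -- the second Sylow subgroup
  set y₂ := t * y₀ * t⁻¹ with hy₂
  have hy₂O : Outer K y₂ := hy₀.conj t
  have hw₂ : w y₂ = 0 := by rw [hy₂, N.hconj]; exact hw₀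
  set Q₂ := centralizer ({y₂} : Set G) with hQ₂d
  have hQ₂m : ∀ {a : G}, a ∈ Q₂ ↔ t * a * t ∈ Q := by
    intro a
    rw [hQm, hQ₂d, Subgroup.mem_centralizer_singleton_iff, hy₂, hti]
    constructor
    · intro h1
      calc t * a * t * y₀ = t * (a * (t * y₀ * t)) * t := by
            calc t * a * t * y₀ = t * a * (t * y₀ * (t * t)) := by rw [htt]; group
              _ = _ := by group
        _ = t * ((t * y₀ * t) * a) * t := by rw [h1]
        _ = (t * t) * y₀ * (t * a * t) := by group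
        _ = y₀ * (t * a * t) := by rw [htt, one_mul]
    · intro h1
      calc a * (t * y₀ * t) = (t * t) * a * (t * y₀ * t) := by rw [htt, one_mul]
        _ = t * ((t * a * t) * y₀) * t := by group
        _ = t * (y₀ * (t * a * t)) * t := by rw [h1]
        _ = t * y₀ * t * a * (t * t) := by group
        _ = t * y₀ * t * a := by rw [htt, mul_one]
  have hQ₂m' : ∀ {a : G}, a ∈ Q ↔ t * a * t ∈ Q₂ := by
    intro a
    rw [hQ₂m]
    have e : t * (t * a * t) * t = a := by
      calc t * (t * a * t) * t = (t * t) * a * (t * t) := by group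
        _ = a := by rw [htt]; simp
    rw [e]
  have hQQ₂ : Q ≠ Q₂ := by
    intro h0
    apply htN
    rw [mem_normalizer_iff, hti]
    intro x
    constructor
    · intro hx
      rw [h0] at hx ⊢
      have := hQ₂m'.mp (h0 ▸ hx)
      exact this
    · intro hx
      have h1 : t * x * t ∈ Q₂ := h0 ▸ hx
      have h2 := hQ₂m.mp h1
      have e : t * (t * x * t) * t = x := by
        calc t * (t * x * t) * t = (t * t) * x * (t * t) := by group
          _ = x := by rw [htt]; simp
      rwa [e] at h2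
  have hSC₂ : SelfCent Q₂ := selfcent_y0 h N hord hy₂O hw₂
  let P : Sylow p G := (isPGroup_cent h N hord hy₀ hw₀).toSylow (not_dvd_index h N hord hy₀ hw₀)
  let P₂ : Sylow p G := (isPGroup_cent h N hord hy₂O hw₂).toSylow (not_dvd_index h N hord hy₂O hw₂)
  have hPP₂ : P ≠ P₂ := by
    intro h0
    apply hQQ₂
    have : (P : Subgroup G) = P₂ := by rw [h0]
    exact this
  have hinf : Q ⊓ Q₂ = ⊥ := ti h N hord P P₂ hPP₂
  have hinfN : Q ⊓ normalizer (Q₂ : Set G) = ⊥ := by
    have : Q ⊓ normalizer (Q₂ : Set G) = Q ⊓ Q₂ :=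
      (isPGroup_cent h N hord hy₀ hw₀).inf_normalizer_sylow P₂
    rw [hinf] at this
    exact this
  -- the action on the Sylow subgroups
  have hcS : Nat.card (Sylow p G) = 2 * m + 2 := by
    have h1 : Nat.card (Sylow p G) = (normalizer (Q : Set G)).index := Sylow.card_eq_index_normalizer P
    have h2 := (normalizer (Q : Set G)).index_mul_card
    rw [hNQ, N.hG, ← h1] at h2
    apply Nat.eq_of_mul_eq_mul_right (show 0 < (2 * m + 1) * m by positivity)
    rw [h2]
    ring
  have hsmul : ∀ (g : G) (A : Sylow p G), g • A = A ↔ g ∈ normalizer ((A : Subgroup G) : Set G) :=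
    fun g A => Sylow.smul_eq_iff_mem_normalizer
  let f : Q → {A : Sylow p G // A ≠ P} := fun a => ⟨a.1 • P₂, by
    intro h0
    have h1 : a.1 • P = P := by
      rw [hsmul]
      exact Subgroup.le_normalizer a.2
    apply hPP₂
    have h2 : a.1 • P₂ = a.1 • P := by rw [h0, h1]
    exact (MulAction.injective a.1 h2).symm⟩
  have hfinj : Function.Injective f := by
    intro a b hab
    have h1 : a.1 • P₂ = b.1 • P₂ := congrArg Subtype.val hab
    have h2 : (b.1⁻¹ * a.1) • P₂ = P₂ := by
      rw [mul_smul, h1, smul_smul, inv_mul_cancel, one_smul]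
    have h3 : b.1⁻¹ * a.1 ∈ Q ⊓ normalizer (Q₂ : Set G) :=
      ⟨Q.mul_mem (Q.inv_mem b.2) a.2, (hsmul _ _).mp h2⟩
    rw [hinfN, Subgroup.mem_bot] at h3
    apply Subtype.ext
    have := congrArg (fun z => b.1 * z) h3
    simpa using this
  have hcX : Nat.card {A : Sylow p G // A ≠ P} = Nat.card Q := by
    have h1 := Nat.card_congr (Equiv.optionSubtypeNe P)
    rw [hcS, Finite.card_option] at h1
    rw [hQc]
    omega
  have hfbij : Function.Bijective f :=
    Function.Injective.bijective_of_nat_card_le hfinj (le_of_eq hcX)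
  -- the complement
  let M : Subgroup G := normalizer (Q : Set G) ⊓ normalizer (Q₂ : Set G)
  have hfact : ∀ g ∈ normalizer (Q : Set G), ∃ a ∈ Q, a⁻¹ * g ∈ M := by
    intro g hg
    have h1 : g • P = P := (hsmul _ _).mpr hg
    have h2 : g • P₂ ≠ P := by
      intro h0
      apply hPP₂
      have h3 : g • P₂ = g • P := by rw [h0, h1]
      exact (MulAction.injective g h3).symm
    obtain ⟨a, ha⟩ := hfbij.2 ⟨g • P₂, h2⟩
    have ha' : a.1 • P₂ = g • P₂ := congrArg Subtype.val ha
    refine ⟨a.1, a.2, ?_, ?_⟩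
    · exact (normalizer (Q : Set G)).mul_mem
        ((normalizer (Q : Set G)).inv_mem (Subgroup.le_normalizer a.2)) hg
    · have h3 : (a.1⁻¹ * g) • P₂ = P₂ := by
        rw [mul_smul, ← ha', smul_smul, inv_mul_cancel, one_smul]
      exact (hsmul _ P₂).mp h3
  have hMQ : ∀ a ∈ Q, a ∈ M → a = 1 := by
    intro a ha haM
    have h1 : a ∈ Q ⊓ normalizer (Q₂ : Set G) := ⟨ha, haM.2⟩
    rw [hinfN, Subgroup.mem_bot] at h1
    exact h1
  have hcM : Nat.card M = m := by
    let e : Q × M → normalizer (Q : Set G) := fun x =>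
      ⟨x.1.1 * x.2.1, (normalizer (Q : Set G)).mul_mem (Subgroup.le_normalizer x.1.2) x.2.2.1⟩
    have hbij : Function.Bijective e := by
      constructor
      · rintro ⟨a, b⟩ ⟨a', b'⟩ hab
        have h1 : a.1 * b.1 = a'.1 * b'.1 := congrArg Subtype.val hab
        have h2 : a'.1⁻¹ * a.1 = b'.1 * b.1⁻¹ := by
          calc a'.1⁻¹ * a.1 = a'.1⁻¹ * (a.1 * b.1) * b.1⁻¹ := by group
            _ = a'.1⁻¹ * (a'.1 * b'.1) * b.1⁻¹ := by rw [h1]
            _ = _ := by group
        have h3 : a'.1⁻¹ * a.1 = 1 := by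
          apply hMQ _ (Q.mul_mem (Q.inv_mem a'.2) a.2)
          rw [h2]
          exact M.mul_mem b'.2 (M.inv_mem b.2)
        have h4 : a.1 = a'.1 := by
          have := congrArg (fun z => a'.1 * z) h3
          simpa using this
        have h5 : b.1 = b'.1 := by
          rw [h4] at h1
          exact mul_left_cancel h1
        exact Prod.ext (Subtype.ext h4) (Subtype.ext h5)
      · rintro ⟨g, hg⟩
        obtain ⟨a, ha, hag⟩ := hfact g hg
        refine ⟨(⟨a, ha⟩, ⟨a⁻¹ * g, hag⟩), ?_⟩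
        apply Subtype.ext
        change a * (a⁻¹ * g) = g
        group
    have h1 := Nat.card_congr (Equiv.ofBijective e hbij)
    rw [Nat.card_prod, hQc, hNQ] at h1
    exact Nat.eq_of_mul_eq_mul_left (show 0 < 2 * m + 1 by omega) h1
  -- `t` inverts `M`
  have hconjQ : ∀ x, x ∈ normalizer (Q : Set G) → t * x * t ∈ normalizer (Q₂ : Set G) := by
    intro x hx
    rw [mem_normalizer_iff]
    intro a
    have e1 : t * x * t * a * (t * x * t)⁻¹ = t * (x * (t * a * t) * x⁻¹) * t := by
      rw [show (t * x * t)⁻¹ = t⁻¹ * x⁻¹ * t⁻¹ by group, hti]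
      group
    rw [e1, hQ₂m, hQ₂m]
    have e2 : t * (t * (x * (t * a * t) * x⁻¹) * t) * t = x * (t * a * t) * x⁻¹ := by
      calc t * (t * (x * (t * a * t) * x⁻¹) * t) * t
          = (t * t) * (x * (t * a * t) * x⁻¹) * (t * t) := by group
        _ = _ := by rw [htt]; simp
    rw [e2]
    exact mem_normalizer_iff.mp hx _
  have hconjQ₂ : ∀ x, x ∈ normalizer (Q₂ : Set G) → t * x * t ∈ normalizer (Q : Set G) := by
    intro x hx
    rw [mem_normalizer_iff]
    intro a
    have e1 : t * x * t * a * (t * x * t)⁻¹ = t * (x * (t * a * t) * x⁻¹) * t := by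
      rw [show (t * x * t)⁻¹ = t⁻¹ * x⁻¹ * t⁻¹ by group, hti]
      group
    rw [e1, hQ₂m', hQ₂m']
    have e2 : t * (t * (x * (t * a * t) * x⁻¹) * t) * t = x * (t * a * t) * x⁻¹ := by
      calc t * (t * (x * (t * a * t) * x⁻¹) * t) * t
          = (t * t) * (x * (t * a * t) * x⁻¹) * (t * t) := by group
        _ = _ := by rw [htt]; simp
    rw [e2]
    exact mem_normalizer_iff.mp hx _
  have hMm : ∀ x ∈ M, orderOf x ∣ m := by
    intro x hx
    have := orderOf_dvd_natCard (⟨x, hx⟩ : M)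
    rwa [Subgroup.orderOf_mk, hcM] at this
  have hMO : ∀ x ∈ M, x ≠ 1 → Outer K x := by
    intro x hx hx1
    rcases trichotomy K x with h1 | h1 | h1
    · exact absurd h1 hx1
    · exfalso
      obtain ⟨-, c, hc⟩ := h1
      have h2 := orderOf_dvd_natCard (⟨c * x * c⁻¹, hc⟩ : K)
      rw [Subgroup.orderOf_mk, order_conj, N.hk] at h2
      have h3 := hMm x hx
      have h4 : orderOf x ∣ 1 := by
        have h5 := Nat.dvd_sub h2 h3
        have e : m + 1 - m = 1 := by omega
        rwa [e] at h5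
      exact hx1 (orderOf_eq_one_iff.mp (Nat.dvd_one.mp h4))
    · exact h1
  have hinvM := Cfsg.Agent.Lib.Perm.KleinCent.inverts_of_fpf M htt
    (fun a ha => ⟨hconjQ₂ a ha.2, hconjQ a ha.1⟩)
    (fun a ha hca => by
      by_contra ha1
      exact not_comm_t h (hMO a ha ha1) hca)
  have hcommM : ∀ a ∈ M, ∀ b ∈ M, a * b = b * a := by
    intro a ha b hb
    have h1 := hinvM _ (M.mul_mem ha hb)
    have h2 := hinvM _ ha
    have h3 := hinvM _ hb
    have h4 : t * (a * b) * t = (t * a * t) * (t * b * t) := by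
      calc t * (a * b) * t = t * a * (t * t) * b * t := by rw [htt]; group
        _ = _ := by group
    rw [h4, h2, h3, mul_inv_rev] at h1
    have h5 := congrArg (fun z => z⁻¹) h1
    simp only [mul_inv_rev, inv_inv] at h5
    exact h5.symm
  obtain ⟨x₀, hx₀, hx₀1⟩ : ∃ x ∈ M, x ≠ 1 := by
    by_contra hcon
    push Not at hcon
    have h0 := (Subgroup.eq_bot_iff_forall M).mpr hcon
    rw [h0, Subgroup.card_bot] at hcM
    omega
  have hx₀O := hMO x₀ hx₀ hx₀1
  have hx₀i : t * x₀ * t⁻¹ = x₀⁻¹ := by rw [hti]; exact hinvM x₀ hx₀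
  obtain ⟨hx₀w, hx₀c⟩ := w_of_inverted h N hx₀O h.ht hx₀i
  have hMC : M = centralizer ({x₀} : Set G) := by
    apply Subgroup.eq_of_le_of_card_ge
    · intro a ha
      rw [Subgroup.mem_centralizer_singleton_iff]
      exact hcommM a ha x₀ hx₀
    · rw [hx₀c, hcM]
  obtain ⟨hf1, hf2, hf3, hf4⟩ := final_D h N hx₀O hx₀w hx₀i
  rw [← hMC] at hf1 hf2 hf3 hf4
  refine ⟨Q, M, ?_, hSC, ?_, ?_, ?_, ?_, fun X hX hX1 => ⟨hf1 X hX hX1, t, h.ht, hf2, hf3, hf4⟩⟩
  · rw [N.hG, hQc]
    have e1 : 2 * m + 1 - 1 = 2 * m := by omega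
    rw [e1]
    ring
  · exact ⟨⟨fun a b => Subtype.ext (hcommM a.1 a.2 b.1 b.2)⟩⟩
  · rw [hcM, hQc]
  · rw [Subgroup.eq_bot_iff_forall]
    rintro a ⟨ha, haM⟩
    exact hMQ a ha haM
  · apply le_antisymm
    · intro g hg
      obtain ⟨a, ha, hag⟩ := hfact g hg
      have e : g = a * (a⁻¹ * g) := by group
      rw [e]
      exact mul_mem ((le_sup_left : Q ≤ Q ⊔ M) ha) ((le_sup_right : M ≤ Q ⊔ M) hag)
    · exact sup_le Subgroup.le_normalizer inf_le_left

end

theorem main {t s : G} {K : Subgroup G} {d : ℤ} {w : G → ℤ} (h : Hyp t s K) (H : CD K d w)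
    (hd : d = 1 - 2 * (Nat.card K : ℤ)) (hk : 4 ≤ Nat.card K) : Concl G := by
  obtain ⟨m, N⟩ := exists_Num h H hd hk
  obtain ⟨p, hp, hord⟩ := exists_p h N
  haveI : Fact p.Prime := ⟨hp⟩
  exact core h N hord

end Cfsg.Agent.Lib.BSW.CaseIIc
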