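import Mathlib

/-!
# Abstract Brauer–Suzuki–Wall: the combinatorics of the Fourier vectors

An integral system of vectors `f i : Λ → ℤ` with the Gram matrix of the exceptional
characters has the expected shape.
-/

set_option autoImplicit false
set_option linter.unusedSectionVars false
set_option linter.unusedVariables false

namespace Cfsg.Agent.Lib.BSW.Combi

variable {ι Λ : Type*} [Fintype ι] [DecidableEq ι] [Fintype Λ] [DecidableEq Λ]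

lemma sum3 {M : Type*} [AddCommMonoid M] {a b c : ι} (hab : a ≠ b) (hac : a ≠ c) (hbc : b ≠ c)
    (h : ι → M) (h0 : ∀ i, i ≠ a → i ≠ b → i ≠ c → h i = 0) :
    ∑ i, h i = h a + h b + h c := by
  rw [← Finset.sum_subset (Finset.subset_univ ({a, b, c} : Finset ι))]
  · rw [Finset.sum_insert (by simp [hab, hac]), Finset.sum_insert (by simp [hbc]),
      Finset.sum_singleton, add_assoc]
  · intro i _ hi
    simp only [Finset.mem_insert, Finset.mem_singleton, not_or] at hi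
    exact h0 i hi.1 hi.2.1 hi.2.2

lemma sum4 {M : Type*} [AddCommMonoid M] {a b c d : ι} (hab : a ≠ b) (hac : a ≠ c) (had : a ≠ d)
    (hbc : b ≠ c) (hbd : b ≠ d) (hcd : c ≠ d)
    (h : ι → M) (h0 : ∀ i, i ≠ a → i ≠ b → i ≠ c → i ≠ d → h i = 0) :
    ∑ i, h i = h a + h b + h c + h d := by
  rw [← Finset.sum_subset (Finset.subset_univ ({a, b, c, d} : Finset ι))]
  · rw [Finset.sum_insert (by simp [hab, hac, had]), Finset.sum_insert (by simp [hbc, hbd]),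
      Finset.sum_insert (by simp [hcd]), Finset.sum_singleton, add_assoc, add_assoc]
  · intro i _ hi
    simp only [Finset.mem_insert, Finset.mem_singleton, not_or] at hi
    exact h0 i hi.1 hi.2.1 hi.2.2.1 hi.2.2.2

lemma sq_cases {x : ℤ} (h : x ^ 2 ≤ 3) : x = 0 ∨ x = 1 ∨ x = -1 := by
  have h2 : x ≤ 1 := by nlinarith
  have h3 : -1 ≤ x := by nlinarith
  omega

lemma sq_one_cases {x : ℤ} (h : x ^ 2 = 1) : x = 1 ∨ x = -1 := by
  have := sq_cases (x := x) (by omega)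
  rcases this with rfl | h1 | h1
  · norm_num at h
  · exact Or.inl h1
  · exact Or.inr h1

/-- The support of an integer vector with small norm. -/
lemma support_filter (g : ι → ℤ) (i₀ : ι) (n : ℕ) (hn : n ≤ 3) (hi₀ : g i₀ ^ 2 = 1)
    (hsum : ∑ i, g i ^ 2 = n + 1) :
    ∃ B : Finset ι, B.card = n ∧ (∀ i ∈ B, i ≠ i₀ ∧ g i ^ 2 = 1) ∧ ∀ i, i ≠ i₀ → i ∉ B → g i = 0 := by
  set U := Finset.univ.erase i₀ with hU
  have hsplit : ∑ i, g i ^ 2 = g i₀ ^ 2 + ∑ i ∈ U, g i ^ 2 :=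
    (Finset.add_sum_erase _ _ (Finset.mem_univ i₀)).symm
  have hU3 : ∑ i ∈ U, g i ^ 2 = n := by omega
  set B := U.filter (fun i => g i ≠ 0) with hB
  have hB3 : ∑ i ∈ B, g i ^ 2 = n := by
    rw [hB, Finset.sum_filter_of_ne]
    · exact hU3
    · intro i _ h hb
      apply h
      rw [hb]; norm_num
  have hale : ∀ i ∈ U, g i ^ 2 ≤ 3 := fun i hi => by
    have := Finset.single_le_sum (f := fun i => g i ^ 2) (fun _ _ => sq_nonneg _) hi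
    omega
  have hasq : ∀ i ∈ B, g i ^ 2 = 1 := by
    intro i hi
    have hi' := Finset.mem_filter.mp hi
    rcases sq_cases (hale i hi'.1) with h | h | h
    · exact absurd h hi'.2
    · rw [h]; norm_num
    · rw [h]; norm_num
  refine ⟨B, ?_, ?_, ?_⟩
  · have : ∑ i ∈ B, g i ^ 2 = ∑ i ∈ B, (1 : ℤ) := Finset.sum_congr rfl hasq
    rw [hB3, Finset.sum_const, nsmul_one] at this
    exact_mod_cast this.symm
  · intro i hi
    exact ⟨(Finset.mem_erase.mp (Finset.mem_filter.mp hi).1).1, hasq i hi⟩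
  · intro i hi hiB
    by_contra hne
    exact hiB (Finset.mem_filter.mpr ⟨Finset.mem_erase.mpr ⟨hi, Finset.mem_univ _⟩, hne⟩)

/-- Two nonzero entries besides `i₀`. -/
lemma two_of_sum (g : ι → ℤ) (i₀ : ι) (hi₀ : g i₀ ^ 2 = 1) (hsum : ∑ i, g i ^ 2 = 3) :
    ∃ a b, a ≠ b ∧ a ≠ i₀ ∧ b ≠ i₀ ∧ g a ^ 2 = 1 ∧ g b ^ 2 = 1 ∧
      ∀ i, i ≠ i₀ → i ≠ a → i ≠ b → g i = 0 := by
  obtain ⟨B, hc, hB, hO⟩ := support_filter g i₀ 2 (by norm_num) hi₀ (by rw [hsum]; norm_num)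
  obtain ⟨a, b, hab, rfl⟩ := Finset.card_eq_two.mp hc
  refine ⟨a, b, hab, (hB a (by simp)).1, (hB b (by simp)).1, (hB a (by simp)).2, (hB b (by simp)).2,
    fun i h1 h2 h3 => hO i h1 (by simp [h2, h3])⟩

/-- Three nonzero entries besides `i₀`. -/
lemma three_of_sum (g : ι → ℤ) (i₀ : ι) (hi₀ : g i₀ ^ 2 = 1) (hsum : ∑ i, g i ^ 2 = 4) :
    ∃ a b c, a ≠ b ∧ a ≠ c ∧ b ≠ c ∧ a ≠ i₀ ∧ b ≠ i₀ ∧ c ≠ i₀ ∧ g a ^ 2 = 1 ∧ g b ^ 2 = 1 ∧
      g c ^ 2 = 1 ∧ ∀ i, i ≠ i₀ → i ≠ a → i ≠ b → i ≠ c → g i = 0 := by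
  obtain ⟨B, hc, hB, hO⟩ := support_filter g i₀ 3 (by norm_num) hi₀ (by rw [hsum]; norm_num)
  obtain ⟨a, b, c, hab, hac, hbc, rfl⟩ := Finset.card_eq_three.mp hc
  refine ⟨a, b, c, hab, hac, hbc, (hB a (by simp)).1, (hB b (by simp)).1, (hB c (by simp)).1,
    (hB a (by simp)).2, (hB b (by simp)).2, (hB c (by simp)).2,
    fun i h1 h2 h3 h4 => hO i h1 (by simp [h2, h3, h4])⟩

/-- The system of Fourier vectors. -/
structure Sys (f : ι → Λ → ℤ) (i₀ : ι) (inv : Λ → Λ) (ε : Λ) : Prop where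
  hinv : ∀ ν, inv (inv ν) = ν
  hε : inv ε = ε
  hreal : ∀ ν, inv ν = ν → ν = ε
  hf0 : ∀ ν, f i₀ ν = -1
  hfinv : ∀ i ν, f i (inv ν) = f i ν
  gram : ∀ ν μ, ∑ i, f i ν * f i μ = (if μ = ν then 1 else 0) + (if inv μ = ν then 1 else 0) + 2

/-- The split of the support of a nonreal index. -/
structure Split (f : ι → Λ → ℤ) (i₀ : ι) (ε ν : Λ) (x z : ι) : Prop where
  hxz : x ≠ z
  hx0 : x ≠ i₀
  hz0 : z ≠ i₀
  hxσ : f x ν ^ 2 = 1
  hzσ : f z ν ^ 2 = 1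
  hxε : f x ε = f x ν
  hzε : f z ε = 0
  hs : ∀ i, i ≠ i₀ → i ≠ x → i ≠ z → f i ν = 0

/-- The final description of the system. -/
structure Family (f : ι → Λ → ℤ) (i₀ : ι) (inv : Λ → Λ) (ε : Λ) (X : ι) (σ : ℤ) (z : Λ → ι)
    (y₁ y₂ : ι) : Prop where
  hX : X ≠ i₀
  hσ : σ ^ 2 = 1
  hfX : ∀ ν, f X ν = σ
  hz0 : ∀ ν, ν ≠ ε → z ν ≠ i₀
  hzX : ∀ ν, ν ≠ ε → z ν ≠ X
  hzσ : ∀ ν, ν ≠ ε → f (z ν) ν ^ 2 = 1
  hzs : ∀ ν, ν ≠ ε → ∀ i, i ≠ i₀ → i ≠ X → i ≠ z ν → f i ν = 0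
  hzo : ∀ ν, ν ≠ ε → ∀ μ, μ ≠ ν → μ ≠ inv ν → f (z ν) μ = 0
  hy : y₁ ≠ y₂
  hy10 : y₁ ≠ i₀
  hy20 : y₂ ≠ i₀
  hy1X : y₁ ≠ X
  hy2X : y₂ ≠ X
  hy1σ : f y₁ ε ^ 2 = 1
  hy2σ : f y₂ ε ^ 2 = 1
  hys : ∀ i, i ≠ i₀ → i ≠ X → i ≠ y₁ → i ≠ y₂ → f i ε = 0
  hyo : ∀ μ, μ ≠ ε → f y₁ μ = 0 ∧ f y₂ μ = 0

section

variable {f : ι → Λ → ℤ} {i₀ : ι} {inv : Λ → Λ} {ε : Λ} (S : Sys f i₀ inv ε)

include S

lemma inv_ne {ν : Λ} (hν : ν ≠ ε) : inv ν ≠ ν := fun h => hν (S.hreal ν h)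

lemma inv_ne_eps {ν : Λ} (hν : ν ≠ ε) : inv ν ≠ ε := by
  intro h
  apply hν
  have := S.hinv ν
  rw [h, S.hε] at this
  exact this.symm

lemma norm_ne {ν : Λ} (hν : ν ≠ ε) : ∑ i, f i ν ^ 2 = 3 := by
  have := S.gram ν ν
  simp only [sq]
  rw [this, if_pos rfl, if_neg (inv_ne S hν)]
  norm_num

lemma norm_eps : ∑ i, f i ε ^ 2 = 4 := by
  have := S.gram ε ε
  simp only [sq]
  rw [this, if_pos rfl, if_pos S.hε]
  norm_num

lemma f0_sq (ν : Λ) : f i₀ ν ^ 2 = 1 := by rw [S.hf0]; norm_num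

lemma eps_cases {i : ι} (hi : i ≠ i₀) : f i ε = 0 ∨ f i ε = 1 ∨ f i ε = -1 := by
  apply sq_cases
  have h1 := norm_eps S
  have h2 := Finset.add_sum_erase Finset.univ (fun i => f i ε ^ 2) (Finset.mem_univ i₀)
  have h3 := Finset.single_le_sum (f := fun i => f i ε ^ 2) (s := Finset.univ.erase i₀)
    (fun _ _ => sq_nonneg _) (Finset.mem_erase.mpr ⟨hi, Finset.mem_univ _⟩)
  simp only [f0_sq S] at h2 h3
  omega

/-- Existence of the split. -/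
lemma exists_split {ν : Λ} (hν : ν ≠ ε) : ∃ x z, Split f i₀ ε ν x z := by
  obtain ⟨a, b, hab, ha0, hb0, hasq, hbsq, hO⟩ := two_of_sum (fun i => f i ν) i₀ (f0_sq S ν)
    (norm_ne S hν)
  have hg := S.gram ν ε
  rw [if_neg (Ne.symm hν), if_neg (by rw [S.hε]; exact Ne.symm hν)] at hg
  rw [sum3 (a := i₀) (b := a) (c := b) (Ne.symm ha0) (Ne.symm hb0) hab _
    (fun i h0 h1 h2 => by simp [hO i h0 h1 h2]), S.hf0, S.hf0] at hg
  have hca := eps_cases S ha0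
  have hcb := eps_cases S hb0
  rcases sq_one_cases hasq with ha | ha <;> rcases sq_one_cases hbsq with hb | hb <;>
    rcases hca with hca | hca | hca <;> rcases hcb with hcb | hcb | hcb <;>
    simp only [ha, hb, hca, hcb] at hg <;> (try omega)
  all_goals first
    | exact ⟨a, b, ⟨hab, ha0, hb0, hasq, hbsq, by rw [hca, ha], hcb, hO⟩⟩
    | exact ⟨b, a, ⟨hab.symm, hb0, ha0, hbsq, hasq, by rw [hcb, hb], hca,
        fun i h0 h1 h2 => hO i h0 h2 h1⟩⟩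

/-- Comparison of two splits. -/
lemma compare {ν μ : Λ} {x z x' z' : ι} (hν : Split f i₀ ε ν x z) (hμ : Split f i₀ ε μ x' z')
    (h1 : μ ≠ ν) (h2 : inv μ ≠ ν) :
    f x ν * f x μ + f z ν * f z μ = 1 := by
  have hg := S.gram ν μ
  rw [if_neg h1, if_neg h2] at hg
  rw [sum3 (a := i₀) (b := x) (c := z) (Ne.symm hν.hx0) (Ne.symm hν.hz0) hν.hxz _
    (fun i h0 h1 h2 => by simp [hν.hs i h0 h1 h2]), S.hf0, S.hf0] at hg
  omega

lemma ne_z_of_x {ν μ : Λ} {x z x' z' : ι} (hν : Split f i₀ ε ν x z) (hμ : Split f i₀ ε μ x' z') :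
    x ≠ z' := by
  intro h
  have h1 := hν.hxε
  rw [h, hμ.hzε] at h1
  have h2 := hν.hxσ
  rw [h, ← h1] at h2
  norm_num at h2

/-- Different `x`: the same `z`. -/
lemma compare_ne {ν μ : Λ} {x z x' z' : ι} (hν : Split f i₀ ε ν x z) (hμ : Split f i₀ ε μ x' z')
    (h1 : μ ≠ ν) (h2 : inv μ ≠ ν) (hxx : x ≠ x') : z = z' ∧ f z μ = f z ν := by
  have hc := compare S hν hμ h1 h2
  have h3 : f x μ = 0 := hμ.hs x hν.hx0 hxx (ne_z_of_x S hν hμ)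
  rw [h3, mul_zero, zero_add] at hc
  have h4 : f z μ ≠ 0 := fun h0 => by rw [h0] at hc; simp at hc
  have h5 : z = z' := by
    by_contra hne
    apply h4
    refine hμ.hs z hν.hz0 ?_ hne
    exact (ne_z_of_x S hμ hν).symm
  refine ⟨h5, ?_⟩
  rcases sq_one_cases hν.hzσ with h6 | h6 <;> rw [h6] at hc ⊢ <;> omega

/-- The same `x`: orthogonal `z`. -/
lemma compare_eq {ν μ : Λ} {x z z' : ι} (hν : Split f i₀ ε ν x z) (hμ : Split f i₀ ε μ x z')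
    (h1 : μ ≠ ν) (h2 : inv μ ≠ ν) : f z μ = 0 := by
  have hc := compare S hν hμ h1 h2
  have h3 : f x μ = f x ν := by rw [← hμ.hxε, hν.hxε]
  rw [h3] at hc
  have h4 : f x ν * f x ν = 1 := by rw [← sq]; exact hν.hxσ
  rw [h4] at hc
  have h5 : f z ν * f z μ = 0 := by omega
  rcases mul_eq_zero.mp h5 with h6 | h6
  · have := hν.hzσ
    rw [h6] at this
    norm_num at this
  · exact h6

/-- Two splits of conjugate indices have the same `x`. -/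
lemma split_inv {ν : Λ} {x z : ι} (hν : Split f i₀ ε ν x z) : Split f i₀ ε (inv ν) x z where
  hxz := hν.hxz
  hx0 := hν.hx0
  hz0 := hν.hz0
  hxσ := by rw [S.hfinv]; exact hν.hxσ
  hzσ := by rw [S.hfinv]; exact hν.hzσ
  hxε := by rw [S.hfinv]; exact hν.hxε
  hzε := hν.hzε
  hs := fun i h0 h1 h2 => by rw [S.hfinv]; exact hν.hs i h0 h1 h2

lemma split_x_unique {ν : Λ} {x z x' z' : ι} (hν : Split f i₀ ε ν x z) (hν' : Split f i₀ ε ν x' z') :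
    x' = x := by
  by_contra hne
  have h1 : f x' ν = 0 := hν.hs x' hν'.hx0 hne (ne_z_of_x S hν' hν)
  have := hν'.hxσ
  rw [h1] at this
  norm_num at this

/-- The third member of the support of `ε`. -/
lemma exists_third {x₀ x₁ : ι} (h0 : f x₀ ε ^ 2 = 1) (h1 : f x₁ ε ^ 2 = 1) (h00 : x₀ ≠ i₀)
    (h10 : x₁ ≠ i₀) (h01 : x₀ ≠ x₁) :
    ∃ r, r ≠ x₀ ∧ r ≠ x₁ ∧ r ≠ i₀ ∧ f r ε ^ 2 = 1 ∧ ∀ i, i ≠ i₀ → i ≠ x₀ → i ≠ x₁ → i ≠ r → f i ε = 0 := by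
  obtain ⟨a, b, c, hab, hac, hbc, ha0, hb0, hc0, has, hbs, hcs, hO⟩ :=
    three_of_sum (fun i => f i ε) i₀ (f0_sq S ε) (norm_eps S)
  have hmem : ∀ y, y ≠ i₀ → f y ε ^ 2 = 1 → y = a ∨ y = b ∨ y = c := by
    intro y hy hys
    by_contra hne
    simp only [not_or] at hne
    have := hO y hy hne.1 hne.2.1 hne.2.2
    rw [this] at hys
    norm_num at hys
  rcases hmem x₀ h00 h0 with rfl | rfl | rfl <;> rcases hmem x₁ h10 h1 with rfl | rfl | rfl <;>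
    first
      | exact absurd rfl h01
      | exact ⟨c, by first | assumption | exact Ne.symm (by assumption), by first | assumption | exact Ne.symm (by assumption), hc0, hcs, fun i h2 h3 h4 h5 => hO i h2 (by tauto) (by tauto) (by tauto)⟩
      | exact ⟨b, by first | assumption | exact Ne.symm (by assumption), by first | assumption | exact Ne.symm (by assumption), hb0, hbs, fun i h2 h3 h4 h5 => hO i h2 (by tauto) (by tauto) (by tauto)⟩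
      | exact ⟨a, by first | assumption | exact Ne.symm (by assumption), by first | assumption | exact Ne.symm (by assumption), ha0, has, fun i h2 h3 h4 h5 => hO i h2 (by tauto) (by tauto) (by tauto)⟩

variable {τ : Λ → ℤ} {deg : ι → ℤ} {c : ℚ}

lemma deg_eq (hdeg0 : deg i₀ = 1) (hdegsum : ∀ ν, ∑ i, f i ν * deg i = 0) {ν : Λ} {x z : ι}
    (h : Split f i₀ ε ν x z) : -1 + f x ν * deg x + f z ν * deg z = 0 := by
  have h1 := hdegsum ν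
  rw [sum3 (a := i₀) (b := x) (c := z) (Ne.symm h.hx0) (Ne.symm h.hz0) h.hxz _
    (fun i h0 h1 h2 => by simp [h.hs i h0 h1 h2]), S.hf0, hdeg0] at h1
  linarith

lemma hc_eq (hdeg0 : deg i₀ = 1) {T : ι → ℤ}
    (hc : ∀ ν, ∑ i, (f i ν : ℚ) * ((T i : ℤ) : ℚ) ^ 2 / deg i = c) {ν : Λ} {x z : ι}
    (h : Split f i₀ ε ν x z) :
    -((T i₀ : ℤ) : ℚ) ^ 2 + (f x ν : ℚ) * ((T x : ℤ) : ℚ) ^ 2 / deg x +
      (f z ν : ℚ) * ((T z : ℤ) : ℚ) ^ 2 / deg z = c := by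
  have h1 := hc ν
  rw [sum3 (a := i₀) (b := x) (c := z) (Ne.symm h.hx0) (Ne.symm h.hz0) h.hxz _
    (fun i h0 h1 h2 => by simp [h.hs i h0 h1 h2]), S.hf0, hdeg0] at h1
  rw [← h1]
  push_cast
  ring

/-- The exceptional configuration does not occur. -/
lemma no_exception (hτ : ∀ ν, τ ν ^ 2 = 1) (hτinv : ∀ ν, τ (inv ν) = τ ν)
    (hτsum : ∑ ν, τ ν = -1) (hdeg0 : deg i₀ = 1) (hdeg : ∀ i, deg i ≠ 0)
    (hdegsum : ∀ ν, ∑ i, f i ν * deg i = 0)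
    (hc : ∀ ν, ∑ i, (f i ν : ℚ) * ((∑ μ, f i μ * τ μ : ℤ) : ℚ) ^ 2 / deg i = c)
    {ν₀ ν₁ : Λ} (hν₀ : ν₀ ≠ ε) (hν₁ : ν₁ ≠ ε) {x₀ z₀ x₁ z₁ : ι}
    (h0 : Split f i₀ ε ν₀ x₀ z₀) (h1 : Split f i₀ ε ν₁ x₁ z₁) (hne : x₀ ≠ x₁) : False := by
  have h10 : ν₁ ≠ ν₀ := by
    rintro rfl
    exact hne (split_x_unique S h1 h0)
  have h11 : inv ν₁ ≠ ν₀ := by
    intro h2
    have h3 : ν₁ = inv ν₀ := by rw [← h2, S.hinv]
    rw [h3] at h1
    exact hne (split_x_unique S h1 (split_inv S h0))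
  obtain ⟨hz, hfz⟩ := compare_ne S h0 h1 h10 h11 hne
  subst hz
  have d0 := deg_eq S hdeg0 hdegsum h0
  have d1 := deg_eq S hdeg0 hdegsum h1
  have hs0 : f x₀ ε ^ 2 = 1 := by rw [h0.hxε]; exact h0.hxσ
  have hs1 : f x₁ ε ^ 2 = 1 := by rw [h1.hxε]; exact h1.hxσ
  obtain ⟨r, hr0, hr1, hri, hrs, hrO⟩ := exists_third S hs0 hs1 h0.hx0 h1.hx0 hne
  have dε := hdegsum ε
  rw [sum4 (a := i₀) (b := x₀) (c := x₁) (d := r) (Ne.symm h0.hx0) (Ne.symm h1.hx0) (Ne.symm hri)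
    hne (Ne.symm hr0) (Ne.symm hr1) _ (fun i a0 a1 a2 a3 => by simp [hrO i a0 a1 a2 a3]), S.hf0,
    hdeg0] at dε
  rw [h0.hxε, h1.hxε] at dε
  rw [hfz] at d1
  by_cases h3 : ∃ ν₂, ν₂ ≠ ε ∧ ν₂ ≠ ν₀ ∧ inv ν₂ ≠ ν₀ ∧ ν₂ ≠ ν₁ ∧ inv ν₂ ≠ ν₁
  · obtain ⟨ν₂, a1, a2, a3, a4, a5⟩ := h3
    obtain ⟨x₂, z₂, h2⟩ := exists_split S a1
    have hs2 : f x₂ ε ^ 2 = 1 := by rw [h2.hxε]; exact h2.hxσ
    have hmem : x₂ = x₀ ∨ x₂ = x₁ ∨ x₂ = r := by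
      by_contra hn
      simp only [not_or] at hn
      have := hrO x₂ h2.hx0 hn.1 hn.2.1 hn.2.2
      rw [this] at hs2
      norm_num at hs2
    have a6 : inv ν₀ ≠ ν₂ := fun e => a3 (by rw [← e, S.hinv])
    have a7 : inv ν₁ ≠ ν₂ := fun e => a5 (by rw [← e, S.hinv])
    rcases hmem with rfl | rfl | rfl
    · obtain ⟨hz2, -⟩ := compare_ne S h2 h1 (Ne.symm a4) a7 hne
      have := compare_eq S h2 h0 (Ne.symm a2) a6
      rw [hz2] at this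
      have h5 := h0.hzσ
      rw [this] at h5
      norm_num at h5
    · obtain ⟨hz2, -⟩ := compare_ne S h2 h0 (Ne.symm a2) a6 (Ne.symm hne)
      have := compare_eq S h2 h1 (Ne.symm a4) a7
      rw [hz2] at this
      have h5 := h1.hzσ
      rw [this] at h5
      norm_num at h5
    · obtain ⟨hz2, hf2⟩ := compare_ne S h2 h0 (Ne.symm a2) a6 hr0
      subst hz2
      have d2 := deg_eq S hdeg0 hdegsum h2
      rw [← h2.hxε, ← hf2] at d2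
      generalize f x₀ ν₀ * deg x₀ = A₀ at *
      generalize f x₁ ν₁ * deg x₁ = A₁ at *
      generalize f x₂ ε * deg x₂ = R at *
      generalize f z₂ ν₀ * deg z₂ = C at *
      omega
  · -- exactly five indices
    have hall : ∀ ν, ν = ε ∨ ν = ν₀ ∨ ν = inv ν₀ ∨ ν = ν₁ ∨ ν = inv ν₁ := by
      intro ν
      by_contra hn
      simp only [not_or] at hn
      apply h3
      refine ⟨ν, hn.1, hn.2.1, fun e => hn.2.2.1 (by rw [← e, S.hinv]), hn.2.2.2.1,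
        fun e => hn.2.2.2.2 (by rw [← e, S.hinv])⟩
    have e1 : ε ≠ ν₀ := Ne.symm hν₀
    have e2 : ε ≠ inv ν₀ := fun e => hν₀ (by rw [← S.hinv ν₀, ← e, S.hε])
    have e3 : ε ≠ ν₁ := Ne.symm hν₁
    have e4 : ε ≠ inv ν₁ := fun e => hν₁ (by rw [← S.hinv ν₁, ← e, S.hε])
    have e5 : ν₀ ≠ inv ν₀ := fun e => inv_ne S hν₀ e.symm
    have e6 : ν₀ ≠ ν₁ := Ne.symm h10
    have e7 : ν₀ ≠ inv ν₁ := Ne.symm h11
    have e8 : inv ν₀ ≠ ν₁ := fun e => h11 (by rw [← e, S.hinv])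
    have e9 : inv ν₀ ≠ inv ν₁ := fun e => e6 (by rw [← S.hinv ν₀, e, S.hinv])
    have e10 : ν₁ ≠ inv ν₁ := fun e => inv_ne S hν₁ e.symm
    have hsum5 : ∀ {M : Type} [AddCommMonoid M] (g : Λ → M),
        ∑ ν, g ν = g ε + g ν₀ + g (inv ν₀) + g ν₁ + g (inv ν₁) := by
      intro M _ g
      rw [← Finset.sum_subset (Finset.subset_univ ({ε, ν₀, inv ν₀, ν₁, inv ν₁} : Finset Λ))]
      · rw [Finset.sum_insert (by simp [e1, e2, e3, e4]), Finset.sum_insert (by simp [e5, e6, e7]),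
          Finset.sum_insert (by simp [e8, e9]), Finset.sum_insert (by simp [e10]),
          Finset.sum_singleton]
        abel
      · intro ν _ hν
        simp only [Finset.mem_insert, Finset.mem_singleton] at hν
        exact absurd (hall ν) hν
    have hτ5 := hsum5 τ
    rw [hτsum, hτinv, hτinv] at hτ5
    have hx0ν1 : f x₀ ν₁ = 0 := h1.hs x₀ h0.hx0 hne (ne_z_of_x S h0 h1)
    have hx1ν0 : f x₁ ν₀ = 0 := h0.hs x₁ h1.hx0 (Ne.symm hne) (ne_z_of_x S h1 h0)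
    have T0 : (∑ μ, f x₀ μ * τ μ) = f x₀ ν₀ * (τ ε + 2 * τ ν₀) := by
      rw [hsum5, S.hfinv, S.hfinv, hx0ν1, h0.hxε, hτinv, hτinv]
      ring
    have T1 : (∑ μ, f x₁ μ * τ μ) = f x₁ ν₁ * (τ ε + 2 * τ ν₁) := by
      rw [hsum5, S.hfinv, S.hfinv, hx1ν0, h1.hxε, hτinv, hτinv]
      ring
    have c0 := hc_eq S hdeg0 hc h0
    have c1 := hc_eq S hdeg0 hc h1
    rw [hfz] at c1
    have key : (f x₀ ν₀ : ℚ) * ((∑ μ, f x₀ μ * τ μ : ℤ) : ℚ) ^ 2 / deg x₀ =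
        (f x₁ ν₁ : ℚ) * ((∑ μ, f x₁ μ * τ μ : ℤ) : ℚ) ^ 2 / deg x₁ := by linarith
    rw [T0, T1] at key
    have hAeq : f x₀ ν₀ * deg x₀ = f x₁ ν₁ * deg x₁ := by linarith
    have hd0 : (deg x₀ : ℚ) ≠ 0 := by exact_mod_cast hdeg x₀
    have hd1 : (deg x₁ : ℚ) ≠ 0 := by exact_mod_cast hdeg x₁
    have hs0' := h0.hxσ
    have hs1' := h1.hxσ
    have hA1 : (f x₀ ν₀ : ℚ) * deg x₀ = f x₁ ν₁ * deg x₁ := by exact_mod_cast hAeq
    have hsq0 : (f x₀ ν₀ : ℚ) ^ 2 = 1 := by exact_mod_cast hs0'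
    have hsq1 : (f x₁ ν₁ : ℚ) ^ 2 = 1 := by exact_mod_cast hs1'
    have hs0ne : (f x₀ ν₀ : ℚ) ≠ 0 := fun e => by rw [e] at hsq0; norm_num at hsq0
    have hs1ne : (f x₁ ν₁ : ℚ) ≠ 0 := fun e => by rw [e] at hsq1; norm_num at hsq1
    have key2 : (τ ε + 2 * τ ν₀ : ℚ) ^ 2 = (τ ε + 2 * τ ν₁ : ℚ) ^ 2 := by
      push_cast at key
      generalize (τ ε + 2 * τ ν₀ : ℚ) = P at *
      generalize (τ ε + 2 * τ ν₁ : ℚ) = Q at *
      generalize (f x₀ ν₀ : ℚ) = a at *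
      generalize (f x₁ ν₁ : ℚ) = b at *
      generalize (deg x₀ : ℚ) = d₀ at *
      generalize (deg x₁ : ℚ) = d₁ at *
      have hA : a * d₀ ≠ 0 := mul_ne_zero hs0ne hd0
      have E0 : a * (a * P) ^ 2 / d₀ = P ^ 2 / (a * d₀) := by
        rw [div_eq_div_iff hd0 hA]
        linear_combination (P ^ 2 * d₀ * (a ^ 2 + 1)) * hsq0
      have E1 : b * (b * Q) ^ 2 / d₁ = Q ^ 2 / (b * d₁) := by
        rw [div_eq_div_iff hd1 (mul_ne_zero hs1ne hd1)]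
        linear_combination (Q ^ 2 * d₁ * (b ^ 2 + 1)) * hsq1
      rw [E0, E1, ← hA1] at key
      field_simp at key
      exact key
    have key3 : (τ ε + 2 * τ ν₀) ^ 2 = (τ ε + 2 * τ ν₁) ^ 2 := by exact_mod_cast key2
    rcases sq_one_cases (hτ ε) with a1 | a1 <;> rcases sq_one_cases (hτ ν₀) with a2 | a2 <;>
      rcases sq_one_cases (hτ ν₁) with a3 | a3 <;> rw [a1, a2, a3] at key3 hτ5 <;>
      (exfalso; revert key3 hτ5; norm_num)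

/-- The description of the system. -/
theorem exists_family (hτ : ∀ ν, τ ν ^ 2 = 1) (hτinv : ∀ ν, τ (inv ν) = τ ν)
    (hτsum : ∑ ν, τ ν = -1) (hdeg0 : deg i₀ = 1) (hdeg : ∀ i, deg i ≠ 0)
    (hdegsum : ∀ ν, ∑ i, f i ν * deg i = 0)
    (hc : ∀ ν, ∑ i, (f i ν : ℚ) * ((∑ μ, f i μ * τ μ : ℤ) : ℚ) ^ 2 / deg i = c)
    {ν₀ : Λ} (hν₀ : ν₀ ≠ ε) : ∃ X σ z y₁ y₂, Family f i₀ inv ε X σ z y₁ y₂ := by
  haveI : Nonempty ι := ⟨i₀⟩
  have hsp : ∀ ν, ν ≠ ε → ∃ x z, Split f i₀ ε ν x z := fun ν hν => exists_split S hν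
  choose! x z hsp using hsp
  have hall : ∀ ν, ν ≠ ε → x ν = x ν₀ := by
    intro ν hν
    by_contra hne
    exact no_exception S hτ hτinv hτsum hdeg0 hdeg hdegsum hc hν₀ hν (hsp ν₀ hν₀) (hsp ν hν)
      (Ne.symm hne)
  set X := x ν₀ with hX
  have hs : ∀ ν, ν ≠ ε → Split f i₀ ε ν X (z ν) := fun ν hν => by
    have := hsp ν hν
    rwa [hall ν hν] at this
  have hsX : f X ε ^ 2 = 1 := by rw [(hs ν₀ hν₀).hxε]; exact (hs ν₀ hν₀).hxσ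
  obtain ⟨a, b, c', hab, hac, hbc, ha0, hb0, hc0, has, hbs, hcs, hO⟩ :=
    three_of_sum (fun i => f i ε) i₀ (f0_sq S ε) (norm_eps S)
  have hX0 : X ≠ i₀ := (hs ν₀ hν₀).hx0
  have hmem : X = a ∨ X = b ∨ X = c' := by
    by_contra hne
    simp only [not_or] at hne
    have := hO X hX0 hne.1 hne.2.1 hne.2.2
    rw [this] at hsX
    norm_num at hsX
  have hfam : ∀ y₁ y₂, y₁ ≠ y₂ → y₁ ≠ i₀ → y₂ ≠ i₀ → y₁ ≠ X → y₂ ≠ X → f y₁ ε ^ 2 = 1 →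
      f y₂ ε ^ 2 = 1 → (∀ i, i ≠ i₀ → i ≠ X → i ≠ y₁ → i ≠ y₂ → f i ε = 0) →
      Family f i₀ inv ε X (f X ε) z y₁ y₂ := by
    intro y₁ y₂ h12 h10 h20 h1X h2X h1s h2s hys
    have hy0 : ∀ y, f y ε ^ 2 = 1 → y ≠ i₀ → y ≠ X → ∀ μ, μ ≠ ε → f y μ = 0 := by
      intro y hy hy0 hyX μ hμ
      refine (hs μ hμ).hs y hy0 hyX ?_
      intro e
      have := (hs μ hμ).hzε
      rw [← e] at this
      rw [this] at hy
      norm_num at hy
    refine ⟨hX0, hsX, ?_, fun ν hν => (hs ν hν).hz0, fun ν hν => Ne.symm (hs ν hν).hxz,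
      fun ν hν => (hs ν hν).hzσ, fun ν hν i h0 h1 h2 => (hs ν hν).hs i h0 h1 h2, ?_, h12, h10, h20,
      h1X, h2X, h1s, h2s, hys, fun μ hμ => ⟨hy0 y₁ h1s h10 h1X μ hμ, hy0 y₂ h2s h20 h2X μ hμ⟩⟩
    · intro ν
      by_cases hν : ν = ε
      · rw [hν]
      · exact (hs ν hν).hxε.symm
    · intro ν hν μ h1 h2
      by_cases hμ : μ = ε
      · rw [hμ]
        exact (hs ν hν).hzε
      · exact compare_eq S (hs ν hν) (hs μ hμ) h1 (fun e => h2 (by rw [← e, S.hinv]))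
  rcases hmem with e | e | e
  · refine ⟨X, _, z, b, c', hfam b c' hbc hb0 hc0 (by rw [e]; exact Ne.symm hab) (by rw [e]; exact Ne.symm hac) hbs hcs ?_⟩
    intro i h0 h1 h2 h3
    exact hO i h0 (by rwa [← e]) h2 h3
  · refine ⟨X, _, z, a, c', hfam a c' hac ha0 hc0 (by rw [e]; exact hab) (by rw [e]; exact Ne.symm hbc) has hcs ?_⟩
    intro i h0 h1 h2 h3
    exact hO i h0 h2 (by rwa [← e]) h3
  · refine ⟨X, _, z, a, b, hfam a b hab ha0 hb0 (by rw [e]; exact hac) (by rw [e]; exact hbc) has hbs ?_⟩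
    intro i h0 h1 h2 h3
    exact hO i h0 h2 h3 (by rwa [← e])

end

end Cfsg.Agent.Lib.BSW.Combi
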