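import Cfsg.Agent.Lib.BSW.Numbers
import Cfsg.Agent.Lib.BSW.Group

/-!
# Abstract Brauer–Suzuki–Wall: packaged data
-/

set_option autoImplicit false
set_option linter.unusedSectionVars false
set_option linter.unusedVariables false

namespace Cfsg.Agent.Lib.BSW.Data

open Subgroup hiding mem_centralizer_singleton_iff
open Cfsg Cfsg.Agent.Lib.BSW.Setup Cfsg.Agent.Lib.BSW.Group
open Cfsg.Agent.Lib.Involutions.Counting (PairsWithProduct pairs_fst_inverts)

variable {G : Type*} [Group G]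

/-- The output of the character theory, with only `K`, through `Outer K` and the order of `K`. -/
structure CD [Finite G] (K : Subgroup G) (d : ℤ) (w : G → ℤ) : Prop where
  hd : d = 1 + 2 * (Nat.card K : ℤ) ∨ d = 1 - 2 * (Nat.card K : ℤ)
  hG : (Nat.card G : ℤ) = (Nat.card K : ℤ) * (d * (d + 1))
  hconj : ∀ g c, w (c * g * c⁻¹) = w g
  hinv : ∀ y, Outer K y → w y⁻¹ = w y
  hval : ∀ y, Outer K y → w y = 0 ∨ w y = -1
  hP1 : ∀ y, Outer K y → d = 1 + 2 * (Nat.card K : ℤ) →
        (Nat.card (PairsWithProduct y) : ℤ) = d + (Nat.card K : ℤ) * w y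
  hP2 : ∀ y, Outer K y → d = 1 - 2 * (Nat.card K : ℤ) →
        (Nat.card (PairsWithProduct y) : ℤ) = -((Nat.card K : ℤ) - 1) * w y
  hcount : (Nat.card {y : G // Outer K y ∧ w y = 0} : ℤ) = d ^ 2 - 1

theorem exists_CD [Finite G] {t s : G} {K : Subgroup G} (h : Hyp t s K) (hk : 4 ≤ Nat.card K) :
    ∃ (d : ℤ) (w : G → ℤ), CD K d w := by
  classical
  letI := Fintype.ofFinite G
  letI : Fintype K := Fintype.ofFinite K
  have h1 := Cfsg.Agent.Lib.Char.Ortho.finite_irrCharacter (G := G)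
  have h2 := Cfsg.Agent.Lib.Char.Ortho.finite_irrCharacter (G := K)
  letI := Fintype.ofFinite (IrrCharacter G)
  letI := Fintype.ofFinite (IrrCharacter K)
  obtain ⟨d, w, h1, h2, h3, h4, h5, h6, h7⟩ := Numbers.char_main h hk
  refine ⟨d, w, h1, ?_, h3, h4, h5, fun y hy => (h6 y hy).1, fun y hy => (h6 y hy).2, h7⟩
  have hG := Numbers.card_G_eq h
  have : (Nat.card G : ℤ) = (Nat.card {u : G // IsConj t u} : ℤ) * (2 * (Nat.card K : ℤ)) := by
    rw [hG]; push_cast; ring
  rw [this]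
  linear_combination (Nat.card K : ℤ) * h2

lemma card_conjS [Finite G] (g : G) (K : Subgroup G) : Nat.card (conjS g K) = Nat.card K :=
  Nat.card_congr (Subgroup.equivMapOfInjective K _ (MulAut.conj g).injective).symm.toEquiv

lemma CD.conj [Finite G] {K : Subgroup G} {d : ℤ} {w : G → ℤ} (H : CD K d w) (g : G) :
    CD (conjS g K) d w := by
  have hc := card_conjS g K
  refine ⟨?_, ?_, H.hconj, ?_, ?_, ?_, ?_, ?_⟩
  · rw [hc]; exact H.hd
  · rw [hc]; exact H.hG
  · intro y hy; exact H.hinv y (outer_conjS_iff.mp hy)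
  · intro y hy; exact H.hval y (outer_conjS_iff.mp hy)
  · intro y hy; rw [hc]; exact H.hP1 y (outer_conjS_iff.mp hy)
  · intro y hy; rw [hc]; exact H.hP2 y (outer_conjS_iff.mp hy)
  · have : {y : G // Outer (conjS g K) y ∧ w y = 0} ≃ {y : G // Outer K y ∧ w y = 0} :=
      Equiv.subtypeEquivRight (fun y => by rw [outer_conjS_iff])
    rw [Nat.card_congr this]
    exact H.hcount

lemma exists_inverter [Finite G] {z : G} (hP : 0 < Nat.card (PairsWithProduct z)) :
    ∃ u : G, orderOf u = 2 ∧ u * z * u⁻¹ = z⁻¹ := by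
  haveI : Nonempty (PairsWithProduct z) := (Nat.card_pos_iff.mp hP).1
  obtain ⟨p⟩ := this
  exact ⟨p.1.1, p.2.1, pairs_fst_inverts p⟩

/-- The conclusion of the abstract Brauer–Suzuki–Wall Theorem. -/
def Concl (G : Type*) [Group G] : Prop :=
  ∃ Q D : Subgroup G, 2 * Nat.card G = Nat.card ↥Q * (Nat.card ↥Q + 1) * (Nat.card ↥Q - 1) ∧
      (∀ x ∈ Q, x ≠ 1 → Subgroup.centralizer ({x} : Set G) = Q) ∧
      IsMulCommutative ↥D ∧ 2 * Nat.card ↥D + 1 = Nat.card ↥Q ∧ Q ⊓ D = ⊥ ∧
      Subgroup.normalizer (Q : Set G) = Q ⊔ D ∧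
      ∀ X : Subgroup G, X ≤ D → X ≠ ⊥ →
        Subgroup.normalizer (X : Set G) = Subgroup.normalizer (D : Set G) ∧
        ∃ u : G, orderOf u = 2 ∧ u ∉ D ∧ (∀ d ∈ D, u * d * u⁻¹ = d⁻¹) ∧
          Subgroup.normalizer (D : Set G) = D ⊔ Subgroup.zpowers u

section hyp

variable {t s : G} {K : Subgroup G} (h : Hyp t s K)

include h

lemma centralizer_t_eq : centralizer ({t} : Set G) = K ⊔ zpowers s := by
  apply le_antisymm
  · intro g hg
    rw [Subgroup.mem_centralizer_singleton_iff] at hg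
    rcases h.hH g hg with h1 | ⟨x, hx, rfl⟩
    · exact (le_sup_left : K ≤ K ⊔ zpowers s) h1
    · exact mul_mem ((le_sup_right : zpowers s ≤ K ⊔ zpowers s) (mem_zpowers s))
        ((le_sup_left : K ≤ K ⊔ zpowers s) hx)
  · apply sup_le
    · intro g hg
      rw [Subgroup.mem_centralizer_singleton_iff]
      exact h.hKt g hg
    · rw [Subgroup.zpowers_le, Subgroup.mem_centralizer_singleton_iff]
      exact h.hst

lemma normalizer_sub_K {X : Subgroup G} (hX : X ≤ K) (hX1 : X ≠ ⊥) :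
    normalizer (X : Set G) = centralizer ({t} : Set G) := by
  have hfw : ∀ g, g * t = t * g → ∀ x ∈ X, g * x * g⁻¹ ∈ X := by
    intro g hg x hx
    rcases h.hH g hg with h1 | ⟨z, hz, rfl⟩
    · rw [h.hcomm g h1 x (hX hx)]
      simpa using hx
    · have h2 : s * z * x * (s * z)⁻¹ = s * x * s⁻¹ := by
        have : z * x = x * z := h.hcomm z hz x (hX hx)
        calc s * z * x * (s * z)⁻¹ = s * (z * x) * z⁻¹ * s⁻¹ := by group
          _ = s * (x * z) * z⁻¹ * s⁻¹ := by rw [this]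
          _ = _ := by group
      rw [h2, h.hinv x (hX hx)]
      exact X.inv_mem hx
  apply le_antisymm
  · intro g hg
    rw [Subgroup.mem_centralizer_singleton_iff]
    obtain ⟨x, hx, hx1⟩ : ∃ x ∈ X, x ≠ 1 := by
      by_contra hcon
      push Not at hcon
      exact hX1 ((Subgroup.eq_bot_iff_forall X).mpr hcon)
    exact h.hTI x (hX hx) hx1 g (hX ((mem_normalizer_iff.mp hg x).mp hx))
  · intro g hg
    rw [Subgroup.mem_centralizer_singleton_iff] at hg
    rw [mem_normalizer_iff]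
    intro x
    refine ⟨hfw g hg x, fun hx => ?_⟩
    have hg' : g⁻¹ * t = t * g⁻¹ := by
      have := congrArg (fun z => g⁻¹ * z * g⁻¹) hg
      simp only [mul_assoc, mul_inv_cancel, mul_one, inv_mul_cancel_left] at this
      exact this.symm
    have := hfw g⁻¹ hg' _ hx
    have e : g⁻¹ * (g * x * g⁻¹) * g⁻¹⁻¹ = x := by group
    rwa [e] at this

/-- The conclusion for subgroups of `K`. -/
lemma final_K {X : Subgroup G} (hX : X ≤ K) (hX1 : X ≠ ⊥) :
    normalizer (X : Set G) = normalizer (K : Set G) ∧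
      ∃ u : G, orderOf u = 2 ∧ u ∉ K ∧ (∀ d ∈ K, u * d * u⁻¹ = d⁻¹) ∧
        normalizer (K : Set G) = K ⊔ zpowers u := by
  have hK1 : K ≠ ⊥ := by
    intro h0
    have := h.htK
    rw [h0, Subgroup.mem_bot] at this
    exact t_ne_one h this
  rw [normalizer_sub_K h hX hX1, normalizer_sub_K h le_rfl hK1]
  exact ⟨rfl, s, h.hs, h.hsK, h.hinv, centralizer_t_eq h⟩

end hyp

end Cfsg.Agent.Lib.BSW.Data
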