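import Mathlib

/-!
# Dihedral Sylow 2-subgroups: the cyclic subgroup of index two
-/

set_option autoImplicit false
set_option linter.unusedSectionVars false

namespace Cfsg.Agent.Lib.BSW.DihData

open Subgroup hiding mem_centralizer_singleton_iff
open DihedralGroup

variable {G : Type*} [Group G] [Finite G]

/-- Data of a cyclic subgroup of index two of a dihedral group, containing `t`. -/
structure Data (S C₀ : Subgroup G) (t : G) : Prop where
  le : C₀ ≤ S
  hidx : C₀.relIndex S = 2
  hcyc : IsCyclic C₀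
  ht : t ∈ C₀
  hout : ∀ x ∈ S, x ∉ C₀ → x * x = 1 ∧ ∀ c ∈ C₀, x * c * x⁻¹ = c⁻¹

lemma dih_out {n : ℕ} (hn : 2 ≤ n) (C' : Subgroup (DihedralGroup n)) (hc : IsCyclic C')
    (hi : C'.index = 2) : ∀ x, x ∉ C' → x * x = 1 ∧ ∀ c ∈ C', x * c * x⁻¹ = c⁻¹ := by
  by_cases hn2 : n = 2
  · subst hn2
    have h1 : ∀ x : DihedralGroup 2, x * x = 1 := by decide
    have h2 : ∀ x c : DihedralGroup 2, x * c * x⁻¹ = c⁻¹ := by decide
    intro x _
    exact ⟨h1 x, fun c _ => h2 x c⟩
  · haveI : NeZero n := ⟨by omega⟩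
    haveI : Finite (DihedralGroup n) := inferInstance
    have hcard : Nat.card C' = n := by
      have h1 := C'.index_mul_card
      rw [hi, DihedralGroup.nat_card] at h1
      omega
    obtain ⟨c₀, hc₀⟩ := hc.exists_generator
    have hgen : ∀ y ∈ C', y ∈ zpowers (c₀ : DihedralGroup n) := by
      intro y hy
      have := hc₀ ⟨y, hy⟩
      obtain ⟨k, hk⟩ := Subgroup.mem_zpowers_iff.mp this
      exact Subgroup.mem_zpowers_iff.mpr ⟨k, congrArg Subtype.val hk⟩
    have hord : orderOf (c₀ : DihedralGroup n) = n := by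
      rw [Subgroup.orderOf_coe, orderOf_eq_card_of_forall_mem_zpowers hc₀, hcard]
    obtain ⟨i, hi'⟩ : ∃ i, (c₀ : DihedralGroup n) = r i := by
      rcases h : (c₀ : DihedralGroup n) with i | i
      · exact ⟨i, rfl⟩
      · exfalso
        rw [h, DihedralGroup.orderOf_sr] at hord
        omega
    have hrot : ∀ y ∈ C', ∃ j, y = r j := by
      intro y hy
      obtain ⟨k, rfl⟩ := Subgroup.mem_zpowers_iff.mp (hgen y hy)
      rw [hi', r_zpow]
      exact ⟨_, rfl⟩
    let R : Subgroup (DihedralGroup n) := zpowers (r 1)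
    have hRc : Nat.card R = n := by
      rw [Nat.card_zpowers, DihedralGroup.orderOf_r_one]
    have hle : C' ≤ R := by
      intro y hy
      obtain ⟨j, rfl⟩ := hrot y hy
      refine Subgroup.mem_zpowers_iff.mpr ⟨(j.val : ℤ), ?_⟩
      rw [r_one_zpow]
      congr 1
      simp
    have hCR : C' = R := Subgroup.eq_of_le_of_card_ge hle (by rw [hcard, hRc])
    have hmemR : ∀ j : ZMod n, r j ∈ C' := by
      intro j
      rw [hCR]
      refine Subgroup.mem_zpowers_iff.mpr ⟨(j.val : ℤ), ?_⟩
      rw [r_one_zpow]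
      congr 1
      simp
    intro x hx
    rcases x with j | j
    · exact absurd (hmemR j) hx
    · refine ⟨sr_mul_self j, ?_⟩
      intro c hc'
      obtain ⟨k, rfl⟩ := hrot c hc'
      simp [DihedralGroup.inv_sr, DihedralGroup.inv_r]

/-- A cyclic subgroup of index two of a dihedral group has the structure. -/
lemma data_of_cyclic {S : Subgroup G} {n : ℕ} (hn : 2 ≤ n) (φ : S ≃* DihedralGroup n) {C : Subgroup G}
    {t : G} (hCS : C ≤ S) (hc : IsCyclic C) (hi : C.relIndex S = 2) (htC : t ∈ C) :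
    Data S C t := by
  refine ⟨hCS, hi, hc, htC, ?_⟩
  let C' : Subgroup (DihedralGroup n) := (C.subgroupOf S).comap φ.symm.toMonoidHom
  have hidx : C'.index = 2 := by
    rw [Subgroup.index_comap_of_surjective _ φ.symm.surjective]
    exact hi
  have hcyc : IsCyclic C' := by
    let f : C →* C' :=
      { toFun := fun a => ⟨φ ⟨a.1, hCS a.2⟩, by
          change φ.symm (φ ⟨a.1, hCS a.2⟩) ∈ C.subgroupOf S
          rw [MulEquiv.symm_apply_apply]
          exact a.2⟩
        map_one' := by
          apply Subtype.ext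
          change φ 1 = 1
          exact map_one φ
        map_mul' := fun a b => by
          apply Subtype.ext
          change φ (⟨a.1, hCS a.2⟩ * ⟨b.1, hCS b.2⟩) = _
          exact map_mul φ _ _ }
    apply isCyclic_of_surjective f
    rintro ⟨y, hy⟩
    have hy' : φ.symm y ∈ C.subgroupOf S := hy
    refine ⟨⟨(φ.symm y : G), hy'⟩, ?_⟩
    apply Subtype.ext
    change φ ⟨(φ.symm y : G), _⟩ = y
    rw [show (⟨(φ.symm y : G), hCS hy'⟩ : S) = φ.symm y from rfl]
    exact φ.apply_symm_apply y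
  intro x hx hxC
  have hx' : φ ⟨x, hx⟩ ∉ C' := by
    intro h0
    have h1 : φ.symm (φ ⟨x, hx⟩) ∈ C.subgroupOf S := h0
    rw [MulEquiv.symm_apply_apply] at h1
    exact hxC h1
  obtain ⟨h1, h2⟩ := dih_out hn C' hcyc hidx _ hx'
  constructor
  · have h3 : φ (⟨x, hx⟩ * ⟨x, hx⟩) = 1 := by rw [map_mul]; exact h1
    have h4 : (⟨x, hx⟩ * ⟨x, hx⟩ : S) = 1 := (map_eq_one_iff φ φ.injective).mp h3
    exact congrArg Subtype.val h4
  · intro c hcC
    have hc' : φ ⟨c, hCS hcC⟩ ∈ C' := by
      change φ.symm (φ ⟨c, hCS hcC⟩) ∈ C.subgroupOf S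
      rw [MulEquiv.symm_apply_apply]
      exact hcC
    have h3 := h2 _ hc'
    have h4 : φ (⟨x, hx⟩ * ⟨c, hCS hcC⟩ * (⟨x, hx⟩ : S)⁻¹) = φ (⟨c, hCS hcC⟩ : S)⁻¹ := by
      rw [map_mul, map_mul, map_inv, map_inv]
      exact h3
    exact congrArg Subtype.val (φ.injective h4)

lemma relIndex_of_card {S C : Subgroup G} {n : ℕ} (hCS : C ≤ S) (hS : Nat.card S = 2 * n)
    (hC : Nat.card C = n) (hn : 0 < n) : C.relIndex S = 2 := by
  have h1 := (C.subgroupOf S).index_mul_card
  have h2 : Nat.card (C.subgroupOf S) = Nat.card C :=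
    Nat.card_congr (Subgroup.subgroupOfEquivOfLe hCS).toEquiv
  rw [h2, hC, hS] at h1
  have h3 : (C.subgroupOf S).index = 2 := by
    apply Nat.eq_of_mul_eq_mul_right hn
    rw [h1]
  exact h3

/-- The existence of the data. -/
lemma exists_data {S : Subgroup G} {n : ℕ} (hn : 2 ≤ n) (φ : S ≃* DihedralGroup n) {t : G}
    (ht : orderOf t = 2) (htS : t ∈ S) (htZ : ∀ s ∈ S, s * t = t * s) :
    ∃ C₀ : Subgroup G, Data S C₀ t := by
  have hS : Nat.card S = 2 * n := by
    rw [Nat.card_congr φ.toEquiv, DihedralGroup.nat_card]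
  by_cases hn2 : n = 2
  · subst hn2
    have hCS : zpowers t ≤ S := by rw [Subgroup.zpowers_le]; exact htS
    exact ⟨zpowers t, data_of_cyclic hn φ hCS inferInstance
      (relIndex_of_card hCS hS (by rw [Nat.card_zpowers, ht]) (by norm_num)) (mem_zpowers t)⟩
  · haveI : NeZero n := ⟨by omega⟩
    let c : S := φ.symm (r 1)
    have hCS : zpowers (c : G) ≤ S := by rw [Subgroup.zpowers_le]; exact c.2
    have hcard : Nat.card (zpowers (c : G)) = n := by
      rw [Nat.card_zpowers, Subgroup.orderOf_coe, MulEquiv.orderOf_eq, DihedralGroup.orderOf_r_one]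
    refine ⟨zpowers (c : G), data_of_cyclic hn φ hCS inferInstance
      (relIndex_of_card hCS hS hcard (by omega)) ?_⟩
    -- the image of `t` is a rotation
    have hcomm : ∀ y : DihedralGroup n, y * φ ⟨t, htS⟩ = φ ⟨t, htS⟩ * y := by
      intro y
      obtain ⟨a, rfl⟩ := φ.surjective y
      rw [← map_mul, ← map_mul]
      congr 1
      apply Subtype.ext
      exact htZ a.1 a.2
    rcases h : φ ⟨t, htS⟩ with j | j
    · refine Subgroup.mem_zpowers_iff.mpr ⟨(j.val : ℤ), ?_⟩
      have h2 : (c : S) ^ (j.val : ℤ) = ⟨t, htS⟩ := by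
        apply φ.injective
        rw [map_zpow, h]
        change (φ (φ.symm (r 1))) ^ (j.val : ℤ) = r j
        rw [MulEquiv.apply_symm_apply, r_one_zpow]
        congr 1
        simp
      exact congrArg Subtype.val h2
    · exfalso
      have h1 := hcomm (r 1)
      rw [h] at h1
      simp only [r_mul_sr, sr_mul_r] at h1
      have h2 : j - 1 = j + 1 := by
        injection h1
      have h3 : (2 : ZMod n) = 0 := by
        have : (j + 1) - (j - 1) = 0 := by rw [← h2]; ring
        have e : (j + 1) - (j - 1) = 2 := by ring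
        rw [← e, this]
      have h4 : ((2 : ℕ) : ZMod n) = 0 := by exact_mod_cast h3
      rw [ZMod.natCast_eq_zero_iff] at h4
      have := Nat.le_of_dvd (by norm_num) h4
      omega

end Cfsg.Agent.Lib.BSW.DihData
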