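import Cfsg.Agent.Lib.BSW.Data
import Cfsg.Agent.Lib.Perm.KleinCent

/-!
# Abstract Brauer–Suzuki–Wall: the case `|K| = 2`
-/

set_option autoImplicit false
set_option linter.unusedSectionVars false
set_option linter.unusedVariables false

namespace Cfsg.Agent.Lib.BSW.K2

open Subgroup hiding mem_centralizer_singleton_iff
open Cfsg Cfsg.Agent.Lib.BSW.Setup Cfsg.Agent.Lib.BSW.Group Cfsg.Agent.Lib.BSW.Data

variable {G : Type*} [Group G] [Finite G]

section

variable {t s : G} {K : Subgroup G} (h : Hyp t s K) (hk : Nat.card K = 2)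

include h hk

lemma sq_of_mem_K {x : G} (hx : x ∈ K) : x * x = 1 := by
  have h1 := pow_card_eq_one' (x := (⟨x, hx⟩ : K))
  rw [hk, sq] at h1
  exact congrArg Subtype.val h1

lemma kc_t : Nat.card (centralizer ({t} : Set G)) = 4 ∧ ∀ c ∈ centralizer ({t} : Set G), c ^ 2 = 1 := by
  refine ⟨by rw [card_centralizer_t h, hk], ?_⟩
  intro c hc
  rw [Subgroup.mem_centralizer_singleton_iff] at hc
  rw [sq]
  rcases h.hH c hc with h1 | ⟨x, hx, rfl⟩
  · exact sq_of_mem_K h hk h1
  · exact sx_sq h hx

lemma kc : Cfsg.Agent.Lib.Perm.KleinCent.KC G := by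
  intro u hu
  obtain ⟨g, hg, hh⟩ := exists_hyp h hu
  exact kc_t hh (by rw [card_conjS]; exact hk)

/-- An element whose square is not one commutes with no involution. -/
lemma no_comm {x u : G} (hx : x ^ 2 ≠ 1) (hu : orderOf u = 2) : x * u ≠ u * x := by
  intro hc
  exact hx ((kc h hk u hu).2 x (Subgroup.mem_centralizer_singleton_iff.mpr hc))

lemma odd_cent {x : G} (hx : x ^ 2 ≠ 1) : Odd (Nat.card (centralizer ({x} : Set G))) := by
  rw [← Nat.not_even_iff_odd]
  intro he
  haveI : Fact (Nat.Prime 2) := ⟨Nat.prime_two⟩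
  obtain ⟨c, hc⟩ := exists_prime_orderOf_dvd_card' (G := centralizer ({x} : Set G)) 2 he.two_dvd
  have h1 : orderOf (c : G) = 2 := by rw [Subgroup.orderOf_coe]; exact hc
  have h2 : (c : G) * x = x * c := Subgroup.mem_centralizer_singleton_iff.mp c.2
  exact no_comm h hk hx h1 h2.symm

end

/-- Facts on a cyclic subgroup of prime order. -/
lemma zpowers_of_mem {p : ℕ} [Fact p.Prime] {x y : G} (hx : orderOf x = p) (hy : y ∈ zpowers x)
    (hy1 : y ≠ 1) : zpowers y = zpowers x := by
  apply Subgroup.eq_of_le_of_card_ge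
  · rw [Subgroup.zpowers_le]
    exact hy
  · rw [Nat.card_zpowers, Nat.card_zpowers, hx]
    have h1 : orderOf y ∣ p := by
      have h2 := orderOf_dvd_natCard (⟨y, hy⟩ : zpowers x)
      rwa [Subgroup.orderOf_mk, Nat.card_zpowers, hx] at h2
    rcases (Nat.dvd_prime Fact.out).mp h1 with h2 | h2
    · exact absurd (orderOf_eq_one_iff.mp h2) hy1
    · exact h2.ge

lemma comm_zpowers {x a b : G} (ha : a ∈ zpowers x) (hb : b ∈ zpowers x) : a * b = b * a := by
  obtain ⟨i, rfl⟩ := mem_zpowers_iff.mp ha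
  obtain ⟨j, rfl⟩ := mem_zpowers_iff.mp hb
  exact ((Commute.refl x).zpow_zpow i j).eq

/-- The self-centralizing property of a subgroup of prime order `p` with `p` the odd part. -/
lemma selfCent_of {t s : G} {K : Subgroup G} (h : Hyp t s K) (hk : Nat.card K = 2) {p : ℕ}
    [Fact p.Prime] {x : G} (hx : orderOf x = p) (hp : 3 ≤ p)
    (hC : ∀ y ∈ zpowers x, y ≠ 1 → Nat.card (centralizer ({y} : Set G)) ≤ p) :
    SelfCent (zpowers x) := by
  intro y hy hy1
  symm
  apply Subgroup.eq_of_le_of_card_ge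
  · intro a ha
    rw [Subgroup.mem_centralizer_singleton_iff]
    exact comm_zpowers ha hy
  · rw [Nat.card_zpowers, hx]
    exact hC y hy hy1

/-- The case that the centralizer of `t` is normal. -/
theorem case_normal {t s : G} {K : Subgroup G} (h : Hyp t s K) (hk : Nat.card K = 2)
    (hV : (centralizer ({t} : Set G)).Normal) : Concl G := by
  classical
  set V := centralizer ({t} : Set G) with hVd
  have hVm : ∀ {a : G}, a ∈ V ↔ a * t = t * a := Subgroup.mem_centralizer_singleton_iff
  obtain ⟨hV4, hVsq⟩ := kc_t h hk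
  have hinvV : ∀ u, orderOf u = 2 → u ∈ V := by
    intro u hu
    obtain ⟨c, rfl⟩ := isConj_iff.mp (h.hconj u hu)
    exact hV.conj_mem t (hVm.mpr rfl) c
  have hclass : {u : G // IsConj t u} ≃ {x : V // x ≠ 1} := by
    refine ⟨fun u => ⟨⟨u.1, ?_⟩, ?_⟩, fun x => ⟨x.1.1, ?_⟩, ?_, ?_⟩
    · obtain ⟨c, hc⟩ := isConj_iff.mp u.2
      rw [← hc]
      exact hV.conj_mem t (hVm.mpr rfl) c
    · intro h0
      have h1 : u.1 = 1 := congrArg Subtype.val h0
      obtain ⟨c, hc⟩ := isConj_iff.mp u.2
      rw [h1] at hc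
      exact conj_ne_one c (t_ne_one h) hc
    · apply h.hconj
      haveI : Fact (Nat.Prime 2) := ⟨Nat.prime_two⟩
      apply orderOf_eq_prime (hVsq _ x.1.2)
      exact fun h0 => x.2 (Subtype.ext h0)
    · intro u; rfl
    · intro x; rfl
  have hc3 : Nat.card {u : G // IsConj t u} = 3 := by
    rw [Nat.card_congr hclass]
    have h1 := card_ne_one_K V
    have h2 : Nat.card V = 4 := hV4
    omega
  have hG : Nat.card G = 12 := by
    have e := Cfsg.Agent.Lib.Char.Complete.card_isConj_mul_card_centralizer t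
    rw [card_centralizer_t h, hk] at e
    have e2 : Nat.card {x : G // IsConj x t} = Nat.card {u : G // IsConj t u} :=
      Nat.card_congr (Equiv.subtypeEquivRight fun u => isConj_comm)
    rw [e2, hc3] at e
    omega
  haveI : Fact (Nat.Prime 3) := ⟨Nat.prime_three⟩
  obtain ⟨x, hx⟩ := exists_prime_orderOf_dvd_card' (G := G) 3 (by rw [hG]; norm_num)
  set Q := zpowers x with hQd
  have hcQ : Nat.card Q = 3 := by rw [hQd, Nat.card_zpowers, hx]
  have hQorder : ∀ y ∈ Q, y ≠ 1 → orderOf y = 3 := by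
    intro y hy hy1
    have h1 : zpowers y = zpowers x := zpowers_of_mem hx hy hy1
    rw [← Nat.card_zpowers, h1, Nat.card_zpowers, hx]
  have hQsq : ∀ y ∈ Q, y ≠ 1 → y ^ 2 ≠ 1 := by
    intro y hy hy1 h2
    have h3 := orderOf_dvd_of_pow_eq_one h2
    rw [hQorder y hy hy1] at h3
    omega
  have hSC : SelfCent Q := by
    apply selfCent_of h hk hx (by norm_num)
    intro y hy hy1
    have h1 := odd_cent h hk (hQsq y hy hy1)
    have h2 : Nat.card (centralizer ({y} : Set G)) ∣ 12 := by
      rw [← hG]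
      exact Subgroup.card_subgroup_dvd_card _
    have h3 : Nat.card (centralizer ({y} : Set G)) ≤ 12 := Nat.le_of_dvd (by norm_num) h2
    interval_cases hc : Nat.card (centralizer ({y} : Set G)) <;> first | omega | (exfalso; revert h2; decide) | (exfalso; revert h1; decide)
  have hQV : ∀ a ∈ Q, a ∈ V → a = 1 := by
    intro a ha haV
    by_contra ha1
    exact hQsq a ha ha1 (hVsq a haV)
  have hnorm : normalizer (Q : Set G) = Q := by
    symm
    apply Subgroup.eq_of_le_of_card_ge Subgroup.le_normalizer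
    rw [hcQ]
    have hnoinv : Odd (Nat.card (normalizer (Q : Set G))) := by
      rw [← Nat.not_even_iff_odd]
      intro he
      haveI : Fact (Nat.Prime 2) := ⟨Nat.prime_two⟩
      obtain ⟨u, hu⟩ := exists_prime_orderOf_dvd_card' (G := normalizer (Q : Set G)) 2 he.two_dvd
      have hu' : orderOf (u : G) = 2 := by rw [Subgroup.orderOf_coe]; exact hu
      have hx1 : x ≠ 1 := by
        intro h0
        rw [h0, orderOf_one] at hx
        omega
      have hxQ : x ∈ Q := mem_zpowers x
      have h1 : x * u * x⁻¹ * (u : G)⁻¹ ∈ V := V.mul_mem (hV.conj_mem _ (hinvV _ hu') x)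
        (V.inv_mem (hinvV _ hu'))
      have h2 : x * u * x⁻¹ * (u : G)⁻¹ ∈ Q := by
        have h3 := (mem_normalizer_iff.mp u.2 x⁻¹).mp (Q.inv_mem hxQ)
        have e : x * u * x⁻¹ * (u : G)⁻¹ = x * ((u : G) * x⁻¹ * (u : G)⁻¹) := by group
        rw [e]
        exact Q.mul_mem hxQ h3
      have h4 := hQV _ h2 h1
      apply no_comm h hk (hQsq x hxQ hx1) hu'
      have h5 : x * u = (x * u * x⁻¹ * (u : G)⁻¹) * (u * x) := by group
      rw [h5, h4, one_mul]
    have h2 : Nat.card (normalizer (Q : Set G)) ∣ 12 := by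
      rw [← hG]
      exact Subgroup.card_subgroup_dvd_card _
    have h3 : Nat.card (normalizer (Q : Set G)) ≤ 12 := Nat.le_of_dvd (by norm_num) h2
    interval_cases hc : Nat.card (normalizer (Q : Set G)) <;> first | omega | (exfalso; revert h2; decide) | (exfalso; revert hnoinv; decide)
  refine ⟨Q, ⊥, ?_, hSC, ?_, ?_, ?_, ?_, ?_⟩
  · rw [hG, hcQ]
  · exact ⟨⟨fun a b => Subsingleton.elim _ _⟩⟩
  · rw [Subgroup.card_bot, hcQ]
  · exact inf_bot_eq _
  · rw [sup_bot_eq]
    exact hnorm
  · intro X hX hX1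
    exact absurd (le_bot_iff.mp hX) hX1

/-- The case `|G| = 60`. -/
theorem case_simple {t s : G} {K : Subgroup G} (h : Hyp t s K) (hk : Nat.card K = 2)
    (hS : IsSimpleGroup G) (hG : Nat.card G = 60) : Concl G := by
  classical
  haveI : Fact (Nat.Prime 5) := ⟨by norm_num⟩
  haveI : Fact (Nat.Prime 2) := ⟨Nat.prime_two⟩
  obtain ⟨x, hx⟩ := exists_prime_orderOf_dvd_card' (G := G) 5 (by rw [hG]; norm_num)
  set Q := zpowers x with hQd
  have hcQ : Nat.card Q = 5 := by rw [hQd, Nat.card_zpowers, hx]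
  have hQorder : ∀ y ∈ Q, y ≠ 1 → orderOf y = 5 := by
    intro y hy hy1
    have h1 : zpowers y = zpowers x := zpowers_of_mem hx hy hy1
    rw [← Nat.card_zpowers, h1, Nat.card_zpowers, hx]
  have hQsq : ∀ y ∈ Q, y ≠ 1 → y ^ 2 ≠ 1 := by
    intro y hy hy1 h2
    have h3 := orderOf_dvd_of_pow_eq_one h2
    rw [hQorder y hy hy1] at h3
    omega
  -- Sylow count
  have hQp : IsPGroup 5 Q := IsPGroup.of_card (n := 1) (by rw [hcQ, pow_one])
  have hidx : Q.index = 12 := by
    have h1 := Q.index_mul_card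
    rw [hcQ, hG] at h1
    omega
  let P : Sylow 5 G := hQp.toSylow (by rw [hidx]; norm_num)
  have hn1 : Nat.card (Sylow 5 G) = (normalizer (Q : Set G)).index := Sylow.card_eq_index_normalizer P
  have hn2 : Nat.card (Sylow 5 G) ∣ 12 := by
    rw [← hidx]
    exact Sylow.card_dvd_index P
  have hn3 : Nat.card (Sylow 5 G) % 5 = 1 := by
    have := card_sylow_modEq_one 5 G
    exact this
  have hn4 : Nat.card (Sylow 5 G) ≠ 1 := by
    intro h0
    have hnormal : Q.Normal := by
      have h1 : (normalizer (Q : Set G)).index = 1 := by rw [← hn1, h0]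
      have h2 := Subgroup.index_eq_one.mp h1
      exact Subgroup.normalizer_eq_top_iff.mp h2
    rcases hS.eq_bot_or_eq_top_of_normal Q hnormal with h1 | h1
    · rw [h1, Subgroup.card_bot] at hcQ
      omega
    · rw [h1, Subgroup.card_top, hG] at hcQ
      omega
  have hn5 : Nat.card (Sylow 5 G) = 6 := by
    have h1 : Nat.card (Sylow 5 G) ≤ 12 := Nat.le_of_dvd (by norm_num) hn2
    interval_cases hc : Nat.card (Sylow 5 G) <;> first | omega | (exfalso; revert hn2; decide)
  have hNQ : Nat.card (normalizer (Q : Set G)) = 10 := by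
    have h1 := (normalizer (Q : Set G)).index_mul_card
    rw [← hn1, hn5, hG] at h1
    omega
  -- the involution
  obtain ⟨u, hu⟩ := exists_prime_orderOf_dvd_card' (G := normalizer (Q : Set G)) 2
    (by rw [hNQ]; norm_num)
  have hu' : orderOf (u : G) = 2 := by rw [Subgroup.orderOf_coe]; exact hu
  obtain ⟨g, hg, hh⟩ := exists_hyp h hu'
  have hk' : Nat.card (conjS g K) = 2 := by rw [card_conjS]; exact hk
  set K' := conjS g K with hK'
  have hK'm : ∀ a ∈ K', a = 1 ∨ a = u := by
    intro a ha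
    by_cases ha1 : a = 1
    · exact Or.inl ha1
    · right
      obtain ⟨v, -, hv⟩ := (Nat.card_eq_two_iff' (1 : K')).mp hk'
      have h1 := hv ⟨a, ha⟩ (fun h0 => ha1 (congrArg Subtype.val h0))
      have h2 := hv ⟨u, hh.htK⟩ (fun h0 => t_ne_one hh (congrArg Subtype.val h0))
      exact congrArg Subtype.val (h1.trans h2.symm)
  have hK'N : K' ≤ normalizer (Q : Set G) := by
    intro a ha
    rcases hK'm a ha with h1 | h1
    · rw [h1]
      exact one_mem _
    · rw [h1]
      exact u.2
  have hdisj : Q ⊓ K' = ⊥ := by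
    rw [Subgroup.eq_bot_iff_forall]
    rintro a ⟨ha, haK⟩
    by_contra ha1
    rcases hK'm a haK with h1 | h1
    · exact ha1 h1
    · have := hQorder a ha ha1
      rw [h1, hu'] at this
      omega
  have hsup : Q ⊔ K' = normalizer (Q : Set G) := by
    apply Subgroup.eq_of_le_of_card_ge (sup_le Subgroup.le_normalizer hK'N)
    rw [hNQ]
    have h1 : Nat.card Q ∣ Nat.card (Q ⊔ K' : Subgroup G) := Subgroup.card_dvd_of_le le_sup_left
    have h2 : Nat.card K' ∣ Nat.card (Q ⊔ K' : Subgroup G) := Subgroup.card_dvd_of_le le_sup_right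
    rw [hcQ] at h1
    rw [hk'] at h2
    have h3 : 5 * 2 ∣ Nat.card (Q ⊔ K' : Subgroup G) :=
      Nat.Coprime.mul_dvd_of_dvd_of_dvd (by norm_num) h1 h2
    exact Nat.le_of_dvd Nat.card_pos h3
  have hSC : SelfCent Q := by
    apply selfCent_of h hk hx (by norm_num)
    intro y hy hy1
    have h1 := odd_cent h hk (hQsq y hy hy1)
    have hle : centralizer ({y} : Set G) ≤ normalizer (Q : Set G) := by
      intro a ha
      have ha' : a * y = y * a := Subgroup.mem_centralizer_singleton_iff.mp ha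
      have hzy : zpowers y = zpowers x := zpowers_of_mem hx hy hy1
      have hcomm : ∀ b ∈ Q, a * b * a⁻¹ = b := by
        intro b hb
        rw [hQd, ← hzy] at hb
        obtain ⟨i, rfl⟩ := mem_zpowers_iff.mp hb
        have : Commute a (y ^ i) := (Commute.zpow_right ha' i)
        rw [this.eq]
        group
      rw [mem_normalizer_iff]
      intro b
      constructor
      · intro hb
        rw [hcomm b hb]
        exact hb
      · intro hb
        have h2 := hcomm _ hb
        have h3 : a * (a * b * a⁻¹) * a⁻¹ = a * b * a⁻¹ := h2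
        have h4 : a * b * a⁻¹ = b := by
          have := congrArg (fun z => a⁻¹ * z * a) h3
          simpa [mul_assoc] using this
        rwa [h4] at hb
    have h2 : Nat.card (centralizer ({y} : Set G)) ∣ 10 := by
      rw [← hNQ]
      exact Subgroup.card_dvd_of_le hle
    have h3 : Nat.card (centralizer ({y} : Set G)) ≤ 10 := Nat.le_of_dvd (by norm_num) h2
    interval_cases hc : Nat.card (centralizer ({y} : Set G)) <;> first | omega | (exfalso; revert h2; decide) | (exfalso; revert h1; decide)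
  refine ⟨Q, K', ?_, hSC, ?_, ?_, hdisj, hsup.symm, fun X hX hX1 => final_K hh hX hX1⟩
  · rw [hG, hcQ]
  · exact ⟨⟨fun a b => Subtype.ext (hh.hcomm a.1 a.2 b.1 b.2)⟩⟩
  · rw [hk', hcQ]

theorem main {t s : G} {K : Subgroup G} (h : Hyp t s K) (hk : Nat.card K = 2) : Concl G := by
  classical
  letI := Fintype.ofFinite G
  rcases Cfsg.Agent.Lib.Perm.KleinCent.KC.normal_or_simple (kc h hk) h.ht
      (fun u hu => h.hconj u hu) with h1 | ⟨h1, h2⟩
  · exact case_normal h hk h1
  · exact case_simple h hk h1 (by rw [Nat.card_eq_fintype_card, h2])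

end Cfsg.Agent.Lib.BSW.K2
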