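import Cfsg.Agent.Lib.BSW.CaseI
import Cfsg.Agent.Lib.BSW.CaseIIc
import Cfsg.Agent.Lib.BSW.K2

/-!
# Abstract Brauer–Suzuki–Wall: the theorem, for `Hyp`
-/

set_option autoImplicit false

namespace Cfsg.Agent.Lib.BSW.Main

open Cfsg.Agent.Lib.BSW Cfsg.Agent.Lib.BSW.Setup Cfsg.Agent.Lib.BSW.Data

variable {G : Type*} [Group G] [Finite G]

theorem concl_of_hyp {t s : G} {K : Subgroup G} (h : Hyp t s K) : Concl G := by
  have hk0 : 0 < Nat.card K := Nat.card_pos
  have hk2 := even_card_K h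
  by_cases hk : Nat.card K = 2
  · exact K2.main h hk
  · have hk4 : 4 ≤ Nat.card K := by omega
    obtain ⟨d, w, H⟩ := exists_CD h hk4
    rcases H.hd with hd | hd
    · exact CaseI.main h H hd
    · exact CaseIIc.main h H hd hk4

end Cfsg.Agent.Lib.BSW.Main
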