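import Cfsg.Agent.Lib.BSW.Recog
import Cfsg.Agent.Lib.BSW.Main
import Cfsg.Agent.Lib.BSW.DihData
import Cfsg.Agent.S0071
import Cfsg.Agent.Lib.Involutions2.Sign

/-!
# Brauer–Suzuki–Wall for dihedral Sylow 2-subgroups: the hypotheses of the abstract form
-/

set_option autoImplicit false
set_option linter.unusedSectionVars false
set_option linter.unusedVariables false

namespace Cfsg.Agent.Lib.BSW.DihHyp

open Subgroup hiding mem_centralizer_singleton_iff
open Cfsg Cfsg.Agent.Lib.BSW.Setup Cfsg.Agent.Lib.BSW.Group Cfsg.Agent.Lib.BSW.Data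
  Cfsg.Agent.Lib.BSW.DihData Cfsg.Agent.Lib.BSW.Recog
open Cfsg.Agent.Lib.Core.Basic (le_pPrimeCore pPrimeCore_coprime)

variable {G : Type*} [Group G] [Finite G]

lemma uniq_inv {C₀ : Subgroup G} (hc : IsCyclic C₀) {t c : G} (ht1 : t ≠ 1) (htC : t ∈ C₀)
    (htt : t * t = 1) (hcC : c ∈ C₀) (hcc : c * c = 1) : c = 1 ∨ c = t := by
  classical
  letI : Fintype C₀ := Fintype.ofFinite _
  by_contra hcon
  push Not at hcon
  have h := IsCyclic.card_pow_eq_one_le (α := C₀) (n := 2) (by norm_num)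
  have hsub : ({1, ⟨t, htC⟩, ⟨c, hcC⟩} : Finset C₀) ⊆
      Finset.univ.filter (fun a : C₀ => a ^ 2 = 1) := by
    intro a ha
    simp only [Finset.mem_insert, Finset.mem_singleton] at ha
    simp only [Finset.mem_filter, Finset.mem_univ, true_and]
    rcases ha with rfl | rfl | rfl
    · simp
    · apply Subtype.ext
      simpa [sq] using htt
    · apply Subtype.ext
      simpa [sq] using hcc
  have h2 := Finset.card_le_card hsub
  have hcard : ({1, ⟨t, htC⟩, ⟨c, hcC⟩} : Finset C₀).card = 3 := by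
    rw [Finset.card_insert_of_notMem, Finset.card_insert_of_notMem, Finset.card_singleton]
    · simp only [Finset.mem_singleton]
      intro h0
      exact hcon.2 (congrArg Subtype.val h0).symm
    · simp only [Finset.mem_insert, Finset.mem_singleton, not_or]
      refine ⟨fun h0 => ht1 (congrArg Subtype.val h0).symm, fun h0 => hcon.1 (congrArg Subtype.val h0).symm⟩
  rw [hcard] at h2
  omega

section frob

variable {S C₀ : Subgroup G} {t : G} (D : Data S C₀ t) (htt : t * t = 1) (ht1 : t ≠ 1)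
  (hS2 : IsPGroup 2 S)

include D htt ht1 hS2

lemma comm_C₀ {a b : G} (ha : a ∈ C₀) (hb : b ∈ C₀) : a * b = b * a := by
  haveI := D.hcyc
  letI : CommGroup C₀ := IsCyclic.commGroup
  exact congrArg Subtype.val (mul_comm (⟨a, ha⟩ : C₀) ⟨b, hb⟩)

lemma mul_mem_C₀ {x y : G} (hx : x ∈ S) (hy : y ∈ S) (hxC : x ∉ C₀) (hyC : y ∉ C₀) : x * y ∈ C₀ := by
  have h := Subgroup.mul_mem_iff_of_index_two (H := C₀.subgroupOf S) (a := ⟨x, hx⟩) (b := ⟨y, hy⟩)
    D.hidx
  have h2 : (⟨x, hx⟩ * ⟨y, hy⟩ : S) ∈ C₀.subgroupOf S := by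
    rw [h]
    constructor
    · intro h3; exact absurd h3 hxC
    · intro h3; exact absurd h3 hyC
  exact h2

lemma part_C₀ {Q : Subgroup G} (hQS : Q ≤ S) {g : G} (hgt : g * t = t * g)
    (hgn : g ∈ normalizer (Q : Set G)) (hodd : Odd (orderOf g)) :
    ∀ j : ℕ, ∀ c, c ∈ Q → c ∈ C₀ → c ^ 2 ^ j = 1 → g * c * g⁻¹ = c := by
  have hti : g * t * g⁻¹ = t := by rw [hgt]; group
  intro j
  induction j with
  | zero =>
    intro c _ _ h
    rw [pow_zero, pow_one] at h
    rw [h]
    group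
  | succ j ih =>
    intro c hcQ hcC hc
    have hc2 : (c * c) ^ 2 ^ j = 1 := by
      rw [← sq, ← pow_mul, ← pow_succ']
      exact hc
    have h1 := ih (c * c) (Q.mul_mem hcQ hcQ) (C₀.mul_mem hcC hcC) hc2
    have hc'Q : g * c * g⁻¹ ∈ Q := (mem_normalizer_iff.mp hgn c).mp hcQ
    have hc'c' : (g * c * g⁻¹) * (g * c * g⁻¹) = c * c := by
      calc (g * c * g⁻¹) * (g * c * g⁻¹) = g * (c * c) * g⁻¹ := by group
        _ = c * c := h1
    by_cases hcc : c * c = 1
    · rcases uniq_inv D.hcyc ht1 D.ht htt hcC hcc with rfl | rfl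
      · group
      · exact hti
    · have hc'C : g * c * g⁻¹ ∈ C₀ := by
        by_contra h
        exact hcc (hc'c' ▸ (D.hout _ (hQS hc'Q) h).1)
      have hw : (g * c * g⁻¹) * c⁻¹ ∈ C₀ := C₀.mul_mem hc'C (C₀.inv_mem hcC)
      have hww : ((g * c * g⁻¹) * c⁻¹) * ((g * c * g⁻¹) * c⁻¹) = 1 := by
        have h2 := comm_C₀ D htt ht1 hS2 hc'C (C₀.inv_mem hcC)
        calc ((g * c * g⁻¹) * c⁻¹) * ((g * c * g⁻¹) * c⁻¹)
            = (g * c * g⁻¹) * (c⁻¹ * (g * c * g⁻¹)) * c⁻¹ := by group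
          _ = (g * c * g⁻¹) * ((g * c * g⁻¹) * c⁻¹) * c⁻¹ := by rw [h2]
          _ = ((g * c * g⁻¹) * (g * c * g⁻¹)) * (c⁻¹ * c⁻¹) := by group
          _ = 1 := by rw [hc'c']; group
      rcases uniq_inv D.hcyc ht1 D.ht htt hw hww with h2 | h2
      · exact mul_inv_eq_one.mp h2
      · -- `g` swaps `c` and `ct`
        have h3 : g * c * g⁻¹ = t * c := by
          have := congrArg (fun z => z * c) h2
          simpa using this
        have h4 : (g * g) * c * (g * g)⁻¹ = c := by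
          calc (g * g) * c * (g * g)⁻¹ = g * (g * c * g⁻¹) * g⁻¹ := by group
            _ = g * (t * c) * g⁻¹ := by rw [h3]
            _ = (g * t * g⁻¹) * (g * c * g⁻¹) := by group
            _ = t * (t * c) := by rw [hti, h3]
            _ = c := by rw [← mul_assoc, htt, one_mul]
        obtain ⟨m, hm⟩ := hodd
        have h5 : g = (g * g) ^ (m + 1) := by
          have h6 : g ^ (2 * m + 1) = 1 := by rw [← hm]; exact pow_orderOf_eq_one g
          calc g = g ^ (2 * m + 1) * g := by rw [h6, one_mul]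
            _ = (g * g) ^ (m + 1) := by
              rw [← sq, ← pow_mul, ← pow_succ]
              congr 1
        have h7 : Commute (g * g) c := by
          change (g * g) * c = c * (g * g)
          calc (g * g) * c = ((g * g) * c * (g * g)⁻¹) * (g * g) := by group
            _ = c * (g * g) := by rw [h4]
        have h8 : Commute g c := by
          rw [h5]
          exact h7.pow_left _
        rw [h8.eq]
        group

lemma odd_centralizes {Q : Subgroup G} (hQS : Q ≤ S) {g : G} (hgt : g * t = t * g)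
    (hgn : g ∈ normalizer (Q : Set G)) (hodd : Odd (orderOf g)) :
    ∀ x ∈ Q, g * x * g⁻¹ = x := by
  have hpow : ∀ a ∈ S, ∃ j : ℕ, a ^ 2 ^ j = 1 := by
    intro a ha
    obtain ⟨j, hj⟩ := hS2 ⟨a, ha⟩
    exact ⟨j, by simpa using congrArg Subtype.val hj⟩
  have hC : ∀ c, c ∈ Q → c ∈ C₀ → g * c * g⁻¹ = c := by
    intro c hcQ hcC
    obtain ⟨j, hj⟩ := hpow c (hQS hcQ)
    exact part_C₀ D htt ht1 hS2 hQS hgt hgn hodd j c hcQ hcC hj
  have hC' : ∀ c, c ∈ Q → c ∈ C₀ → g⁻¹ * c * g⁻¹⁻¹ = c := by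
    intro c hcQ hcC
    obtain ⟨j, hj⟩ := hpow c (hQS hcQ)
    have hgt' : g⁻¹ * t = t * g⁻¹ := by
      have := congrArg (fun z => g⁻¹ * z * g⁻¹) hgt
      simp only [mul_assoc, mul_inv_cancel, mul_one, inv_mul_cancel_left] at this
      exact this.symm
    have hodd' : Odd (orderOf g⁻¹) := by rwa [orderOf_inv]
    exact part_C₀ D htt ht1 hS2 hQS hgt' ((normalizer (Q : Set G)).inv_mem hgn) hodd' j c hcQ hcC hj
  intro x hxQ
  by_cases hxC : x ∈ C₀
  · exact hC x hxQ hxC
  · have hx'Q : g * x * g⁻¹ ∈ Q := (mem_normalizer_iff.mp hgn x).mp hxQ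
    have hx'C : g * x * g⁻¹ ∉ C₀ := by
      intro h0
      have h1 := hC' _ hx'Q h0
      have e : g⁻¹ * (g * x * g⁻¹) * g⁻¹⁻¹ = x := by group
      rw [e] at h1
      apply hxC
      rw [h1]
      exact h0
    have hxx := (D.hout x (hQS hxQ) hxC).1
    set y := x * (g * x * g⁻¹) with hy
    have hyC : y ∈ C₀ := mul_mem_C₀ D htt ht1 hS2 (hQS hxQ) (hQS hx'Q) hxC hx'C
    have hyQ : y ∈ Q := Q.mul_mem hxQ hx'Q
    have hgy := hC y hyQ hyC
    have hx' : g * x * g⁻¹ = x * y := by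
      rw [hy, ← mul_assoc, hxx, one_mul]
    have hit : ∀ i : ℕ, g ^ i * x * (g ^ i)⁻¹ = x * y ^ i := by
      intro i
      induction i with
      | zero => simp
      | succ i ih =>
        have hgyi : g * y ^ i * g⁻¹ = y ^ i := by
          have e : g * y ^ i * g⁻¹ = (MulAut.conj g) (y ^ i) := by simp [MulAut.conj_apply]
          rw [e, map_pow, MulAut.conj_apply, hgy]
        calc g ^ (i + 1) * x * (g ^ (i + 1))⁻¹ = g * (g ^ i * x * (g ^ i)⁻¹) * g⁻¹ := by
              rw [pow_succ']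
              group
          _ = g * (x * y ^ i) * g⁻¹ := by rw [ih]
          _ = (g * x * g⁻¹) * (g * y ^ i * g⁻¹) := by group
          _ = x * y * y ^ i := by rw [hx', hgyi]
          _ = x * y ^ (i + 1) := by rw [pow_succ']; group
    have h1 := hit (orderOf g)
    rw [pow_orderOf_eq_one] at h1
    have h2 : y ^ orderOf g = 1 := by
      have h3 : x = x * y ^ orderOf g := by simpa using h1
      exact (mul_eq_left.mp h3.symm)
    obtain ⟨j, hj⟩ := hpow y (hQS hyQ)
    have h3 : orderOf y ∣ 2 ^ j := orderOf_dvd_of_pow_eq_one hj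
    have h4 : orderOf y ∣ orderOf g := orderOf_dvd_of_pow_eq_one h2
    have h5 : Nat.Coprime (2 ^ j) (orderOf g) :=
      Nat.Coprime.pow_left _ ((Nat.coprime_two_left).mpr hodd)
    have h6 : orderOf y = 1 := Nat.eq_one_of_dvd_coprimes h5 h3 h4
    have h7 : y = 1 := orderOf_eq_one_iff.mp h6
    rw [hx', h7, mul_one]

end frob

/-- `C(t)` is the product of its odd core and a Sylow 2-subgroup. -/
theorem centralizer_decomp {S : Sylow 2 G} {C₀ : Subgroup G} {t : G} (D : Data (S : Subgroup G) C₀ t)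
    (htt : t * t = 1) (ht1 : t ≠ 1)
    (hSt : (S : Subgroup G) ≤ centralizer ({t} : Set G)) {g : G} (hg : g * t = t * g) :
    ∃ o ∈ (Cfsg.oddCore (centralizer ({t} : Set G))).map (centralizer ({t} : Set G)).subtype,
      ∃ x ∈ (S : Subgroup G), g = o * x := by
  set C := centralizer ({t} : Set G) with hC
  have hCm : ∀ {a : G}, a ∈ C ↔ a * t = t * a := Subgroup.mem_centralizer_singleton_iff
  let P : Sylow 2 C := S.subtype hSt
  have hPm : ∀ {a : C}, a ∈ (P : Subgroup C) ↔ (a : G) ∈ (S : Subgroup G) := Iff.rfl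
  haveI : Fact (Nat.Prime 2) := ⟨Nat.prime_two⟩
  have hcomp := (Cfsg.Agent.S0071.result P).mpr (by
    intro Q hQ g hgn hco
    rw [Subgroup.mem_centralizer_iff]
    intro h hh
    have hQ'S : Q.map C.subtype ≤ (S : Subgroup G) := by
      rintro _ ⟨a, ha, rfl⟩
      exact hPm.mp (hQ ha)
    have hgt : (g : G) * t = t * g := hCm.mp g.2
    have hgn' : (g : G) ∈ normalizer ((Q.map C.subtype : Subgroup G) : Set G) := by
      rw [mem_normalizer_iff]
      intro a
      constructor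
      · rintro ⟨b, hb, rfl⟩
        exact ⟨g * b * g⁻¹, (mem_normalizer_iff.mp hgn b).mp hb, rfl⟩
      · rintro ⟨b, hb, hbe⟩
        have haC : a ∈ C := by
          have e : a = (g : G)⁻¹ * (C.subtype b) * g := by
            rw [hbe]
            group
          rw [e]
          exact C.mul_mem (C.mul_mem (C.inv_mem g.2) b.2) g.2
        refine ⟨⟨a, haC⟩, (mem_normalizer_iff.mp hgn ⟨a, haC⟩).mpr ?_, rfl⟩
        have : g * ⟨a, haC⟩ * g⁻¹ = b := by
          apply Subtype.ext
          exact hbe.symm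
        rwa [this]
    have hodd : Odd (orderOf (g : G)) := by
      rw [Subgroup.orderOf_coe]
      exact Nat.coprime_two_right.mp hco
    have h1 := odd_centralizes D htt ht1 S.2 hQ'S hgt hgn' hodd h ⟨h, hh, rfl⟩
    apply Subtype.ext
    change (h : G) * g = g * h
    calc (h : G) * g = (g * h * (g : G)⁻¹) * g := by rw [h1]
      _ = g * h := by group)
  obtain ⟨N, hN, hNc⟩ := hcomp
  have hNodd : (Nat.card N).Coprime 2 := by
    have h2 : (P : Subgroup C).index = Nat.card N := hNc.index_eq_card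
    have h3 := P.not_dvd_index
    rw [h2] at h3
    exact ((Nat.Prime.coprime_iff_not_dvd Nat.prime_two).mpr h3).symm
  have hNle : N ≤ Cfsg.oddCore C := le_pPrimeCore hN hNodd
  obtain ⟨⟨⟨n, hn⟩, ⟨p, hp⟩⟩, hnp, -⟩ := hNc.existsUnique ⟨g, hCm.mpr hg⟩
  refine ⟨n, ⟨n, hNle hn, rfl⟩, p, hPm.mp hp, ?_⟩
  exact (congrArg Subtype.val hnp).symm

lemma mem_normalizer_of_comm {a b : G} (h : a * b = b * a) : a ∈ normalizer (zpowers b : Set G) := by
  have hc : Commute a b := h
  rw [mem_normalizer_iff]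
  intro x
  constructor
  · intro hx
    obtain ⟨i, rfl⟩ := mem_zpowers_iff.mp hx
    rw [(hc.zpow_right i).eq]
    simpa using mem_zpowers_iff.mpr ⟨i, rfl⟩
  · intro hx
    obtain ⟨i, hi⟩ := mem_zpowers_iff.mp hx
    have h1 : x = a⁻¹ * (b ^ i) * a := by rw [hi]; group
    have h2 : Commute a⁻¹ (b ^ i) := (hc.inv_left).zpow_right i
    rw [h1, h2.eq]
    have e : b ^ i * a⁻¹ * a = b ^ i := by group
    rw [e]
    exact mem_zpowers_iff.mpr ⟨i, rfl⟩

/-- All involutions are conjugate in a group without a subgroup of index two. -/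
lemma all_conj {S : Sylow 2 G} {C₀ : Subgroup G} {t : G} (D : Data (S : Subgroup G) C₀ t)
    (htt : t * t = 1) (ht1 : t ≠ 1) (hno : ∀ H : Subgroup G, H.index ≠ 2) {u : G}
    (hu : orderOf u = 2) : IsConj t u := by
  have huu : u * u = 1 := by
    have := pow_orderOf_eq_one u
    rwa [hu, sq] at this
  have hu1 : u ≠ 1 := by
    rintro rfl
    simp at hu
  haveI : Fact (Nat.Prime 2) := ⟨Nat.prime_two⟩
  have hzp : IsPGroup 2 (zpowers u) := by
    apply IsPGroup.of_card (n := 1)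
    rw [Nat.card_zpowers, hu, pow_one]
  obtain ⟨g, hg⟩ := exists_conj_mem (S : Subgroup G) S.not_dvd_index hzp
  set v := g * u * g⁻¹ with hv
  have hvv : v * v = 1 := by
    calc v * v = g * (u * u) * g⁻¹ := by rw [hv]; group
      _ = 1 := by rw [huu]; group
  have hv1 : v ≠ 1 := conj_ne_one g hu1
  have hvt : IsConj t v := by
    by_cases hvC : v ∈ C₀
    · rcases uniq_inv D.hcyc ht1 D.ht htt hvC hvv with h1 | h1
      · exact absurd h1 hv1
      · rw [h1]
    · by_contra hcon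
      have hidx : C₀.index = 2 * (S : Subgroup G).index := by
        have h1 := Subgroup.relIndex_mul_index D.le
        rw [D.hidx] at h1
        exact h1.symm
      have hodd : Odd (C₀.index / 2) := by
        rw [hidx, Nat.mul_div_cancel_left _ (by norm_num)]
        exact Nat.odd_iff.mpr (by have := S.not_dvd_index; omega)
      have hfree : ∀ a : G, a⁻¹ * v * a ∉ C₀ := by
        intro a ha
        have h1 : (a⁻¹ * v * a) * (a⁻¹ * v * a) = 1 := by
          calc (a⁻¹ * v * a) * (a⁻¹ * v * a) = a⁻¹ * (v * v) * a := by group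
            _ = 1 := by rw [hvv]; group
        have h2 : a⁻¹ * v * a ≠ 1 := by
          have := conj_ne_one a⁻¹ hv1
          simpa using this
        rcases uniq_inv D.hcyc ht1 D.ht htt ha h1 with h3 | h3
        · exact h2 h3
        · apply hcon
          rw [isConj_iff]
          refine ⟨a, ?_⟩
          rw [← h3]
          group
      obtain ⟨H, hH⟩ := Cfsg.Agent.Lib.Involutions2.Sign.exists_index_two_of_free_involution C₀
        (z := v) (by rw [sq]; exact hvv) hfree hodd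
      exact hno H hH
  exact hvt.trans (isConj_iff.mpr ⟨g⁻¹, by rw [hv]; group⟩)

/-- The hypotheses of the abstract Brauer–Suzuki–Wall theorem for a group with a dihedral Sylow
2-subgroup. -/
theorem exists_hyp_of_dih (hno : ∀ H : Subgroup G, H.index ≠ 2) (S : Sylow 2 G) (n : ℕ) (hn : 2 ≤ n)
    (hS : Nonempty ((S : Subgroup G) ≃* DihedralGroup n)) (t : G) (ht : orderOf t = 2)
    (htS : t ∈ (S : Subgroup G))
    (htZ : ∀ s ∈ (S : Subgroup G), s * t = t * s) (O : Subgroup G)
    (hO : O = (Cfsg.oddCore (Subgroup.centralizer ({t} : Set G))).map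
      (Subgroup.centralizer ({t} : Set G)).subtype)
    (ha : O ≠ ⊥ → IsCyclic ((S : Subgroup G) ⊓ Subgroup.centralizer (O : Set G) : Subgroup G) ∧
      ((S : Subgroup G) ⊓ Subgroup.centralizer (O : Set G)).relIndex (S : Subgroup G) = 2)
    (hb : ∀ s ∈ (S : Subgroup G), s ∉ Subgroup.centralizer (O : Set G) → ∀ y ∈ O, s * y * s⁻¹ = y⁻¹)
    (hc : ∀ Y : Subgroup G, Y ≤ O → Y ≠ ⊥ → Subgroup.normalizer (Y : Set G) ≤
      Subgroup.centralizer ({t} : Set G)) :
    ∃ (s : G) (K : Subgroup G), Hyp t s K := by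
  classical
  have hcN := hc
  obtain ⟨φ⟩ := hS
  have htt : t * t = 1 := by
    have := pow_orderOf_eq_one t
    rwa [ht, sq] at this
  have ht1 : t ≠ 1 := by
    rintro rfl
    simp at ht
  have hSt : (S : Subgroup G) ≤ centralizer ({t} : Set G) := fun a ha =>
    Subgroup.mem_centralizer_singleton_iff.mpr (htZ a ha)
  -- the odd core
  have hOC : ∀ o ∈ O, o * t = t * o := by
    intro o ho
    rw [hO] at ho
    obtain ⟨a, -, rfl⟩ := ho
    exact Subgroup.mem_centralizer_singleton_iff.mp a.2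
  have hOn : ∀ g, g * t = t * g → ∀ o ∈ O, g * o * g⁻¹ ∈ O := by
    intro g hg o ho
    rw [hO] at ho ⊢
    obtain ⟨a, ha', rfl⟩ := ho
    have hgC : g ∈ centralizer ({t} : Set G) := Subgroup.mem_centralizer_singleton_iff.mpr hg
    refine ⟨⟨g, hgC⟩ * a * ⟨g, hgC⟩⁻¹, ?_, rfl⟩
    exact (inferInstance : (Cfsg.oddCore (centralizer ({t} : Set G))).Normal).conj_mem a ha' _
  have hOodd : ∀ o ∈ O, Odd (orderOf o) := by
    intro o ho
    rw [hO] at ho
    obtain ⟨a, ha', rfl⟩ := ho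
    have h1 : (Nat.card (Cfsg.oddCore (centralizer ({t} : Set G)))).Coprime 2 := pPrimeCore_coprime
    have h2 : Odd (Nat.card (Cfsg.oddCore (centralizer ({t} : Set G)))) := Nat.coprime_two_right.mp h1
    have h3 : orderOf (a : centralizer ({t} : Set G)) ∣
        Nat.card (Cfsg.oddCore (centralizer ({t} : Set G))) := by
      have := orderOf_dvd_natCard (⟨a, ha'⟩ : Cfsg.oddCore (centralizer ({t} : Set G)))
      rwa [Subgroup.orderOf_mk] at this
    change Odd (orderOf ((a : centralizer ({t} : Set G)) : G))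
    rw [Subgroup.orderOf_coe]
    exact Odd.of_dvd_nat h2 h3
  have hS2pow : ∀ a ∈ (S : Subgroup G), ∃ j : ℕ, a ^ 2 ^ j = 1 := by
    intro a ha
    obtain ⟨j, hj⟩ := S.2 ⟨a, ha⟩
    exact ⟨j, by simpa using congrArg Subtype.val hj⟩
  have hOS : ∀ o ∈ O, ∀ j : ℕ, o ^ 2 ^ j = 1 → o = 1 := by
    intro o ho j hj
    have h3 : orderOf o ∣ 2 ^ j := orderOf_dvd_of_pow_eq_one hj
    have h4 : Nat.Coprime (orderOf o) (2 ^ j) :=
      Nat.Coprime.pow_right _ (Nat.coprime_two_right.mpr (hOodd o ho))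
    exact orderOf_eq_one_iff.mp (Nat.Coprime.eq_one_of_dvd h4 h3)
  -- the cyclic subgroup
  obtain ⟨C₀, D, hC₀O, hC₀inv⟩ : ∃ C₀ : Subgroup G, Data (S : Subgroup G) C₀ t ∧
      (∀ c ∈ C₀, ∀ o ∈ O, c * o = o * c) ∧
      (∀ x ∈ (S : Subgroup G), x ∉ C₀ → ∀ o ∈ O, x * o * x⁻¹ = o⁻¹) := by
    by_cases hO1 : O = ⊥
    · obtain ⟨C₀, D⟩ := exists_data hn φ ht htS htZ
      refine ⟨C₀, D, ?_, ?_⟩
      · intro c _ o ho
        rw [hO1, Subgroup.mem_bot] at ho
        rw [ho]
        group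
      · intro x _ _ o ho
        rw [hO1, Subgroup.mem_bot] at ho
        rw [ho]
        group
    · obtain ⟨h1, h2⟩ := ha hO1
      refine ⟨(S : Subgroup G) ⊓ centralizer (O : Set G), data_of_cyclic hn φ inf_le_left h1 h2
        ⟨htS, ?_⟩, ?_, ?_⟩
      · exact Subgroup.mem_centralizer_iff.mpr (fun o ho => hOC o ho)
      · intro c hc o ho
        have := (Subgroup.mem_centralizer_iff.mp hc.2) o ho
        exact this.symm
      · intro x hx hxC o ho
        exact hb x hx (fun h0 => hxC ⟨hx, h0⟩) o ho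
  have hcommC₀ : ∀ {a b : G}, a ∈ C₀ → b ∈ C₀ → a * b = b * a := fun ha hb =>
    comm_C₀ D htt ht1 S.2 ha hb
  have hmul : ∀ {x y : G}, x ∈ (S : Subgroup G) → y ∈ (S : Subgroup G) → x ∉ C₀ → y ∉ C₀ →
      x * y ∈ C₀ := fun hx hy hxC hyC => mul_mem_C₀ D htt ht1 S.2 hx hy hxC hyC
  -- the involution
  obtain ⟨s, hsS, hsC⟩ : ∃ s ∈ (S : Subgroup G), s ∉ C₀ := by
    by_contra hcon
    push Not at hcon
    have h1 : C₀.relIndex (S : Subgroup G) = 1 := Subgroup.relIndex_eq_one.mpr hcon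
    rw [D.hidx] at h1
    omega
  obtain ⟨hss, hsinvC⟩ := D.hout s hsS hsC
  have hsi : s⁻¹ = s := inv_eq_of_mul_eq_one_left hss
  have hs1 : s ≠ 1 := fun h0 => hsC (h0 ▸ C₀.one_mem)
  have hsinvO := hC₀inv s hsS hsC
  have hsC' : ∀ c ∈ C₀, s * c * s = c⁻¹ := fun c hc => by
    have := hsinvC c hc
    rwa [hsi] at this
  have hsO' : ∀ o ∈ O, s * o * s = o⁻¹ := fun o ho => by
    have := hsinvO o ho
    rwa [hsi] at this
  have hOab : ∀ a ∈ O, ∀ b ∈ O, a * b = b * a := by
    intro a ha b hb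
    have h1 : O.mul_mem ha hb = O.mul_mem ha hb := rfl
    have h2 := hsO' _ (O.mul_mem ha hb)
    have h3 : s * (a * b) * s = (s * a * s) * (s * b * s) := by
      calc s * (a * b) * s = s * a * (s * s) * b * s := by rw [hss]; group
        _ = _ := by group
    rw [h3, hsO' a ha, hsO' b hb, mul_inv_rev] at h2
    have h4 := congrArg (fun z => z⁻¹) h2
    simp only [mul_inv_rev, inv_inv] at h4
    exact h4.symm
  -- the subgroup `K`
  let K : Subgroup G := O ⊔ C₀
  have hconjC : ∀ c ∈ C₀, ∀ o ∈ O, c * o * c⁻¹ = o := fun c hc o ho => by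
    rw [hC₀O c hc o ho]
    group
  have hC₀N : C₀ ≤ normalizer (O : Set G) := by
    intro c hc
    rw [mem_normalizer_iff]
    intro o
    constructor
    · intro ho
      rw [hconjC c hc o ho]
      exact ho
    · intro ho
      have h1 := hconjC c⁻¹ (C₀.inv_mem hc) _ ho
      have e : c⁻¹ * (c * o * c⁻¹) * c⁻¹⁻¹ = o := by group
      rw [e] at h1
      rw [h1]
      exact ho
  have hKd : ∀ {x : G}, x ∈ K → ∃ o ∈ O, ∃ c ∈ C₀, x = o * c := fun hx => mem_sup_decomp hC₀N hx
  have hOK : ∀ {o : G}, o ∈ O → o ∈ K := fun ho => (le_sup_left : O ≤ K) ho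
  have hCK : ∀ {c : G}, c ∈ C₀ → c ∈ K := fun hc => (le_sup_right : C₀ ≤ K) hc
  have hcommK : ∀ a ∈ K, ∀ b ∈ K, a * b = b * a := by
    intro a ha b hb
    obtain ⟨o, ho, c, hc, rfl⟩ := hKd ha
    obtain ⟨o', ho', c', hc', rfl⟩ := hKd hb
    calc o * c * (o' * c') = o * (c * o') * c' := by group
      _ = o * (o' * c) * c' := by rw [hC₀O c hc o' ho']
      _ = (o * o') * (c * c') := by group
      _ = (o' * o) * (c' * c) := by rw [hOab o ho o' ho', hcommC₀ hc hc']
      _ = o' * (o * c') * c := by group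
      _ = o' * (c' * o) * c := by rw [hC₀O c' hc' o ho]
      _ = _ := by group
  have hsK : s ∉ K := by
    intro h0
    obtain ⟨o, ho, c, hc, hsoc⟩ := hKd h0
    have h1 : o = s * c⁻¹ := by rw [hsoc]; group
    have h2 : o ∈ (S : Subgroup G) := by
      rw [h1]
      exact (S : Subgroup G).mul_mem hsS ((S : Subgroup G).inv_mem (D.le hc))
    obtain ⟨j, hj⟩ := hS2pow o h2
    have h3 := hOS o ho j hj
    rw [h3, one_mul] at hsoc
    exact hsC (hsoc ▸ hc)
  have hH : ∀ g, g * t = t * g → g ∈ K ∨ ∃ x ∈ K, g = s * x := by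
    intro g hg
    obtain ⟨o, ho, x, hx, rfl⟩ := centralizer_decomp D htt ht1 hSt hg
    rw [← hO] at ho
    by_cases hxC : x ∈ C₀
    · left
      exact K.mul_mem (hOK ho) (hCK hxC)
    · right
      have h1 := hmul hsS hx hsC hxC
      refine ⟨o⁻¹ * (s * x), K.mul_mem (hOK (O.inv_mem ho)) (hCK h1), ?_⟩
      have h2 := hsO' o ho
      calc o * x = (s * s) * o * ((s * s) * x) := by rw [hss]; group
        _ = s * (s * o * s) * (s * x) := by group
        _ = s * (o⁻¹ * (s * x)) := by rw [h2]; group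
  have hinv : ∀ x ∈ K, s * x * s⁻¹ = x⁻¹ := by
    intro x hx
    obtain ⟨o, ho, c, hc, rfl⟩ := hKd hx
    rw [hsi]
    have e : s * (o * c) * s = (s * o * s) * (s * c * s) := by
      calc s * (o * c) * s = s * o * (s * s) * c * s := by rw [hss]; group
        _ = _ := by group
    rw [e, hsO' o ho, hsC' c hc, mul_inv_rev]
    exact hcommK _ (hOK (O.inv_mem ho)) _ (hCK (C₀.inv_mem hc))
  have hK2 : ∀ x ∈ K, x * x = 1 → x = 1 ∨ x = t := by
    intro x hx hxx
    obtain ⟨o, ho, c, hc, rfl⟩ := hKd hx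
    have h1 : (o * o) * (c * c) = 1 := by
      calc (o * o) * (c * c) = o * (o * c) * c := by group
        _ = o * (c * o) * c := by rw [hC₀O c hc o ho]
        _ = o * c * (o * c) := by group
        _ = 1 := hxx
    have h2 : o * o = (c * c)⁻¹ := eq_inv_of_mul_eq_one_left h1
    have h3 : o * o ∈ (S : Subgroup G) := by
      rw [h2]
      exact (S : Subgroup G).inv_mem (D.le (C₀.mul_mem hc hc))
    obtain ⟨j, hj⟩ := hS2pow _ h3
    have h4 := hOS _ (O.mul_mem ho ho) j hj
    have h5 : o ^ 2 ^ 1 = 1 := by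
      rw [pow_one, sq]
      exact h4
    have h6 := hOS o ho 1 h5
    rw [h6, one_mul] at hxx ⊢
    exact uniq_inv D.hcyc ht1 D.ht htt hc hxx
  obtain ⟨a, ha⟩ : ∃ a : ℕ, Nat.card C₀ = 2 ^ a := by
    have h1 : IsPGroup 2 C₀ := S.2.to_le D.le
    exact IsPGroup.iff_card.mp h1
  have hCpow : ∀ c ∈ C₀, c ^ 2 ^ a = 1 := by
    intro c hc
    have h1 := pow_card_eq_one' (x := (⟨c, hc⟩ : C₀))
    rw [ha] at h1
    exact congrArg Subtype.val h1
  have hKpow : ∀ {o c : G}, o ∈ O → c ∈ C₀ → (o * c) ^ 2 ^ a = o ^ 2 ^ a := by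
    intro o c ho hc
    have h1 : Commute o c := (hC₀O c hc o ho).symm
    rw [h1.mul_pow, hCpow c hc, mul_one]
  have hTI : ∀ x ∈ K, x ≠ 1 → ∀ g, g * x * g⁻¹ ∈ K → g * t = t * g := by
    intro x hx hx1 g hg
    suffices h : g * t * g⁻¹ = t by
      calc g * t = (g * t * g⁻¹) * g := by group
        _ = t * g := by rw [h]
    have htt' : (g * t * g⁻¹) * (g * t * g⁻¹) = 1 := by
      calc (g * t * g⁻¹) * (g * t * g⁻¹) = g * (t * t) * g⁻¹ := by group
        _ = 1 := by rw [htt]; group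
    have ht'1 : g * t * g⁻¹ ≠ 1 := conj_ne_one g ht1
    have hfin : g * t * g⁻¹ ∈ K → g * t * g⁻¹ = t := by
      intro h0
      rcases hK2 _ h0 htt' with h1 | h1
      · exact absurd h1 ht'1
      · exact h1
    obtain ⟨o, ho, c, hc, rfl⟩ := hKd hx
    by_cases ho1 : o ^ 2 ^ a = 1
    · -- `x ∈ C₀`
      have h1 := hOS o ho a ho1
      rw [h1, one_mul] at hx1 hg
      obtain ⟨j, hj⟩ := hS2pow c (D.le hc)
      -- some power of `c` is `t`
      have hex : ∃ i : ℕ, c ^ i = t := by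
        have h2 := orderOf_dvd_of_pow_eq_one hj
        obtain ⟨l, -, hl⟩ := (Nat.dvd_prime_pow Nat.prime_two).mp h2
        have hl0 : l ≠ 0 := by
          rintro rfl
          rw [pow_zero] at hl
          exact hx1 (orderOf_eq_one_iff.mp hl)
        obtain ⟨l', rfl⟩ := Nat.exists_eq_succ_of_ne_zero hl0
        refine ⟨2 ^ l', ?_⟩
        have h3 : (c ^ 2 ^ l') * (c ^ 2 ^ l') = 1 := by
          rw [← pow_add, ← two_mul, ← pow_succ']
          rw [← hl]
          exact pow_orderOf_eq_one c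
        have h4 : c ^ 2 ^ l' ≠ 1 := by
          intro h5
          have h6 := orderOf_dvd_of_pow_eq_one h5
          rw [hl] at h6
          have := (Nat.pow_dvd_pow_iff_le_right (by norm_num)).mp h6
          omega
        rcases uniq_inv D.hcyc ht1 D.ht htt (C₀.pow_mem hc _) h3 with h5 | h5
        · exact absurd h5 h4
        · exact h5
      obtain ⟨i, hi⟩ := hex
      apply hfin
      rw [← hi]
      have e : g * c ^ i * g⁻¹ = (g * c * g⁻¹) ^ i := by
        have e1 : g * c ^ i * g⁻¹ = (MulAut.conj g) (c ^ i) := by simp [MulAut.conj_apply]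
        rw [e1, map_pow, MulAut.conj_apply]
      rw [e]
      exact K.pow_mem hg i
    · -- `x₁ ∈ O`
      set x₁ := o ^ 2 ^ a with hx₁
      have hx₁O : x₁ ∈ O := O.pow_mem ho _
      obtain ⟨o₂, ho₂, c₂, hc₂, hy⟩ := hKd hg
      have hx₂ : g * x₁ * g⁻¹ = o₂ ^ 2 ^ a := by
        rw [← hKpow ho₂ hc₂, ← hy, hx₁, ← hKpow ho hc]
        have e1 : g * (o * c) ^ 2 ^ a * g⁻¹ = (MulAut.conj g) ((o * c) ^ 2 ^ a) := by
          simp [MulAut.conj_apply]
        rw [e1, map_pow, MulAut.conj_apply]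
      have hx₂O : g * x₁ * g⁻¹ ∈ O := by
        rw [hx₂]
        exact O.pow_mem ho₂ _
      set x₂ := g * x₁ * g⁻¹ with hx₂d
      have hx₂1 : x₂ ≠ 1 := conj_ne_one g ho1
      have hcomm : (g * t * g⁻¹) * x₂ = x₂ * (g * t * g⁻¹) := by
        have h1 := hOC x₁ hx₁O
        calc (g * t * g⁻¹) * x₂ = g * (t * x₁) * g⁻¹ := by rw [hx₂d]; group
          _ = g * (x₁ * t) * g⁻¹ := by rw [h1]
          _ = x₂ * (g * t * g⁻¹) := by rw [hx₂d]; group
      have hYle : zpowers x₂ ≤ O := by rw [Subgroup.zpowers_le]; exact hx₂O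
      have hY1 : zpowers x₂ ≠ ⊥ := by
        rw [Ne, Subgroup.zpowers_eq_bot]
        exact hx₂1
      have h2 := hcN _ hYle hY1 (mem_normalizer_of_comm hcomm)
      rw [Subgroup.mem_centralizer_singleton_iff] at h2
      rcases hH _ h2 with h3 | ⟨k, hk, h3⟩
      · exact hfin h3
      · exfalso
        have h4 : (s * k) * x₂ * (s * k)⁻¹ = x₂⁻¹ := by
          calc (s * k) * x₂ * (s * k)⁻¹ = s * (k * x₂ * k⁻¹) * s⁻¹ := by group
            _ = s * x₂ * s⁻¹ := by rw [hcommK k hk x₂ (hOK hx₂O)]; group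
            _ = x₂⁻¹ := hinv x₂ (hOK hx₂O)
        rw [← h3] at h4
        have h5 : x₂ = x₂⁻¹ := by
          rw [← h4, hcomm]
          group
        have h6 : x₂ ^ 2 ^ 1 = 1 := by
          rw [pow_one, sq]
          nth_rewrite 1 [h5]
          group
        exact hx₂1 (hOS x₂ hx₂O 1 h6)
  exact ⟨s, K,
    { ht := ht
      hs := orderOf_eq_prime (by rw [sq]; exact hss) hs1
      hcomm := hcommK
      hKt := by
        intro a' ha'
        obtain ⟨o, ho, c, hc, rfl⟩ := hKd ha'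
        have h1 := Subgroup.mem_centralizer_singleton_iff.mp (hSt (D.le hc))
        rw [mul_assoc, h1, ← mul_assoc, hOC o ho, mul_assoc]
      htK := hCK D.ht
      hst := htZ s hsS
      hsK := hsK
      hH := hH
      hinv := hinv
      hK2 := hK2
      hTI := hTI
      hconj := fun x hx => all_conj D htt ht1 hno hx }⟩

end Cfsg.Agent.Lib.BSW.DihHyp
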