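import Cfsg.Agent.Lib.BSW.Fourier
import Cfsg.Agent.Lib.BSW.Combi

/-!
# Abstract Brauer–Suzuki–Wall: the family of exceptional characters

The system of integer vectors attached to the irreducible characters of `G`.
-/

set_option autoImplicit false
set_option linter.unusedSectionVars false
set_option linter.unusedVariables false
set_option linter.style.haveILetI false

namespace Cfsg.Agent.Lib.BSW.Family

open Cfsg Cfsg.Agent.Lib.BSW.Setup Cfsg.Agent.Lib.BSW.Fourier Cfsg.Agent.Lib.BSW.Combi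
open Cfsg.Agent.Lib.Char.Basic Cfsg.Agent.Lib.Char.Ortho
  Cfsg.Agent.Lib.Char.Complete Cfsg.Agent.Lib.Char.ClassProd Cfsg.Agent.Lib.Char.Linear
open Cfsg.Agent.Lib.Involutions.Counting (PairsWithProduct)
open scoped ComplexConjugate

variable {G : Type*} [Group G] [Fintype G] {t s : G} {K : Subgroup G} [Fintype K]
  [Fintype (IrrCharacter G)] [Fintype (IrrCharacter K)]

/-- The nontrivial linear characters of `K`. -/
abbrev Lam (K : Subgroup G) := {ν : IrrCharacter K // ν ≠ one K}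

/-- Conjugation of linear characters. -/
noncomputable def invL (h : Hyp t s K) (ν : Lam K) : Lam K :=
  ⟨bar (hKcomm h) ν.1, fun h0 => ν.2 (by
    have := congrArg (bar (hKcomm h)) h0
    rwa [bar_bar, bar_one] at this)⟩

/-- The integer vectors. -/
noncomputable def f (χ : IrrCharacter G) (ν : Lam K) : ℤ := fz χ ν.1

lemma f_spec (χ : IrrCharacter G) (ν : Lam K) :
    F (χ : G → ℂ) (ν.1 : K → ℂ) = f χ ν := fz_spec χ ν.1

/-- The degree as an integer. -/
noncomputable def dg (χ : IrrCharacter G) : ℤ := ((exists_pos_deg_of_isIrr χ.2).choose : ℕ)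

lemma dg_spec (χ : IrrCharacter G) : (χ : G → ℂ) 1 = dg χ := by
  have := (exists_pos_deg_of_isIrr χ.2).choose_spec.2
  rw [this, dg]
  simp

lemma dg_pos (χ : IrrCharacter G) : 0 < dg χ := by
  have := (exists_pos_deg_of_isIrr χ.2).choose_spec.1
  rw [dg]
  exact_mod_cast this

lemma conj_deg (χ : IrrCharacter G) : conj ((χ : G → ℂ) 1) = (χ : G → ℂ) 1 := by
  rw [dg_spec]
  simp

lemma dg_one : dg (one G) = 1 := by
  have := dg_spec (one G)
  rw [one_apply] at this
  exact_mod_cast this.symm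

open Classical in
/-- The value of a linear character at `t`. -/
noncomputable def tau (t : G) (ν : IrrCharacter K) (ht : t ∈ K) : ℤ :=
  if (ν : K → ℂ) ⟨t, ht⟩ = 1 then 1 else -1

variable (h : Hyp t s K)

include h

lemma linear_t_sq (ν : IrrCharacter K) :
    (ν : K → ℂ) ⟨t, h.htK⟩ * (ν : K → ℂ) ⟨t, h.htK⟩ = 1 := by
  rw [← map_mul' (hKcomm h)]
  have : (⟨t, h.htK⟩ : K) * ⟨t, h.htK⟩ = 1 := Subtype.ext (tt h)
  rw [this, deg_one (hKcomm h)]

lemma tau_spec (ν : IrrCharacter K) : ((tau t ν h.htK : ℤ) : ℂ) = (ν : K → ℂ) ⟨t, h.htK⟩ := by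
  have h1 := linear_t_sq h ν
  have h2 : ((ν : K → ℂ) ⟨t, h.htK⟩ - 1) * ((ν : K → ℂ) ⟨t, h.htK⟩ + 1) = 0 := by
    linear_combination h1
  rw [tau]
  split_ifs with h3
  · simp [h3]
  · rcases mul_eq_zero.mp h2 with h4 | h4
    · exact absurd (sub_eq_zero.mp h4) h3
    · push_cast
      linear_combination -h4

lemma tau_sq (ν : IrrCharacter K) : tau t ν h.htK ^ 2 = 1 := by
  rw [tau]
  split_ifs <;> norm_num

lemma tau_bar (ν : IrrCharacter K) : tau t (bar (hKcomm h) ν) h.htK = tau t ν h.htK := by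
  have h1 : (⟨t, h.htK⟩ : K)⁻¹ = ⟨t, h.htK⟩ := Subtype.ext (t_inv h)
  simp only [tau, bar_apply, h1]

lemma tau_sum : ∑ ν : Lam K, tau t ν.1 h.htK = -1 := by
  classical
  have hne : (⟨t, h.htK⟩ : K) ≠ 1 := fun h0 => t_ne_one h (congrArg Subtype.val h0)
  have h1 := sum_apply_eq_zero (hKcomm h) hne
  rw [Fintype.sum_eq_add_sum_subtype_ne _ (one K)] at h1
  rw [one_apply] at h1
  simp only [← tau_spec h] at h1
  have h2 : ((1 + ∑ ν : Lam K, tau t ν.1 h.htK : ℤ) : ℂ) = 0 := by
    push_cast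
    exact h1
  have h3 : 1 + ∑ ν : Lam K, tau t ν.1 h.htK = 0 := by exact_mod_cast h2
  omega

/-- The real characters. -/
lemma exists_eps : ∃ ε : IrrCharacter K, ε ≠ one K ∧ bar (hKcomm h) ε = ε ∧
    ∀ ν, bar (hKcomm h) ν = ν → ν = one K ∨ ν = ε := by
  classical
  have hA := hKcomm h
  have hc := card_real hA
  have h2 : (Finset.univ.filter (fun y : K => y * y = 1)).card = 2 := by
    have h3 : Finset.univ.filter (fun y : K => y * y = 1) = {1, ⟨t, h.htK⟩} := by
      ext y
      simp only [Finset.mem_filter, Finset.mem_univ, true_and, Finset.mem_insert,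
        Finset.mem_singleton]
      constructor
      · intro hy
        rcases h.hK2 y.1 y.2 (congrArg Subtype.val hy) with h4 | h4
        · left; exact Subtype.ext h4
        · right; exact Subtype.ext h4
      · rintro (rfl | rfl)
        · simp
        · exact Subtype.ext (tt h)
    rw [h3, Finset.card_pair]
    exact fun h0 => t_ne_one h (congrArg Subtype.val h0).symm
  rw [h2] at hc
  have hmem : one K ∈ Finset.univ.filter (fun ν : IrrCharacter K => bar hA ν = ν) :=
    Finset.mem_filter.mpr ⟨Finset.mem_univ _, bar_one hA⟩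
  obtain ⟨a, b, hab, hS⟩ := Finset.card_eq_two.mp hc
  rw [hS] at hmem
  have hreal : ∀ ν, bar hA ν = ν → ν = a ∨ ν = b := by
    intro ν hν
    have : ν ∈ Finset.univ.filter (fun ν : IrrCharacter K => bar hA ν = ν) :=
      Finset.mem_filter.mpr ⟨Finset.mem_univ _, hν⟩
    rw [hS] at this
    simpa using this
  have hra : bar hA a = a := by
    have : a ∈ Finset.univ.filter (fun ν : IrrCharacter K => bar hA ν = ν) := by
      rw [hS]; simp
    exact (Finset.mem_filter.mp this).2
  have hrb : bar hA b = b := by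
    have : b ∈ Finset.univ.filter (fun ν : IrrCharacter K => bar hA ν = ν) := by
      rw [hS]; simp
    exact (Finset.mem_filter.mp this).2
  simp only [Finset.mem_insert, Finset.mem_singleton] at hmem
  rcases hmem with e | e
  · refine ⟨b, ?_, hrb, ?_⟩
    · rw [e]; exact hab.symm
    · rw [e]; exact hreal
  · refine ⟨a, ?_, hra, ?_⟩
    · rw [e]; exact hab
    · intro ν hν
      rcases hreal ν hν with h1 | h1
      · right; exact h1
      · left; rw [h1, e]

open Classical in
/-- The system of Fourier vectors. -/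
lemma sys (ε : Lam K) (hε : bar (hKcomm h) ε.1 = ε.1)
    (hreal : ∀ ν, bar (hKcomm h) ν = ν → ν = one K ∨ ν = ε.1) :
    Sys (f (G := G)) (one G) (invL h) ε := by
  classical
  refine ⟨?_, ?_, ?_, ?_, ?_, ?_⟩
  · intro ν
    apply Subtype.ext
    exact bar_bar (hKcomm h) _
  · exact Subtype.ext hε
  · intro ν hν
    apply Subtype.ext
    rcases hreal ν.1 (congrArg Subtype.val hν) with h1 | h1
    · exact absurd h1 ν.2
    · exact h1
  · intro ν
    have := f_spec (K := K) (one G) ν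
    rw [F_one h ν.1 ν.2] at this
    have h2 : ((f (one G) ν : ℤ) : ℂ) = ((-1 : ℤ) : ℂ) := by
      rw [← this]; simp
    exact_mod_cast h2
  · intro i ν
    have h1 := f_spec (K := K) i (invL h ν)
    have h2 := f_spec (K := K) i ν
    have h3 : ((invL h ν).1 : K → ℂ) = ((bar (hKcomm h) ν.1 : IrrCharacter K) : K → ℂ) := rfl
    rw [h3, F_bar h, h2] at h1
    exact_mod_cast h1.symm
  · intro ν μ
    have h1 := gram h ν.1 μ.1 ν.2 μ.2
    have h2 : ((∑ i : IrrCharacter G, f i ν * f i μ : ℤ) : ℂ) =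
        (((if μ = ν then 1 else 0) + (if invL h μ = ν then 1 else 0) + 2 : ℤ) : ℂ) := by
      push_cast
      have h3 : ∑ i : IrrCharacter G, (f i ν : ℂ) * (f i μ : ℂ) =
          ∑ χ : IrrCharacter G, F (χ : G → ℂ) (ν.1 : K → ℂ) * conj (F (χ : G → ℂ) (μ.1 : K → ℂ)) := by
        refine Finset.sum_congr rfl fun i _ => ?_
        rw [f_spec, f_spec]
        simp
      rw [h3, h1]
      have h4 : (μ = ν) ↔ (μ.1 = ν.1) := Subtype.ext_iff
      have h5 : (invL h μ = ν) ↔ (bar (hKcomm h) μ.1 = ν.1) := Subtype.ext_iff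
      simp only [h4, h5]
    exact_mod_cast h2

/-- The value at `t` through the Fourier vectors. -/
lemma char_t_eq (χ : IrrCharacter G) :
    (χ : G → ℂ) t = ((∑ μ : Lam K, f χ μ * tau t μ.1 h.htK : ℤ) : ℂ) := by
  classical
  have hne : (⟨t, h.htK⟩ : K) ≠ 1 := fun h0 => t_ne_one h (congrArg Subtype.val h0)
  have h1 := char_eq_sum h χ hne
  rw [Fintype.sum_eq_add_sum_subtype_ne _ (one K), F_first_one h, zero_mul, zero_add] at h1
  rw [show (χ : G → ℂ) t = (χ : G → ℂ) ((⟨t, h.htK⟩ : K) : G) from rfl, h1]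
  push_cast
  refine Finset.sum_congr rfl fun μ _ => ?_
  rw [f_spec, tau_spec h]

/-- The value at `x ∈ K ∖ {1}` through the Fourier vectors. -/
lemma char_x_eq (χ : IrrCharacter G) {x : K} (hx : x ≠ 1) :
    (χ : G → ℂ) x = ∑ μ : Lam K, (f χ μ : ℂ) * (μ.1 : K → ℂ) x := by
  classical
  have h1 := char_eq_sum h χ hx
  rw [Fintype.sum_eq_add_sum_subtype_ne _ (one K), F_first_one h, zero_mul, zero_add] at h1
  rw [h1]
  refine Finset.sum_congr rfl fun μ _ => ?_
  rw [f_spec]

/-- The orthogonality relation at an element not conjugate into `K`. -/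
lemma sum_f_conj (ν : Lam K) {y : G} (hy : ∀ x : K, x ≠ 1 → ¬ IsConj (x : G) y) :
    ∑ χ : IrrCharacter G, (f χ ν : ℂ) * conj ((χ : G → ℂ) y) = 0 := by
  have := sum_F_mul_conj_eq_zero h ν.1 hy
  rw [← this]
  refine Finset.sum_congr rfl fun χ _ => ?_
  rw [f_spec]

lemma sum_f_deg (ν : Lam K) : ∑ χ : IrrCharacter G, f χ ν * dg χ = 0 := by
  have hy : ∀ x : K, x ≠ 1 → ¬ IsConj (x : G) (1 : G) := by
    intro x hx hc
    rw [isConj_comm, isConj_one_right] at hc
    exact hx (Subtype.ext hc)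
  have h1 := sum_f_conj h ν hy
  have h2 : ((∑ χ : IrrCharacter G, f χ ν * dg χ : ℤ) : ℂ) = 0 := by
    push_cast
    rw [← h1]
    refine Finset.sum_congr rfl fun χ _ => ?_
    rw [conj_deg, dg_spec]
  exact_mod_cast h2

/-- The constant of the Frobenius relation. -/
noncomputable def cst (K : Subgroup G) (t : G) : ℚ :=
  - ((Nat.card K : ℚ) * (Nat.card G : ℚ) /
        ((Nat.card {u : G // IsConj t u} : ℚ) * (Nat.card {u : G // IsConj t u} : ℚ)))

omit h in
lemma cst_cast : ((cst K t : ℚ) : ℂ) = - ((Nat.card K : ℂ) * (Nat.card G : ℂ) /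
        ((Nat.card {u : G // IsConj t u} : ℂ) * (Nat.card {u : G // IsConj t u} : ℂ))) := by
  simp [cst]

lemma sum_f_alpha (ν : Lam K) :
    ∑ i : IrrCharacter G, (f i ν : ℚ) * ((∑ μ : Lam K, f i μ * tau t μ.1 h.htK : ℤ) : ℚ) ^ 2 / dg i =
      cst K t := by
  have h1 := sum_F_alpha h ν.1 ν.2
  have h2 : ((∑ i : IrrCharacter G, (f i ν : ℚ) *
      ((∑ μ : Lam K, f i μ * tau t μ.1 h.htK : ℤ) : ℚ) ^ 2 / dg i : ℚ) : ℂ) = ((cst K t : ℚ) : ℂ) := by
    rw [cst_cast, ← h1]
    push_cast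
    refine Finset.sum_congr rfl fun χ _ => ?_
    rw [f_spec, dg_spec, char_t_eq h χ]
    push_cast
    ring
  exact_mod_cast h2

open Classical in
/-- The existence of the family when `K` has more than two linear characters. -/
theorem exists_family (hk : 4 ≤ Nat.card K) :
    ∃ (ε : Lam K) (X : IrrCharacter G) (σ : ℤ) (z : Lam K → IrrCharacter G)
      (y₁ y₂ : IrrCharacter G),
      (bar (hKcomm h) ε.1 = ε.1) ∧ (∃ ν₀ : Lam K, ν₀ ≠ ε) ∧
      Family (f (G := G)) (one G) (invL h) ε X σ z y₁ y₂ ∧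
      Sys (f (G := G)) (one G) (invL h) ε := by
  classical
  obtain ⟨ε, hε1, hε2, hε3⟩ := exists_eps h
  let ε' : Lam K := ⟨ε, hε1⟩
  have S := sys (G := G) h ε' hε2 hε3
  have hν₀ : ∃ ν₀ : Lam K, ν₀ ≠ ε' := by
    by_contra hn
    push Not at hn
    have hall : ∀ ν : IrrCharacter K, ν = one K ∨ ν = ε := by
      intro ν
      by_cases h1 : ν = one K
      · exact Or.inl h1
      · right
        exact congrArg Subtype.val (hn ⟨ν, h1⟩)
    have h2 := sum_apply_one (hKcomm h)
    have h3 : (Finset.univ : Finset (IrrCharacter K)) = {one K, ε} := by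
      ext ν
      simp only [Finset.mem_univ, Finset.mem_insert, Finset.mem_singleton, true_iff]
      exact hall ν
    rw [h3, Finset.sum_pair (Ne.symm hε1), deg_one (hKcomm h), deg_one (hKcomm h)] at h2
    have h4 : (Fintype.card K : ℂ) = 2 := by rw [← h2]; norm_num
    have h5 : Fintype.card K = 2 := by exact_mod_cast h4
    rw [Nat.card_eq_fintype_card] at hk
    omega
  have hν₀' := hν₀
  obtain ⟨ν₀, hν₀⟩ := hν₀
  obtain ⟨X, σ, z, y₁, y₂, hF⟩ := Combi.exists_family S (τ := fun ν => tau t ν.1 h.htK)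
    (deg := dg) (c := cst K t) (fun ν => tau_sq h ν.1) (fun ν => tau_bar h ν.1) (tau_sum h) dg_one
    (fun i => (dg_pos i).ne') (sum_f_deg h) (sum_f_alpha h) hν₀
  exact ⟨ε', X, σ, z, y₁, y₂, hε2, hν₀', hF, S⟩

end Cfsg.Agent.Lib.BSW.Family
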