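import Cfsg.Agent.Lib.BSW.Setup
import Cfsg.Agent.Lib.Char.ClassProd
import Cfsg.Agent.Lib.Char.Complete
import Cfsg.Agent.Lib.Char.Linear
import Cfsg.Agent.Lib.Char.Ortho
import Cfsg.Agent.Lib.Char.RealOdd
import Cfsg.Agent.Lib.V4TI.Core

/-!
# Abstract Brauer–Suzuki–Wall: Fourier coefficients on `K`

For an irreducible character `χ` of `G` and a linear character `ν` of `K`,
`F χ ν = ⟨χ|_K, ν⟩ - ⟨χ|_K, 1⟩`.  The column orthogonality relations of `G` and the TI property of
`K` give a Gram matrix for these integer vectors.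
-/

set_option autoImplicit false
set_option linter.unusedSectionVars false
set_option linter.unusedVariables false
set_option linter.style.haveILetI false

namespace Cfsg.Agent.Lib.BSW.Fourier

open Cfsg Cfsg.Agent.Lib.BSW.Setup
open Cfsg.Agent.Lib.Char.Basic Cfsg.Agent.Lib.Char.Ortho
  Cfsg.Agent.Lib.Char.Complete Cfsg.Agent.Lib.Char.ClassProd Cfsg.Agent.Lib.Char.Linear
open Cfsg.Agent.Lib.Involutions.Counting (PairsWithProduct)
open scoped ComplexConjugate

section Dual

variable {A : Type*} [Group A] [Fintype A] [Fintype (IrrCharacter A)]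

/-- The trivial character. -/
noncomputable def one (A : Type*) [Group A] : IrrCharacter A :=
  ⟨fun _ => 1, isIrrCharacter_of_deg_one isCharacter_one rfl⟩

lemma one_apply (x : A) : ((one A : IrrCharacter A) : A → ℂ) x = 1 := rfl

variable (hA : ∀ a b : A, a * b = b * a)

include hA

lemma deg_one (ν : IrrCharacter A) : (ν : A → ℂ) 1 = 1 := isIrr_deg_one_of_comm hA ν.2

lemma map_mul' (ν : IrrCharacter A) (x y : A) :
    (ν : A → ℂ) (x * y) = (ν : A → ℂ) x * (ν : A → ℂ) y :=
  deg_one_mul (isCharacter_of_isIrrCharacter ν.2) (deg_one hA ν) x y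

omit hA in
lemma map_inv' (ν : IrrCharacter A) (x : A) : (ν : A → ℂ) x⁻¹ = conj ((ν : A → ℂ) x) :=
  char_inv_eq_conj (isCharacter_of_isIrrCharacter ν.2) x

lemma mul_conj' (ν : IrrCharacter A) (x : A) : (ν : A → ℂ) x * conj ((ν : A → ℂ) x) = 1 := by
  rw [← map_inv', ← map_mul' hA, mul_inv_cancel, deg_one hA]

/-- The complex conjugate character. -/
noncomputable def bar (ν : IrrCharacter A) : IrrCharacter A :=
  ⟨fun x => (ν : A → ℂ) x⁻¹, isIrrCharacter_of_deg_one
    (isCharacter_inv (isCharacter_of_isIrrCharacter ν.2)) (by simpa using deg_one hA ν)⟩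

lemma bar_apply (ν : IrrCharacter A) (x : A) :
    ((bar hA ν : IrrCharacter A) : A → ℂ) x = (ν : A → ℂ) x⁻¹ := rfl

lemma bar_bar (ν : IrrCharacter A) : bar hA (bar hA ν) = ν := by
  apply Subtype.ext
  funext x
  simp [bar]

lemma bar_one : bar hA (one A) = one A := by
  apply Subtype.ext
  funext x
  rfl

omit hA in
lemma sum_mul_conj (ν μ : IrrCharacter A) [Decidable (ν = μ)] :
    ∑ x : A, (ν : A → ℂ) x * conj ((μ : A → ℂ) x) = if ν = μ then (Fintype.card A : ℂ) else 0 := by
  have hc : (Fintype.card A : ℂ) ≠ 0 := Nat.cast_ne_zero.mpr Fintype.card_ne_zero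
  by_cases h : ν = μ
  · rw [if_pos h, h]
    have := classInner_self_of_isIrr μ.2
    rw [classInner_def, Nat.card_eq_fintype_card] at this
    field_simp at this
    exact this
  · rw [if_neg h]
    have := classInner_eq_zero_of_isIrr_of_ne ν.2 μ.2 (fun h' => h (Subtype.ext h'))
    rw [classInner_def, Nat.card_eq_fintype_card] at this
    rcases mul_eq_zero.mp this with h1 | h1
    · exact absurd h1 (inv_ne_zero hc)
    · exact h1

omit hA in
lemma sum_eq_zero_of_ne (ν : IrrCharacter A) (hν : ν ≠ one A) : ∑ x : A, (ν : A → ℂ) x = 0 := by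
  classical
  have := sum_mul_conj ν (one A)
  rw [if_neg hν] at this
  simpa [one_apply] using this

omit hA in
lemma sum_conj_eq_zero_of_ne (ν : IrrCharacter A) (hν : ν ≠ one A) :
    ∑ x : A, conj ((ν : A → ℂ) x) = 0 := by
  rw [← map_sum, sum_eq_zero_of_ne ν hν, map_zero]

/-- Column orthogonality against `1`. -/
lemma sum_apply_eq_zero {x : A} (hx : x ≠ 1) : ∑ ν : IrrCharacter A, (ν : A → ℂ) x = 0 := by
  have := sum_irr_mul_conj (G := A) x 1
  rw [if_neg (by rwa [isConj_comm, isConj_one_right])] at this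
  simpa [deg_one hA] using this

lemma sum_apply_one : ∑ ν : IrrCharacter A, (ν : A → ℂ) 1 = (Fintype.card A : ℂ) := by
  have := sum_irr_mul_conj (G := A) 1 1
  rw [if_pos (IsConj.refl _)] at this
  have h2 : Nat.card (Subgroup.centralizer ({1} : Set A)) = Fintype.card A := by
    rw [Subgroup.centralizer_eq_top_iff_subset.mpr
      (Set.singleton_subset_iff.mpr (one_mem (Subgroup.center A)))]
    rw [Subgroup.card_top, Nat.card_eq_fintype_card]
  rw [h2] at this
  simpa [deg_one hA] using this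

/-- Number of real linear characters. -/
lemma card_real [DecidableEq (IrrCharacter A)] [DecidablePred fun y : A => y * y = 1] :
    (Finset.univ.filter (fun ν : IrrCharacter A => bar hA ν = ν)).card =
      (Finset.univ.filter (fun y : A => y * y = 1)).card := by
  have hc : (Fintype.card A : ℂ) ≠ 0 := Nat.cast_ne_zero.mpr Fintype.card_ne_zero
  have h1 : ∀ ν : IrrCharacter A, ∑ y : A, (ν : A → ℂ) (y * y) =
      if bar hA ν = ν then (Fintype.card A : ℂ) else 0 := by
    intro ν
    have := sum_mul_conj ν (bar hA ν)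
    have h3 : (ν = bar hA ν) = (bar hA ν = ν) := propext eq_comm
    simp only [h3] at this
    rw [← this]
    refine Finset.sum_congr rfl fun y _ => ?_
    rw [bar_apply, map_inv', map_mul' hA, Complex.conj_conj]
  have h2 : ∀ y : A, ∑ ν : IrrCharacter A, (ν : A → ℂ) (y * y) =
      if y * y = 1 then (Fintype.card A : ℂ) else 0 := by
    intro y
    split_ifs with hy
    · rw [hy]
      exact sum_apply_one hA
    · exact sum_apply_eq_zero hA hy
  have h3 : ∑ ν : IrrCharacter A, ∑ y : A, (ν : A → ℂ) (y * y) =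
      ∑ y : A, ∑ ν : IrrCharacter A, (ν : A → ℂ) (y * y) := Finset.sum_comm
  simp only [h1, h2] at h3
  rw [Finset.sum_ite, Finset.sum_ite] at h3
  simp only [Finset.sum_const_zero, add_zero, Finset.sum_const, nsmul_eq_mul] at h3
  have h4 := mul_right_cancel₀ hc h3
  exact_mod_cast h4

end Dual

section Main

variable {G : Type*} [Group G] [Fintype G] {t s : G} {K : Subgroup G} [Fintype K]
  [Fintype (IrrCharacter G)] [Fintype (IrrCharacter K)]

/-- The Fourier coefficient difference. -/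
noncomputable def F (χ : G → ℂ) (ν : K → ℂ) : ℂ :=
  (Nat.card K : ℂ)⁻¹ * ∑ x : K, χ x * (conj (ν x) - 1)

lemma F_eq (χ : G → ℂ) (ν : K → ℂ) :
    F χ ν = classInner (fun x : K => χ x) ν - classInner (fun x : K => χ x) (fun _ => 1) := by
  simp only [F, classInner_def, map_one]
  rw [← mul_sub, ← Finset.sum_sub_distrib]
  congr 1
  refine Finset.sum_congr rfl fun x _ => ?_
  ring

lemma card_K_ne_zero : (Nat.card K : ℂ) ≠ 0 := Nat.cast_ne_zero.mpr Nat.card_pos.ne'

lemma F_int (χ : IrrCharacter G) (ν : IrrCharacter K) : ∃ z : ℤ, F (χ : G → ℂ) (ν : K → ℂ) = z := by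
  have hχ := isCharacter_restrict K (isCharacter_of_isIrrCharacter χ.2)
  obtain ⟨a, ha⟩ := exists_nat_classInner hχ (isCharacter_of_isIrrCharacter ν.2)
  obtain ⟨b, hb⟩ := exists_nat_classInner hχ (isCharacter_one (G := K))
  refine ⟨(a : ℤ) - b, ?_⟩
  rw [F_eq, ha, hb]
  push_cast
  ring

/-- The integer Fourier coefficient difference. -/
noncomputable def fz (χ : IrrCharacter G) (ν : IrrCharacter K) : ℤ := (F_int χ ν).choose

lemma fz_spec (χ : IrrCharacter G) (ν : IrrCharacter K) :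
    F (χ : G → ℂ) (ν : K → ℂ) = fz χ ν := (F_int χ ν).choose_spec

variable (h : Hyp t s K)

lemma hKcomm (h : Hyp t s K) : ∀ a b : K, a * b = b * a := fun a b =>
  Subtype.ext (h.hcomm a.1 a.2 b.1 b.2)

include h

lemma char_inv_eq {χ : G → ℂ} (hχ : IsClassFunction G χ) {x : G} (hx : x ∈ K) : χ x⁻¹ = χ x := by
  rw [← h.hinv x hx]
  exact hχ x s

lemma F_one (ν : IrrCharacter K) (hν : ν ≠ one K) :
    F (one G : G → ℂ) (ν : K → ℂ) = -1 := by
  rw [F_eq]
  have h1 : classInner (fun x : K => ((one G : IrrCharacter G) : G → ℂ) x) (ν : K → ℂ) = 0 :=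
    classInner_eq_zero_of_isIrr_of_ne (one K).2 ν.2 (fun h' => hν (Subtype.ext h'.symm))
  have h2 : classInner (fun x : K => ((one G : IrrCharacter G) : G → ℂ) x) (fun _ => 1) = 1 :=
    classInner_self_of_isIrr (one K).2
  rw [h1, h2]
  ring

lemma F_first_one (χ : G → ℂ) : F χ (one K : K → ℂ) = 0 := by
  simp [F, one_apply]

lemma F_bar (χ : IrrCharacter G) (ν : IrrCharacter K) :
    F (χ : G → ℂ) (bar (hKcomm h) ν : K → ℂ) = F (χ : G → ℂ) (ν : K → ℂ) := by
  simp only [F]
  congr 1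
  rw [← Equiv.sum_comp (Equiv.inv K)]
  refine Finset.sum_congr rfl fun x _ => ?_
  simp only [Equiv.inv_apply, bar_apply, inv_inv, Subgroup.coe_inv]
  rw [char_inv_eq h (isClassFunction_of_isIrrCharacter χ.2) x.2]

/-- Fourier inversion on `K ∖ {1}`. -/
lemma char_eq_sum (χ : IrrCharacter G) {x : K} (hx : x ≠ 1) :
    (χ : G → ℂ) x = ∑ ν : IrrCharacter K, F (χ : G → ℂ) (ν : K → ℂ) * (ν : K → ℂ) x := by
  have hcf : IsClassFunction K (fun x : K => (χ : G → ℂ) x) :=
    isClassFunction_of_isCharacter (isCharacter_restrict K (isCharacter_of_isIrrCharacter χ.2))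
  have h1 := congrFun (classFunction_eq_sum hcf) x
  simp only [Finset.sum_apply, Pi.smul_apply, smul_eq_mul] at h1
  simp only [F_eq, sub_mul]
  rw [Finset.sum_sub_distrib, ← h1, ← Finset.mul_sum, sum_apply_eq_zero (hKcomm h) hx, mul_zero,
    sub_zero]

/-- The column sums over `K`. -/
lemma sum_conj_K [DecidableRel (IsConj : G → G → Prop)] [Finite G] {x : K} (hx : x ≠ 1) (φ : K → ℂ) :
    ∑ y : K, φ y * (if IsConj (x : G) (y : G) then
        (Nat.card (Subgroup.centralizer ({(y : G)} : Set G)) : ℂ) else 0) =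
      (Nat.card K : ℂ) * (φ x + φ x⁻¹) := by
  classical
  have hx1 : (x : G) ≠ 1 := fun h0 => hx (Subtype.ext h0)
  by_cases hxt : (x : G) = t
  · -- `x = t`
    have hx' : x⁻¹ = x := by
      apply Subtype.ext
      rw [Subgroup.coe_inv, hxt, t_inv h]
    rw [Finset.sum_eq_single x]
    · rw [if_pos (IsConj.refl _), hxt, card_centralizer_t h, hx']
      push_cast
      ring
    · intro y _ hy
      rw [if_neg, mul_zero]
      rw [isConj_K_iff h x.2 hx1 y.2]
      rintro (h1 | h1)
      · exact hy (Subtype.ext h1)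
      · apply hy
        apply Subtype.ext
        rw [h1, ← Subgroup.coe_inv, hx']
    · intro h0
      exact absurd (Finset.mem_univ _) h0
  · have hne : x ≠ x⁻¹ := by
      intro h0
      apply hxt
      apply eq_t_of_sq h x.2 hx1
      have h1 : (x : G) = (x : G)⁻¹ := by
        conv_lhs => rw [h0]
        simp
      nth_rewrite 1 [h1]
      simp
    have hxt' : ((x⁻¹ : K) : G) ≠ t := by
      intro h0
      apply hxt
      rw [Subgroup.coe_inv] at h0
      have := congrArg (fun z => z⁻¹) h0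
      simp only [inv_inv] at this
      rw [this, t_inv h]
    have hx1' : ((x⁻¹ : K) : G) ≠ 1 := by
      simpa using hx1
    rw [← Finset.sum_subset (Finset.subset_univ ({x, x⁻¹} : Finset K))]
    · rw [Finset.sum_pair hne, if_pos (IsConj.refl _), if_pos, centralizer_eq_K h x.2 hx1 hxt,
        centralizer_eq_K h (x⁻¹ : K).2 hx1' hxt']
      · ring
      · rw [isConj_K_iff h x.2 hx1 (x⁻¹ : K).2]
        right
        simp
    · intro y _ hy
      rw [if_neg, mul_zero]
      rw [isConj_K_iff h x.2 hx1 y.2]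
      simp only [Finset.mem_insert, Finset.mem_singleton, not_or] at hy
      rintro (h1 | h1)
      · exact hy.1 (Subtype.ext h1)
      · apply hy.2
        apply Subtype.ext
        rw [h1, Subgroup.coe_inv]

/-- Column orthogonality: the sum against an arbitrary element. -/
lemma sum_F_mul_conj [DecidableRel (IsConj : G → G → Prop)] (ν : IrrCharacter K) (y : G) :
    ∑ χ : IrrCharacter G, F (χ : G → ℂ) (ν : K → ℂ) * conj ((χ : G → ℂ) y) =
      (Nat.card K : ℂ)⁻¹ * ∑ x : K, (conj ((ν : K → ℂ) x) - 1) *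
        (if IsConj (x : G) y then (Nat.card (Subgroup.centralizer ({y} : Set G)) : ℂ) else 0) := by
  classical
  simp only [F]
  simp_rw [mul_assoc]
  rw [← Finset.mul_sum]
  congr 1
  simp_rw [Finset.sum_mul]
  rw [Finset.sum_comm]
  refine Finset.sum_congr rfl fun x _ => ?_
  have := sum_irr_mul_conj (x : G) y
  convert congrArg (fun z => (conj ((ν : K → ℂ) x) - 1) * z) this using 1
  · rw [Finset.mul_sum]
    refine Finset.sum_congr rfl fun χ _ => ?_
    ring
  · split_ifs <;> rfl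

/-- Column orthogonality vanishing. -/
lemma sum_F_mul_conj_eq_zero (ν : IrrCharacter K) {y : G}
    (hy : ∀ x : K, x ≠ 1 → ¬ IsConj (x : G) y) :
    ∑ χ : IrrCharacter G, F (χ : G → ℂ) (ν : K → ℂ) * conj ((χ : G → ℂ) y) = 0 := by
  classical
  rw [sum_F_mul_conj h, Finset.sum_eq_zero, mul_zero]
  intro x _
  by_cases hx : x = 1
  · rw [hx, (deg_one (hKcomm h) ν), map_one, sub_self, zero_mul]
  · rw [if_neg (hy x hx), mul_zero]

/-- The Gram matrix of the Fourier vectors. -/
lemma gram [Finite G] [DecidableEq (IrrCharacter K)] (ν μ : IrrCharacter K) (hν : ν ≠ one K)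
    (hμ : μ ≠ one K) :
    ∑ χ : IrrCharacter G, F (χ : G → ℂ) (ν : K → ℂ) * conj (F (χ : G → ℂ) (μ : K → ℂ)) =
      (if μ = ν then 1 else 0) + (if bar (hKcomm h) μ = ν then 1 else 0) + 2 := by
  classical
  have hk := card_K_ne_zero (K := K)
  have hc : (Nat.card K : ℂ) = Fintype.card K := by rw [Nat.card_eq_fintype_card]
  have h1 : ∀ χ : IrrCharacter G, conj (F (χ : G → ℂ) (μ : K → ℂ)) =
      (Nat.card K : ℂ)⁻¹ * ∑ y : K, conj ((χ : G → ℂ) y) * ((μ : K → ℂ) y - 1) := by
    intro χ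
    simp only [F, map_mul, map_inv₀, map_natCast, map_sum, map_sub, map_one, Complex.conj_conj]
  simp_rw [h1]
  have h2 : ∑ χ : IrrCharacter G, F (χ : G → ℂ) (ν : K → ℂ) *
      ((Nat.card K : ℂ)⁻¹ * ∑ y : K, conj ((χ : G → ℂ) y) * ((μ : K → ℂ) y - 1)) =
      (Nat.card K : ℂ)⁻¹ * ∑ y : K, ((μ : K → ℂ) y - 1) *
        ∑ χ : IrrCharacter G, F (χ : G → ℂ) (ν : K → ℂ) * conj ((χ : G → ℂ) y) := by
    simp_rw [Finset.mul_sum]
    rw [Finset.sum_comm]
    refine Finset.sum_congr rfl fun y _ => ?_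
    refine Finset.sum_congr rfl fun χ _ => ?_
    ring
  rw [h2]
  simp_rw [sum_F_mul_conj h ν]
  have h3 : ∑ y : K, ((μ : K → ℂ) y - 1) * ((Nat.card K : ℂ)⁻¹ * ∑ x : K,
      (conj ((ν : K → ℂ) x) - 1) * (if IsConj (x : G) (y : G) then
        (Nat.card (Subgroup.centralizer ({(y : G)} : Set G)) : ℂ) else 0)) =
      (Nat.card K : ℂ)⁻¹ * ∑ x : K, (conj ((ν : K → ℂ) x) - 1) * ∑ y : K, ((μ : K → ℂ) y - 1) *
        (if IsConj (x : G) (y : G) then
        (Nat.card (Subgroup.centralizer ({(y : G)} : Set G)) : ℂ) else 0) := by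
    simp_rw [Finset.mul_sum]
    rw [Finset.sum_comm]
    refine Finset.sum_congr rfl fun x _ => ?_
    refine Finset.sum_congr rfl fun y _ => ?_
    ring
  rw [h3]
  have h4 : ∀ x : K, (conj ((ν : K → ℂ) x) - 1) * ∑ y : K, ((μ : K → ℂ) y - 1) *
        (if IsConj (x : G) (y : G) then
        (Nat.card (Subgroup.centralizer ({(y : G)} : Set G)) : ℂ) else 0) =
      (Nat.card K : ℂ) * ((conj ((ν : K → ℂ) x) - 1) *
        ((μ : K → ℂ) x + (μ : K → ℂ) x⁻¹ - 2)) := by
    intro x
    by_cases hx : x = 1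
    · rw [hx, deg_one (hKcomm h) ν, map_one, sub_self]
      ring
    · rw [sum_conj_K h hx (fun y => (μ : K → ℂ) y - 1)]
      ring
  simp_rw [h4]
  rw [← Finset.mul_sum]
  have hbarμ : bar (hKcomm h) μ ≠ one K := by
    intro h0
    apply hμ
    have := congrArg (bar (hKcomm h)) h0
    rwa [bar_bar, bar_one] at this
  have S1 := sum_mul_conj μ ν
  have S2 := sum_mul_conj (bar (hKcomm h) μ) ν
  have S3 := sum_conj_eq_zero_of_ne ν hν
  have S4 := sum_eq_zero_of_ne μ hμ
  have S5 := sum_eq_zero_of_ne (bar (hKcomm h) μ) hbarμ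
  simp only [bar_apply] at S2 S5
  have h5 : ∀ x : K, (conj ((ν : K → ℂ) x) - 1) * ((μ : K → ℂ) x + (μ : K → ℂ) x⁻¹ - 2) =
      (μ : K → ℂ) x * conj ((ν : K → ℂ) x) + (μ : K → ℂ) x⁻¹ * conj ((ν : K → ℂ) x)
        - 2 * conj ((ν : K → ℂ) x) - (μ : K → ℂ) x - (μ : K → ℂ) x⁻¹ + 2 := by
    intro x
    ring
  simp_rw [h5]
  rw [Finset.sum_add_distrib, Finset.sum_sub_distrib, Finset.sum_sub_distrib,
    Finset.sum_sub_distrib, Finset.sum_add_distrib, S1, S2, S4, S5, ← Finset.mul_sum, S3]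
  simp only [Finset.sum_const, Finset.card_univ, nsmul_eq_mul, mul_zero, sub_zero]
  rw [← hc]
  field_simp
  split_ifs <;> ring

/-- The Frobenius count for pairs of involutions. -/
lemma card_pairs_eq [Finite G] (c : G) :
    (Nat.card (PairsWithProduct c) : ℂ) =
      (Nat.card {u : G // IsConj t u} : ℂ) * (Nat.card {u : G // IsConj t u} : ℂ) /
        (Nat.card G : ℂ) *
      ∑ χ : IrrCharacter G, (χ : G → ℂ) t * (χ : G → ℂ) t * conj ((χ : G → ℂ) c) / (χ : G → ℂ) 1 := by
  rw [← card_product_eq t t c]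
  congr 1
  refine Nat.card_congr (Equiv.subtypeEquivRight fun p => ?_)
  have hiff : ∀ u : G, orderOf u = 2 ↔ IsConj t u := by
    intro u
    constructor
    · exact h.hconj u
    · intro hc
      obtain ⟨g, rfl⟩ := isConj_iff.mp hc
      rw [order_conj, h.ht]
  rw [hiff, hiff]

/-- The Frobenius sum over the irreducible characters on `K ∖ {1}`. -/
lemma sum_alpha_K [Finite G] {x : K} (hx : x ≠ 1) :
    ∑ χ : IrrCharacter G, (χ : G → ℂ) t * (χ : G → ℂ) t * conj ((χ : G → ℂ) x) / (χ : G → ℂ) 1 =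
      (Nat.card K : ℂ) * (Nat.card G : ℂ) /
        ((Nat.card {u : G // IsConj t u} : ℂ) * (Nat.card {u : G // IsConj t u} : ℂ)) := by
  have hx1 : (x : G) ≠ 1 := fun h0 => hx (Subtype.ext h0)
  have h1 := card_pairs_eq h (x : G)
  rw [card_pairs_K h x.2 hx1] at h1
  have hN : (Nat.card {u : G // IsConj t u} : ℂ) ≠ 0 := by
    haveI : Nonempty {u : G // IsConj t u} := ⟨⟨t, IsConj.refl t⟩⟩
    exact Nat.cast_ne_zero.mpr Nat.card_pos.ne'
  have hG : (Nat.card G : ℂ) ≠ 0 := card_ne_zero_complex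
  rw [h1]
  field_simp

/-- The sum of `F` against the Frobenius weights. -/
lemma sum_F_alpha [Finite G] (ν : IrrCharacter K) (hν : ν ≠ one K) :
    ∑ χ : IrrCharacter G, F (χ : G → ℂ) (ν : K → ℂ) *
        ((χ : G → ℂ) t * (χ : G → ℂ) t / (χ : G → ℂ) 1) =
      - ((Nat.card K : ℂ) * (Nat.card G : ℂ) /
        ((Nat.card {u : G // IsConj t u} : ℂ) * (Nat.card {u : G // IsConj t u} : ℂ))) := by
  classical
  set A := (Nat.card K : ℂ) * (Nat.card G : ℂ) /
        ((Nat.card {u : G // IsConj t u} : ℂ) * (Nat.card {u : G // IsConj t u} : ℂ)) with hA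
  have hk := card_K_ne_zero (K := K)
  have hc : (Nat.card K : ℂ) = Fintype.card K := by rw [Nat.card_eq_fintype_card]
  simp only [F]
  simp_rw [mul_assoc (Nat.card K : ℂ)⁻¹]
  rw [← Finset.mul_sum]
  simp_rw [Finset.sum_mul]
  rw [Finset.sum_comm]
  simp_rw [mul_assoc]
  have h1 : ∀ x : K, ∑ χ : IrrCharacter G, (χ : G → ℂ) x * ((conj ((ν : K → ℂ) x) - 1) *
      ((χ : G → ℂ) t * (χ : G → ℂ) t / (χ : G → ℂ) 1)) = (conj ((ν : K → ℂ) x) - 1) * A := by
    intro x
    by_cases hx : x = 1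
    · rw [hx, deg_one (hKcomm h) ν, map_one, sub_self]
      simp
    · have hx' : x⁻¹ ≠ 1 := inv_ne_one.mpr hx
      rw [hA, ← sum_alpha_K h hx', Finset.mul_sum]
      refine Finset.sum_congr rfl fun χ _ => ?_
      have : conj ((χ : G → ℂ) ((x⁻¹ : K) : G)) = (χ : G → ℂ) x := by
        rw [Subgroup.coe_inv, ← map_inv' χ, inv_inv]
      rw [this]
      ring
  simp_rw [h1]
  rw [← Finset.sum_mul, Finset.sum_sub_distrib, sum_conj_eq_zero_of_ne ν hν]
  simp only [Finset.sum_const, Finset.card_univ, nsmul_eq_mul, mul_one]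
  rw [← hc]
  field_simp
  ring

end Main

end Cfsg.Agent.Lib.BSW.Fourier
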