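import Cfsg.Agent.Lib.BSW.Family

/-!
# Abstract Brauer–Suzuki–Wall: the numerical consequences
-/

set_option autoImplicit false
set_option linter.unusedSectionVars false
set_option linter.unusedVariables false
set_option linter.style.haveILetI false

namespace Cfsg.Agent.Lib.BSW.Numbers

open Cfsg Cfsg.Agent.Lib.BSW.Setup Cfsg.Agent.Lib.BSW.Fourier Cfsg.Agent.Lib.BSW.Combi
  Cfsg.Agent.Lib.BSW.Family
open Cfsg.Agent.Lib.Char.Basic Cfsg.Agent.Lib.Char.Ortho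
  Cfsg.Agent.Lib.Char.Complete Cfsg.Agent.Lib.Char.ClassProd Cfsg.Agent.Lib.Char.Linear
open Cfsg.Agent.Lib.Involutions.Counting (PairsWithProduct)
open scoped ComplexConjugate
open Classical

variable {G : Type*} [Group G] [Fintype G] {t s : G} {K : Subgroup G} [Fintype K]
  [Fintype (IrrCharacter G)] [Fintype (IrrCharacter K)]

section
variable {h : Hyp t s K} {ε : Lam K} {X : IrrCharacter G} {σ : ℤ} {z : Lam K → IrrCharacter G}
  {y₁ y₂ : IrrCharacter G}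

/-- The vector `T`: the value at `t`. -/
noncomputable def T (h : Hyp t s K) (i : IrrCharacter G) : ℤ :=
  ∑ μ : Lam K, f i μ * tau t μ.1 h.htK

variable (hF : Family (f (G := G)) (one G) (invL h) ε X σ z y₁ y₂)
  (S : Sys (f (G := G)) (one G) (invL h) ε)

include hF S

lemma exp_ne {R : Type*} [CommRing R] (Φ : IrrCharacter G → R) {ν : Lam K} (hν : ν ≠ ε) :
    ∑ i, ((f i ν : ℤ) : R) * Φ i = -Φ (one G) + σ * Φ X + ((f (z ν) ν : ℤ) : R) * Φ (z ν) := by
  rw [sum3 (a := one G) (b := X) (c := z ν) (Ne.symm hF.hX) (Ne.symm (hF.hz0 ν hν))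
    (Ne.symm (hF.hzX ν hν)) _ (fun i h0 h1 h2 => by simp [hF.hzs ν hν i h0 h1 h2]), S.hf0, hF.hfX]
  push_cast
  ring

lemma exp_eps {R : Type*} [CommRing R] (Φ : IrrCharacter G → R) :
    ∑ i, ((f i ε : ℤ) : R) * Φ i = -Φ (one G) + σ * Φ X + ((f y₁ ε : ℤ) : R) * Φ y₁ +
      ((f y₂ ε : ℤ) : R) * Φ y₂ := by
  rw [sum4 (a := one G) (b := X) (c := y₁) (d := y₂) (Ne.symm hF.hX) (Ne.symm hF.hy10)
    (Ne.symm hF.hy20) (Ne.symm hF.hy1X) (Ne.symm hF.hy2X) hF.hy _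
    (fun i h0 h1 h2 h3 => by simp [hF.hys i h0 h1 h2 h3]), S.hf0, hF.hfX]
  push_cast
  ring

lemma T_one : T h (one G) = 1 := by
  simp only [T, S.hf0]
  have := tau_sum h
  rw [← Finset.mul_sum, this]
  norm_num
  
lemma T_X : T h X = -σ := by
  simp only [T, hF.hfX]
  rw [← Finset.mul_sum, tau_sum h]
  ring

lemma T_z {ν : Lam K} (hν : ν ≠ ε) : T h (z ν) = 2 * (f (z ν) ν * tau t ν.1 h.htK) := by
  simp only [T]
  rw [Fintype.sum_eq_add ν (invL h ν) (Ne.symm (inv_ne S hν))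
    (fun μ hμ => by rw [hF.hzo ν hν μ hμ.1 hμ.2, zero_mul]), S.hfinv]
  have : tau t (invL h ν).1 h.htK = tau t ν.1 h.htK := tau_bar h ν.1
  rw [this]
  ring

lemma T_z_sq {ν : Lam K} (hν : ν ≠ ε) : T h (z ν) ^ 2 = 4 := by
  rw [T_z hF S hν, mul_pow, mul_pow, hF.hzσ ν hν, tau_sq h]
  norm_num

lemma T_y₁ : T h y₁ = f y₁ ε * tau t ε.1 h.htK := by
  simp only [T]
  rw [Fintype.sum_eq_single ε (fun μ hμ => by rw [(hF.hyo μ hμ).1, zero_mul])]

lemma T_y₂ : T h y₂ = f y₂ ε * tau t ε.1 h.htK := by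
  simp only [T]
  rw [Fintype.sum_eq_single ε (fun μ hμ => by rw [(hF.hyo μ hμ).2, zero_mul])]

lemma T_y₁_sq : T h y₁ ^ 2 = 1 := by
  rw [T_y₁ hF S, mul_pow, hF.hy1σ, tau_sq h]
  norm_num

lemma T_y₂_sq : T h y₂ ^ 2 = 1 := by
  rw [T_y₂ hF S, mul_pow, hF.hy2σ, tau_sq h]
  norm_num

lemma T_X_sq : T h X ^ 2 = 1 := by
  rw [T_X hF S, neg_sq, hF.hσ]

lemma sum_rel_ne {ν : Lam K} (hν : ν ≠ ε) : f (z ν) ν * dg (z ν) = 1 + -σ * dg X := by
  have h1 := sum_f_deg h ν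
  have h2 := exp_ne hF S (R := ℤ) dg hν
  simp only [Int.cast_id] at h2
  rw [h1, dg_one] at h2
  linarith

lemma sum_rel_eps : f y₁ ε * dg y₁ + f y₂ ε * dg y₂ = 1 + -σ * dg X := by
  have h1 := sum_f_deg h ε
  have h2 := exp_eps hF S (R := ℤ) dg
  simp only [Int.cast_id] at h2
  rw [h1, dg_one] at h2
  linarith

omit hF S in
lemma mul_div_sq (a b : ℤ) (c : ℚ) (ha : a ^ 2 = 1) : (a : ℚ) * (c / b) = c / ((a * b : ℤ) : ℚ) := by
  rcases sq_one_cases ha with rfl | rfl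
  · simp
  · push_cast
    rw [neg_one_mul, neg_one_mul, div_neg]

lemma sigma_cases : σ = 1 ∨ σ = -1 := sq_one_cases hF.hσ

lemma cst_ne {ν : Lam K} (hν : ν ≠ ε) :
    cst K t = -1 - 1 / ((-σ * dg X : ℤ) : ℚ) + 4 / ((1 + -σ * dg X : ℤ) : ℚ) := by
  have h1 := sum_f_alpha h ν
  have h2 := exp_ne hF S (R := ℚ) (fun i => ((T h i : ℤ) : ℚ) ^ 2 / dg i) hν
  simp only [mul_div_assoc] at h1
  have h1' : ∑ i, ((f i ν : ℤ) : ℚ) * (((T h i : ℤ) : ℚ) ^ 2 / dg i) = cst K t := h1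
  rw [h1'] at h2
  rw [h2, T_one hF S, dg_one]
  have e1 : ((T h X : ℤ) : ℚ) ^ 2 = 1 := by exact_mod_cast T_X_sq hF S
  have e2 : ((T h (z ν) : ℤ) : ℚ) ^ 2 = 4 := by exact_mod_cast T_z_sq hF S hν
  rw [e1, e2, mul_div_sq _ _ _ (hF.hzσ ν hν), sum_rel_ne hF S hν, mul_div_sq _ _ _ hF.hσ]
  have e3 : ((-σ * dg X : ℤ) : ℚ) = -((σ * dg X : ℤ) : ℚ) := by push_cast; ring
  rw [e3, one_div, one_div, inv_neg]
  push_cast
  ring

lemma cst_eps :
    cst K t = -1 - 1 / ((-σ * dg X : ℤ) : ℚ) + 1 / ((f y₁ ε * dg y₁ : ℤ) : ℚ) +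
      1 / ((f y₂ ε * dg y₂ : ℤ) : ℚ) := by
  have h1 := sum_f_alpha h ε
  have h2 := exp_eps hF S (R := ℚ) (fun i => ((T h i : ℤ) : ℚ) ^ 2 / dg i)
  simp only [mul_div_assoc] at h1
  have h1' : ∑ i, ((f i ε : ℤ) : ℚ) * (((T h i : ℤ) : ℚ) ^ 2 / dg i) = cst K t := h1
  rw [h1'] at h2
  rw [h2, T_one hF S, dg_one]
  have e1 : ((T h X : ℤ) : ℚ) ^ 2 = 1 := by exact_mod_cast T_X_sq hF S
  have e2 : ((T h y₁ : ℤ) : ℚ) ^ 2 = 1 := by exact_mod_cast T_y₁_sq hF S
  have e3 : ((T h y₂ : ℤ) : ℚ) ^ 2 = 1 := by exact_mod_cast T_y₂_sq hF S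
  rw [e1, e2, e3, mul_div_sq _ _ _ hF.hy1σ, mul_div_sq _ _ _ hF.hy2σ, mul_div_sq _ _ _ hF.hσ]
  have e4 : ((-σ * dg X : ℤ) : ℚ) = -((σ * dg X : ℤ) : ℚ) := by push_cast; ring
  rw [e4, div_neg]
  push_cast
  ring

lemma f_ne_zero_of_sq {a : ℤ} (ha : a ^ 2 = 1) : a ≠ 0 := by
  rintro rfl
  norm_num at ha

lemma d_ne_zero : -σ * dg X ≠ 0 :=
  mul_ne_zero (neg_ne_zero.mpr (f_ne_zero_of_sq hF S hF.hσ)) (dg_pos X).ne'

/-- The two characters with nonzero coefficient at `ε` have the same signed degree. -/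
lemma y_eq {ν : Lam K} (hν : ν ≠ ε) : f y₁ ε * dg y₁ = f y₂ ε * dg y₂ := by
  have h1 := cst_ne hF S hν
  have h2 := cst_eps hF S
  have h3 := sum_rel_eps hF S
  have ha : f y₁ ε * dg y₁ ≠ 0 := mul_ne_zero (f_ne_zero_of_sq hF S hF.hy1σ) (dg_pos _).ne'
  have hb : f y₂ ε * dg y₂ ≠ 0 := mul_ne_zero (f_ne_zero_of_sq hF S hF.hy2σ) (dg_pos _).ne'
  have hd1 : 1 + -σ * dg X ≠ 0 := by
    rw [← sum_rel_ne hF S hν]
    exact mul_ne_zero (f_ne_zero_of_sq hF S (hF.hzσ ν hν)) (dg_pos _).ne'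
  rw [← h3] at h1 hd1
  generalize f y₁ ε * dg y₁ = a at *
  generalize f y₂ ε * dg y₂ = b at *
  have ha' : (a : ℚ) ≠ 0 := by exact_mod_cast ha
  have hb' : (b : ℚ) ≠ 0 := by exact_mod_cast hb
  have hab' : (a : ℚ) + b ≠ 0 := by exact_mod_cast hd1
  have h4 : 1 / (a : ℚ) + 1 / (b : ℚ) = 4 / ((a + b : ℤ) : ℚ) := by
    rw [h1] at h2
    linarith
  push_cast at h4
  field_simp at h4
  have h5 : ((a : ℚ) - b) ^ 2 = 0 := by linear_combination h4
  have h6 : (a : ℚ) - b = 0 := by simpa using h5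
  have h7 : (a : ℚ) = b := sub_eq_zero.mp h6
  exact_mod_cast h7

omit hF S in
lemma card_G_eq [Finite G] (h : Hyp t s K) :
    Nat.card G = Nat.card {u : G // IsConj t u} * (2 * Nat.card K) := by
  rw [← card_isConj_mul_card_centralizer t, card_centralizer_t h]
  congr 1
  exact Nat.card_congr (Equiv.subtypeEquivRight fun u => isConj_comm)

omit hF S in
lemma N_pos : 0 < Nat.card {u : G // IsConj t u} := by
  haveI : Nonempty {u : G // IsConj t u} := ⟨⟨t, IsConj.refl t⟩⟩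
  exact Nat.card_pos

/-- The relation between the order, the degree and `|K|`. -/
lemma key_rel {ν : Lam K} (hν : ν ≠ ε) :
    ((-σ * dg X - 1) ^ 2) * (Nat.card {u : G // IsConj t u} : ℤ) =
      2 * (Nat.card K : ℤ) ^ 2 * (-σ * dg X) * (1 + -σ * dg X) := by
  have h1 := cst_ne hF S hν
  have hd0 := d_ne_zero hF S
  have hd1 : 1 + -σ * dg X ≠ 0 := by
    rw [← sum_rel_ne hF S hν]
    exact mul_ne_zero (f_ne_zero_of_sq hF S (hF.hzσ ν hν)) (dg_pos _).ne'
  have hN := N_pos (G := G) (t := t)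
  have hG := card_G_eq h
  have e : cst K t = - (2 * (Nat.card K : ℚ) ^ 2 / (Nat.card {u : G // IsConj t u} : ℚ)) := by
    rw [cst, hG]
    push_cast
    have hN' : (Nat.card {u : G // IsConj t u} : ℚ) ≠ 0 := by exact_mod_cast hN.ne'
    field_simp
  rw [e] at h1
  generalize -σ * dg X = d at *
  have hd0' : (d : ℚ) ≠ 0 := by exact_mod_cast hd0
  have hd1' : (1 : ℚ) + d ≠ 0 := by exact_mod_cast hd1
  have hN' : (Nat.card {u : G // IsConj t u} : ℚ) ≠ 0 := by exact_mod_cast hN.ne'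
  push_cast at h1
  field_simp at h1
  have h2 : (((d - 1) ^ 2 * (Nat.card {u : G // IsConj t u} : ℤ) : ℤ) : ℚ) =
      ((2 * (Nat.card K : ℤ) ^ 2 * d * (1 + d) : ℤ) : ℚ) := by
    push_cast
    linear_combination h1
  exact_mod_cast h2

omit S in
lemma X_on_K_aux [Finite G] (S : Sys (f (G := G)) (one G) (invL h) ε) {x : K} (hx : x ≠ 1) :
    (X : G → ℂ) x = -σ := by
  rw [char_x_eq h X hx]
  simp only [hF.hfX]
  rw [← Finset.mul_sum]
  have h1 := sum_apply_eq_zero (hKcomm h) hx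
  rw [Fintype.sum_eq_add_sum_subtype_ne _ (one K), one_apply] at h1
  have h2 : ∑ μ : Lam K, (μ.1 : K → ℂ) x = -1 := by linear_combination h1
  rw [h2]
  ring

/-- The character `-σ X` is `1` on involutions. -/
lemma X_on_invol [Finite G] {u : G} (hu : orderOf u = 2) : (X : G → ℂ) u = -σ := by
  have hne : (⟨t, h.htK⟩ : K) ≠ 1 := fun h0 => t_ne_one h (congrArg Subtype.val h0)
  have h1 := X_on_K_aux hF S hne
  obtain ⟨g, rfl⟩ := isConj_iff.mp (h.hconj u hu)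
  rw [isClassFunction_of_isIrrCharacter X.2]
  exact h1

/-- The average of `X` over `C(t)` is an integer. -/
lemma H_avg [Finite G] : ∃ n : ℕ, dg X - σ * (2 * (Nat.card K : ℤ) - 1) = 2 * (Nat.card K : ℤ) * n := by
  let H := Subgroup.centralizer ({t} : Set G)
  let _ : Fintype H := Fintype.ofFinite H
  obtain ⟨n, hn⟩ := exists_nat_classInner (isCharacter_restrict H
    (isCharacter_of_isIrrCharacter X.2)) (isCharacter_one (G := H))
  refine ⟨n, ?_⟩
  rw [classInner_def] at hn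
  simp only [map_one, mul_one] at hn
  rw [← (equivH h).sum_comp, Fintype.sum_sum_type] at hn
  simp only [equivH_inl, equivH_inr] at hn
  have hk : (Nat.card K : ℂ) ≠ 0 := card_K_ne_zero
  have hH : Nat.card H = 2 * Nat.card K := card_centralizer_t h
  rw [hH] at hn
  have e1 : ∑ x : K, (X : G → ℂ) x = (dg X : ℂ) + ((Nat.card K : ℂ) - 1) * (-σ) := by
    rw [Fintype.sum_eq_add_sum_subtype_ne _ (1 : K)]
    simp only [Subgroup.coe_one, dg_spec]
    congr 1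
    have h2 : ∀ x : {x : K // x ≠ 1}, (X : G → ℂ) x.1 = -σ := fun x => X_on_K_aux hF S x.2
    simp only [h2, Finset.sum_const, Finset.card_univ, nsmul_eq_mul]
    have h3 := card_ne_one_K K
    rw [Nat.card_eq_fintype_card (α := {x : K // x ≠ 1})] at h3
    rw [← h3]
    push_cast
    ring
  have e2 : ∑ x : K, (X : G → ℂ) (s * x) = (Nat.card K : ℂ) * (-σ) := by
    have h2 : ∀ x : K, (X : G → ℂ) (s * x) = -σ := fun x => X_on_invol hF S (order_sx h x.2)
    simp only [h2, Finset.sum_const, Finset.card_univ, nsmul_eq_mul, Nat.card_eq_fintype_card]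
  rw [e1, e2] at hn
  push_cast at hn
  field_simp at hn
  have h4 : ((dg X - σ * (2 * (Nat.card K : ℤ) - 1) : ℤ) : ℂ) = ((2 * (Nat.card K : ℤ) * n : ℤ) : ℂ) := by
    push_cast
    linear_combination hn
  exact_mod_cast h4

/-- The degree `d` is one of `1 ± 2|K|`, and `2 N = d (d + 1)`. -/
lemma d_values [Finite G] {ν : Lam K} (hν : ν ≠ ε) :
    (-σ * dg X = 1 + 2 * (Nat.card K : ℤ) ∨ -σ * dg X = 1 - 2 * (Nat.card K : ℤ)) ∧
      2 * (Nat.card {u : G // IsConj t u} : ℤ) = (-σ * dg X) * (-σ * dg X + 1) := by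
  obtain ⟨n, hn⟩ := H_avg hF S
  have hkey := key_rel hF S hν
  have hs := hF.hσ
  obtain ⟨k', hk'⟩ := even_card_K h
  have hk0 : (Nat.card K : ℤ) ≠ 0 := by
    have : Nat.card K ≠ 0 := Nat.card_pos.ne'
    exact_mod_cast this
  set d := -σ * dg X with hd
  set N : ℤ := (Nat.card {u : G // IsConj t u} : ℤ) with hN
  set k : ℤ := (Nat.card K : ℤ) with hk
  have hk2 : k = 2 * (k' : ℤ) := by rw [hk, hk']; push_cast; ring
  set m : ℤ := -(σ * n + 1) with hm
  have hdm : d = 1 + 2 * k * m := by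
    have h1 : dg X = σ * (2 * k - 1) + 2 * k * n := by linarith
    rw [hd, h1, hm]
    linear_combination (-(2 * k - 1)) * hs
  have hrel : 2 * m ^ 2 * N = d * (1 + d) := by
    have h1 : (2 * k * m) ^ 2 * N = 2 * k ^ 2 * d * (1 + d) := by
      rw [← hkey]
      congr 2
      rw [hdm]
      ring
    have h2 : k ^ 2 * (2 * (2 * m ^ 2 * N)) = k ^ 2 * (2 * (d * (1 + d))) := by
      linear_combination h1
    have h3 : k ^ 2 ≠ 0 := pow_ne_zero 2 hk0
    have h4 := mul_left_cancel₀ h3 h2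
    linarith
  have hodd : m ^ 2 * N = (1 + 4 * (k' : ℤ) * m) * (1 + 2 * (k' : ℤ) * m) := by
    have : 2 * (m ^ 2 * N) = 2 * ((1 + 4 * (k' : ℤ) * m) * (1 + 2 * (k' : ℤ) * m)) := by
      rw [← mul_assoc, hrel, hdm, hk2]
      ring
    exact mul_left_cancel₀ (by norm_num) this
  have hmodd : ¬ 2 ∣ m := by
    rintro ⟨j, hj⟩
    rw [hj] at hodd
    have h1 : (2 * j) ^ 2 * N = 2 * (2 * j ^ 2 * N) := by ring
    rw [h1] at hodd
    have h2 : (1 + 4 * (k' : ℤ) * (2 * j)) * (1 + 2 * (k' : ℤ) * (2 * j)) =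
        2 * (16 * ((k' : ℤ) * j) ^ 2 + 6 * ((k' : ℤ) * j)) + 1 := by ring
    rw [h2] at hodd
    omega
  have hm2 : IsCoprime m 2 := by
    rw [Int.isCoprime_iff_gcd_eq_one]
    have := (Int.prime_two.coprime_iff_not_dvd (n := m)).mpr hmodd
    rw [Int.isCoprime_iff_gcd_eq_one] at this
    rwa [Int.gcd_comm]
  have hmd : IsCoprime m d := ⟨-(2 * k), 1, by rw [hdm]; ring⟩
  have hmd1 : IsCoprime m (1 + d) := by
    have h1 : IsCoprime m (1 + k * m) := ⟨-k, 1, by ring⟩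
    have h2 : 1 + d = 2 * (1 + k * m) := by rw [hdm]; ring
    rw [h2]
    exact hm2.mul_right h1
  have hdvd : m ∣ d * (1 + d) := ⟨2 * m * N, by rw [← hrel]; ring⟩
  have hunit : IsUnit m := (hmd.mul_right hmd1).isUnit_of_dvd' dvd_rfl hdvd
  have hm1 : m = 1 ∨ m = -1 := Int.isUnit_iff.mp hunit
  constructor
  · rcases hm1 with e | e
    · left; rw [hdm, e]; ring
    · right; rw [hdm, e]; ring
  · have h5 : m ^ 2 = 1 := by rcases hm1 with e | e <;> rw [e] <;> norm_num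
    rw [h5] at hrel
    linarith

lemma char_t_sq (χ : IrrCharacter G) : (χ : G → ℂ) t * conj ((χ : G → ℂ) t) = (χ : G → ℂ) t * (χ : G → ℂ) t := by
  rw [char_t_eq h χ]
  simp

lemma rel_ne {ν : Lam K} (hν : ν ≠ ε) {y : G} (hy : ∀ x : K, x ≠ 1 → ¬ IsConj (x : G) y) :
    (f (z ν) ν : ℂ) * conj ((z ν : G → ℂ) y) = 1 + (-σ : ℂ) * conj ((X : G → ℂ) y) := by
  have h1 := sum_f_conj h ν hy
  have h2 := exp_ne hF S (R := ℂ) (fun χ => conj ((χ : G → ℂ) y)) hν
  rw [h1] at h2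
  simp only [one_apply, map_one] at h2
  linear_combination -h2

lemma rel_eps {y : G} (hy : ∀ x : K, x ≠ 1 → ¬ IsConj (x : G) y) :
    (f y₁ ε : ℂ) * conj ((y₁ : G → ℂ) y) + (f y₂ ε : ℂ) * conj ((y₂ : G → ℂ) y) =
      1 + (-σ : ℂ) * conj ((X : G → ℂ) y) := by
  have h1 := sum_f_conj h ε hy
  have h2 := exp_eps hF S (R := ℂ) (fun χ => conj ((χ : G → ℂ) y))
  rw [h1] at h2
  simp only [one_apply, map_one] at h2
  linear_combination -h2

/-- The Frobenius sum at an element which is not conjugate into `K`. -/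
lemma sum_alpha_outer [Finite G] {ν₀ : Lam K} (hν₀ : ν₀ ≠ ε) {y : G}
    (hy : ∀ x : K, x ≠ 1 → ¬ IsConj (x : G) y) :
    ∑ χ : IrrCharacter G, (χ : G → ℂ) t * (χ : G → ℂ) t * conj ((χ : G → ℂ) y) / (χ : G → ℂ) 1 =
      1 + ((-σ : ℂ) * conj ((X : G → ℂ) y)) / ((-σ * dg X : ℤ) : ℂ) +
        (2 * (Nat.card K : ℂ) - 2) * (1 + (-σ : ℂ) * conj ((X : G → ℂ) y)) /
          (1 + ((-σ * dg X : ℤ) : ℂ)) := by
  set W : ℂ := (-σ : ℂ) * conj ((X : G → ℂ) y) with hW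
  set d : ℤ := -σ * dg X with hd
  set u : ℂ := (1 + W) / (1 + (d : ℂ)) with hu
  have hd0 : (d : ℂ) ≠ 0 := by exact_mod_cast d_ne_zero hF S
  have hd1 : (1 : ℂ) + d ≠ 0 := by
    have : 1 + d ≠ 0 := by
      rw [hd, ← sum_rel_ne hF S hν₀]
      exact mul_ne_zero (f_ne_zero_of_sq hF S (hF.hzσ ν₀ hν₀)) (dg_pos _).ne'
    exact_mod_cast this
  let Φ : IrrCharacter G → ℂ := fun χ =>
    (χ : G → ℂ) t * (χ : G → ℂ) t * conj ((χ : G → ℂ) y) / (χ : G → ℂ) 1
  let g : IrrCharacter G → ℂ := fun χ => Φ χ - (χ : G → ℂ) t * (χ : G → ℂ) t * u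
  have hg0 : ∀ χ, χ ≠ one G → χ ≠ X → χ ≠ y₁ → χ ≠ y₂ → g χ = 0 := by
    intro χ h0 h1 h2 h3
    by_cases ht : T h χ = 0
    · have h4 : (χ : G → ℂ) t = 0 := by
        rw [char_t_eq h χ]
        change ((T h χ : ℤ) : ℂ) = 0
        rw [ht]
        simp
      simp [g, Φ, h4]
    · obtain ⟨μ, -, hμ⟩ : ∃ μ ∈ (Finset.univ : Finset (Lam K)), f χ μ * tau t μ.1 h.htK ≠ 0 :=
        Finset.exists_ne_zero_of_sum_ne_zero ht
      have hfμ : f χ μ ≠ 0 := left_ne_zero_of_mul hμ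
      have hμε : μ ≠ ε := by
        rintro rfl
        exact hfμ (hF.hys χ h0 h1 h2 h3)
      have hχz : χ = z μ := by
        by_contra hne
        exact hfμ (hF.hzs μ hμε χ h0 h1 hne)
      have r1 := rel_ne hF S hμε hy
      have r2 := sum_rel_ne hF S hμε
      rw [← hχz] at r1 r2
      have hfne : (f χ μ : ℂ) ≠ 0 := by exact_mod_cast hfμ
      have r3 : (f χ μ : ℂ) * (χ : G → ℂ) 1 = 1 + d := by
        rw [dg_spec]
        have : ((f χ μ * dg χ : ℤ) : ℂ) = ((1 + d : ℤ) : ℂ) := by rw [r2]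
        push_cast at this ⊢
        exact this
      have hχ1 : (χ : G → ℂ) 1 ≠ 0 := irr_one_ne_zero χ.2
      simp only [g, Φ, hu, ← hW] at r1 ⊢
      rw [← r1, ← r3]
      field_simp
      ring
  have hsum : ∑ χ, Φ χ = ∑ χ, g χ + (∑ χ : IrrCharacter G, (χ : G → ℂ) t * (χ : G → ℂ) t) * u := by
    rw [Finset.sum_mul, ← Finset.sum_add_distrib]
    refine Finset.sum_congr rfl fun χ _ => ?_
    simp [g]
  have hsq : ∑ χ : IrrCharacter G, (χ : G → ℂ) t * (χ : G → ℂ) t = 2 * (Nat.card K : ℂ) := by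
    have h1 := sum_irr_mul_conj (G := G) t t
    rw [if_pos (IsConj.refl _), card_centralizer_t h] at h1
    simp only [char_t_sq hF S] at h1
    rw [h1]
    push_cast
    ring
  have hg4 : ∑ χ, g χ = g (one G) + g X + g y₁ + g y₂ :=
    sum4 (Ne.symm hF.hX) (Ne.symm hF.hy10) (Ne.symm hF.hy20) (Ne.symm hF.hy1X) (Ne.symm hF.hy2X)
      hF.hy _ hg0
  have hsq1 : ∀ χ : IrrCharacter G, T h χ ^ 2 = 1 → (χ : G → ℂ) t * (χ : G → ℂ) t = 1 := by
    intro χ hχ
    rw [char_t_eq h χ]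
    have : ((T h χ ^ 2 : ℤ) : ℂ) = 1 := by rw [hχ]; simp
    push_cast at this
    change ((T h χ : ℤ) : ℂ) * ((T h χ : ℤ) : ℂ) = 1
    rw [← sq]
    exact this
  have hσne : (σ : ℂ) ≠ 0 := by exact_mod_cast f_ne_zero_of_sq hF S hF.hσ
  have g1 : g (one G) = 1 - u := by
    simp [g, Φ, one_apply]
  have g2 : g X = W / d - u := by
    simp only [g, Φ]
    rw [hsq1 X (T_X_sq hF S), dg_spec, hW, hd]
    have hdgX : (dg X : ℂ) ≠ 0 := by exact_mod_cast (dg_pos X).ne'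
    push_cast
    field_simp
  -- the two characters at `ε`
  have hy12 := y_eq hF S hν₀
  have hy3 := sum_rel_eps hF S
  rw [← hd] at hy3
  have hy1 : 2 * ((f y₁ ε * dg y₁ : ℤ) : ℂ) = 1 + d := by
    have : 2 * (f y₁ ε * dg y₁) = 1 + d := by linarith
    exact_mod_cast this
  have hy2 : 2 * ((f y₂ ε * dg y₂ : ℤ) : ℂ) = 1 + d := by
    have : 2 * (f y₂ ε * dg y₂) = 1 + d := by linarith
    exact_mod_cast this
  have hfy1 : (f y₁ ε : ℂ) ≠ 0 := by exact_mod_cast f_ne_zero_of_sq hF S hF.hy1σ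
  have hfy2 : (f y₂ ε : ℂ) ≠ 0 := by exact_mod_cast f_ne_zero_of_sq hF S hF.hy2σ
  have hdy1 : (dg y₁ : ℂ) ≠ 0 := by exact_mod_cast (dg_pos y₁).ne'
  have hdy2 : (dg y₂ : ℂ) ≠ 0 := by exact_mod_cast (dg_pos y₂).ne'
  have g3 : Φ y₁ = (f y₁ ε : ℂ) * conj ((y₁ : G → ℂ) y) * (2 / (1 + d)) := by
    simp only [Φ]
    rw [hsq1 y₁ (T_y₁_sq hF S), dg_spec, ← hy1]
    push_cast
    field_simp
  have g4 : Φ y₂ = (f y₂ ε : ℂ) * conj ((y₂ : G → ℂ) y) * (2 / (1 + d)) := by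
    simp only [Φ]
    rw [hsq1 y₂ (T_y₂_sq hF S), dg_spec, ← hy2]
    push_cast
    field_simp
  have hrel := rel_eps hF S hy
  rw [← hW] at hrel
  have g5 : g y₁ + g y₂ = 2 * u - 2 * u := by
    simp only [g]
    rw [hsq1 y₁ (T_y₁_sq hF S), hsq1 y₂ (T_y₂_sq hF S), g3, g4]
    have : (f y₁ ε : ℂ) * conj ((y₁ : G → ℂ) y) * (2 / (1 + d)) +
        (f y₂ ε : ℂ) * conj ((y₂ : G → ℂ) y) * (2 / (1 + d)) = 2 * u := by
      rw [← add_mul, hrel, hu]
      ring
    linear_combination this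
  change ∑ χ, Φ χ = _
  rw [hsum, hsq, hg4, g1, g2]
  have e : (2 * (Nat.card K : ℂ) - 2) * (1 + W) / (1 + (d : ℂ)) = (2 * (Nat.card K : ℂ) - 2) * u := by
    rw [hu]
    ring
  rw [e, add_assoc (1 - u + (W / d - u)), g5]
  ring

omit hF S in
lemma not_conj_of_outer {y : G} (hy : Outer K y) : ∀ x : K, x ≠ 1 → ¬ IsConj (x : G) y := by
  intro x hx hc
  obtain ⟨c, hc⟩ := isConj_iff.mp hc
  apply hy.2 c⁻¹
  rw [← hc]
  have : c⁻¹ * (c * (x : G) * c⁻¹) * c⁻¹⁻¹ = x := by group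
  rw [this]
  exact x.2

omit hF S in
lemma alg1 (k W : ℂ) (hk : k ≠ 0) (h1 : 1 + 2 * k ≠ 0) (h2 : 1 + k ≠ 0) :
    ((1 + 2 * k) * (1 + k)) * ((1 + 2 * k) * (1 + k)) / (((1 + 2 * k) * (1 + k)) * (2 * k)) *
      (1 + W / (1 + 2 * k) + (2 * k - 2) * (1 + W) / (1 + (1 + 2 * k))) = (1 + 2 * k) + k * W := by
  have h3 : 1 + (1 + 2 * k) = 2 * (1 + k) := by ring
  rw [h3]
  field_simp
  ring

omit hF S in
lemma alg2 (k W : ℂ) (hk : k ≠ 0) (h1 : 1 - 2 * k ≠ 0) (h2 : 1 - k ≠ 0) :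
    ((1 - 2 * k) * (1 - k)) * ((1 - 2 * k) * (1 - k)) / (((1 - 2 * k) * (1 - k)) * (2 * k)) *
      (1 + W / (1 - 2 * k) + (2 * k - 2) * (1 + W) / (1 + (1 - 2 * k))) = -(k - 1) * W := by
  have h3 : 1 + (1 - 2 * k) = 2 * (1 - k) := by ring
  have h4 : 2 * k - 2 = -2 * (1 - k) := by ring
  rw [h3, h4]
  field_simp
  ring

/-- The count of pairs in the two cases. -/
lemma pairs_value [Finite G] {ν₀ : Lam K} (hν₀ : ν₀ ≠ ε) {y : G}
    (hy : ∀ x : K, x ≠ 1 → ¬ IsConj (x : G) y) (hk : 4 ≤ Nat.card K) :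
    (-σ * dg X = 1 + 2 * (Nat.card K : ℤ) → (Nat.card (PairsWithProduct y) : ℂ) =
      (1 + 2 * (Nat.card K : ℂ)) + (Nat.card K : ℂ) * ((-σ : ℂ) * conj ((X : G → ℂ) y))) ∧
    (-σ * dg X = 1 - 2 * (Nat.card K : ℤ) → (Nat.card (PairsWithProduct y) : ℂ) =
      -((Nat.card K : ℂ) - 1) * ((-σ : ℂ) * conj ((X : G → ℂ) y))) := by
  have h1 := card_pairs_eq h y
  rw [sum_alpha_outer hF S hν₀ hy] at h1
  obtain ⟨-, h2⟩ := d_values hF S hν₀
  have hG := card_G_eq h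
  have hkc : (Nat.card K : ℂ) ≠ 0 := card_K_ne_zero
  have hkR : (4 : ℝ) ≤ (Nat.card K : ℝ) := by exact_mod_cast hk
  rw [hG] at h1
  push_cast at h1
  set W : ℂ := (-σ : ℂ) * conj ((X : G → ℂ) y) with hW
  generalize hNN : (Nat.card {u : G // IsConj t u}) = N at *
  have hd' : ((-σ * dg X : ℤ) : ℂ) = -σ * dg X := by push_cast; ring
  have h2c : 2 * (N : ℂ) = ((-σ * dg X : ℤ) : ℂ) * (((-σ * dg X : ℤ) : ℂ) + 1) := by
    exact_mod_cast h2
  constructor
  · intro hd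
    have e1 : (-σ : ℂ) * dg X = 1 + 2 * (Nat.card K : ℂ) := by exact_mod_cast hd
    rw [hd'] at h2c
    rw [e1] at h2c
    have e2 : (N : ℂ) = (1 + 2 * (Nat.card K : ℂ)) * (1 + (Nat.card K : ℂ)) := by
      linear_combination (1 / 2 : ℂ) * h2c
    rw [e1, e2] at h1
    rw [h1]
    have hne1 : 1 + 2 * (Nat.card K : ℂ) ≠ 0 := by
      exact_mod_cast (by positivity : (1 + 2 * (Nat.card K) : ℕ) ≠ 0)
    have hne2 : 1 + (Nat.card K : ℂ) ≠ 0 := by
      exact_mod_cast (by positivity : (1 + (Nat.card K) : ℕ) ≠ 0)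
    exact alg1 _ W hkc hne1 hne2
  · intro hd
    have e1 : (-σ : ℂ) * dg X = 1 - 2 * (Nat.card K : ℂ) := by exact_mod_cast hd
    rw [hd'] at h2c
    rw [e1] at h2c
    have e2 : (N : ℂ) = (1 - 2 * (Nat.card K : ℂ)) * (1 - (Nat.card K : ℂ)) := by
      linear_combination (1 / 2 : ℂ) * h2c
    rw [e1, e2] at h1
    rw [h1]
    have hne1 : 1 - 2 * (Nat.card K : ℂ) ≠ 0 := by
      intro h0
      have h3 : (1 : ℝ) - 2 * (Nat.card K : ℝ) = 0 := by exact_mod_cast h0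
      linarith
    have hne2 : 1 - (Nat.card K : ℂ) ≠ 0 := by
      intro h0
      have h3 : (1 : ℝ) - (Nat.card K : ℝ) = 0 := by exact_mod_cast h0
      linarith
    exact alg2 _ W hkc hne1 hne2

lemma W_int [Finite G] {ν₀ : Lam K} (hν₀ : ν₀ ≠ ε) {y : G}
    (hy : ∀ x : K, x ≠ 1 → ¬ IsConj (x : G) y) (hk : 4 ≤ Nat.card K) :
    ∃ z : ℤ, (-σ : ℂ) * conj ((X : G → ℂ) y) = z := by
  obtain ⟨h1, h2⟩ := pairs_value hF S hν₀ hy hk
  have hint : IsIntegral ℤ ((-σ : ℂ) * conj ((X : G → ℂ) y)) := by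
    have h3 : IsIntegral ℤ ((X : G → ℂ) y) := Cfsg.Agent.Lib.Char.RealOdd.isIntegral_irr X.2 y
    have h4 : IsIntegral ℤ (conj ((X : G → ℂ) y)) := Cfsg.Agent.Lib.V4TI.Core.isIntegral_conj h3
    rcases sigma_cases hF S with e | e <;> rw [e]
    · simpa using h4.neg
    · simpa using h4
  have hkc : (Nat.card K : ℂ) ≠ 0 := card_K_ne_zero
  have hkR : (4 : ℝ) ≤ (Nat.card K : ℝ) := by exact_mod_cast hk
  have hk1 : (Nat.card K : ℂ) - 1 ≠ 0 := by
    intro h0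
    have h3 : (Nat.card K : ℝ) - 1 = 0 := by exact_mod_cast h0
    linarith
  set W : ℂ := (-σ : ℂ) * conj ((X : G → ℂ) y) with hW
  rcases (d_values hF S hν₀).1 with hd | hd
  · have e := h1 hd
    let q : ℚ := ((Nat.card (PairsWithProduct y) : ℚ) - 1 - 2 * (Nat.card K : ℚ)) / (Nat.card K : ℚ)
    have hq : (q : ℂ) = W := by
      simp only [q]
      push_cast
      rw [e]
      field_simp
      ring
    rw [← hq] at hint ⊢
    obtain ⟨z, hz⟩ := Cfsg.Agent.Lib.V4TI.Core.int_of_integral_rat hint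
    exact ⟨z, by rw [hz]; simp⟩
  · have e := h2 hd
    let q : ℚ := -(Nat.card (PairsWithProduct y) : ℚ) / ((Nat.card K : ℚ) - 1)
    have hq : (q : ℂ) = W := by
      simp only [q]
      push_cast
      rw [e]
      field_simp
    rw [← hq] at hint ⊢
    obtain ⟨z, hz⟩ := Cfsg.Agent.Lib.V4TI.Core.int_of_integral_rat hint
    exact ⟨z, by rw [hz]; simp⟩

/-- The integer values of the exceptional character `X`. -/
noncomputable def wf (σ : ℤ) (X : IrrCharacter G) (g : G) : ℤ :=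
  ⌊((-σ : ℂ) * conj ((X : G → ℂ) g)).re⌋

omit hF S in
lemma wf_spec {g : G} {z : ℤ} (hz : (-σ : ℂ) * conj ((X : G → ℂ) g) = z) : wf σ X g = z := by
  rw [wf, hz]
  simp

omit hF S in
lemma wf_conj (g c : G) : wf σ X (c * g * c⁻¹) = wf σ X g := by
  rw [wf, wf, isClassFunction_of_isIrrCharacter X.2]

lemma X_one_outer [Finite G] {ν₀ : Lam K} (hν₀ : ν₀ ≠ ε) {y : G}
    (hy : Outer K y) (hk : 4 ≤ Nat.card K) :
    (-σ : ℂ) * conj ((X : G → ℂ) y) = wf σ X y ∧ (-σ : ℂ) * (X : G → ℂ) y = wf σ X y := by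
  obtain ⟨z, hz⟩ := W_int hF S hν₀ (not_conj_of_outer hy) hk
  have h1 := wf_spec hz
  rw [h1]
  refine ⟨hz, ?_⟩
  have := congrArg conj hz
  simp only [map_mul, map_neg, map_intCast, Complex.conj_conj] at this
  exact this

lemma wf_inv [Finite G] {ν₀ : Lam K} (hν₀ : ν₀ ≠ ε) {y : G}
    (hy : Outer K y) (hk : 4 ≤ Nat.card K) : wf σ X y⁻¹ = wf σ X y := by
  obtain ⟨-, h2⟩ := X_one_outer hF S hν₀ hy hk
  apply wf_spec
  rw [map_inv' X y, Complex.conj_conj, h2]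

lemma X_big [Finite G] {g : G} (hg : Big K g) : (-σ : ℂ) * (X : G → ℂ) g = 1 := by
  obtain ⟨hg1, c, hc⟩ := hg
  have hne : (⟨c * g * c⁻¹, hc⟩ : K) ≠ 1 := by
    intro h0
    have h2 : c * g * c⁻¹ = 1 := congrArg Subtype.val h0
    apply hg1
    have := congrArg (fun z => c⁻¹ * z * c) h2
    simpa [mul_assoc] using this
  have h1 := X_on_K_aux hF S hne
  rw [show ((⟨c * g * c⁻¹, hc⟩ : K) : G) = c * g * c⁻¹ from rfl,
    isClassFunction_of_isIrrCharacter X.2] at h1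
  rw [h1]
  have : ((σ ^ 2 : ℤ) : ℂ) = 1 := by rw [hF.hσ]; simp
  push_cast at this
  linear_combination this

omit hF S in
lemma sum_partition [Finite G] (φ : G → ℂ) :
    ∑ g, φ g = φ 1 + ∑ g ∈ Finset.univ.filter (Big K), φ g +
      ∑ g ∈ Finset.univ.filter (Outer K), φ g := by
  rw [← Finset.sum_filter_add_sum_filter_not Finset.univ (fun g => g = (1 : G))]
  have h1 : Finset.univ.filter (fun g => g = (1 : G)) = {1} := by
    ext g; simp
  rw [h1, Finset.sum_singleton, add_assoc]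
  congr 1
  have h2 : Finset.univ.filter (fun g : G => ¬ g = 1) =
      Finset.univ.filter (Big K) ∪ Finset.univ.filter (Outer K) := by
    ext g
    simp only [Finset.mem_filter, Finset.mem_univ, true_and, Finset.mem_union]
    constructor
    · intro hg
      rcases trichotomy K g with h3 | h3 | h3
      · exact absurd h3 hg
      · exact Or.inl h3
      · exact Or.inr h3
    · rintro (h3 | h3)
      · exact h3.1
      · exact h3.1
  rw [h2, Finset.sum_union]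
  rw [Finset.disjoint_filter]
  intro g _ h3 h4
  exact not_big_outer h3 h4

lemma X_ne_one : (X : G → ℂ) ≠ (one G : G → ℂ) := fun h0 => hF.hX (Subtype.ext h0)

/-- The moment relations. -/
lemma moments [Finite G] {ν₀ : Lam K} (hν₀ : ν₀ ≠ ε) (hk : 4 ≤ Nat.card K) :
    (-σ * dg X) + (Nat.card {g : G // Big K g} : ℤ) +
        ∑ g ∈ Finset.univ.filter (Outer K), wf σ X g = 0 ∧
    (-σ * dg X) ^ 2 + (Nat.card {g : G // Big K g} : ℤ) +
        ∑ g ∈ Finset.univ.filter (Outer K), wf σ X g ^ 2 = Nat.card G := by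
  have hG : (Nat.card G : ℂ) ≠ 0 := card_ne_zero_complex
  have hs : ((σ ^ 2 : ℤ) : ℂ) = 1 := by rw [hF.hσ]; simp
  push_cast at hs
  have hcard : Nat.card {g : G // Big K g} = (Finset.univ.filter (Big K)).card := by
    rw [Nat.card_eq_fintype_card, Fintype.card_subtype]
  constructor
  · have h1 : classInner (X : G → ℂ) (one G : G → ℂ) = 0 :=
      classInner_eq_zero_of_isIrr_of_ne X.2 (one G).2 (X_ne_one hF S)
    rw [classInner_def] at h1
    simp only [one_apply, map_one, mul_one] at h1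
    have h2 : ∑ g, (X : G → ℂ) g = 0 := by
      rcases mul_eq_zero.mp h1 with h3 | h3
      · exact absurd h3 (inv_ne_zero hG)
      · exact h3
    have h3 : ∑ g, (-σ : ℂ) * (X : G → ℂ) g = 0 := by
      rw [← Finset.mul_sum, h2, mul_zero]
    rw [sum_partition (K := K)] at h3
    have e1 : ∑ g ∈ Finset.univ.filter (Big K), (-σ : ℂ) * (X : G → ℂ) g =
        (Nat.card {g : G // Big K g} : ℂ) := by
      rw [Finset.sum_congr rfl (fun g hg => X_big hF S (Finset.mem_filter.mp hg).2), hcard]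
      simp
    have e2 : ∑ g ∈ Finset.univ.filter (Outer K), (-σ : ℂ) * (X : G → ℂ) g =
        ∑ g ∈ Finset.univ.filter (Outer K), (wf σ X g : ℂ) :=
      Finset.sum_congr rfl (fun g hg => (X_one_outer hF S hν₀ (Finset.mem_filter.mp hg).2 hk).2)
    rw [e1, e2, dg_spec] at h3
    have h4 : (((-σ * dg X) + (Nat.card {g : G // Big K g} : ℤ) +
        ∑ g ∈ Finset.univ.filter (Outer K), wf σ X g : ℤ) : ℂ) = 0 := by
      push_cast
      exact h3
    exact_mod_cast h4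
  · have h1 := classInner_self_of_isIrr X.2
    rw [classInner_def] at h1
    have h2 : ∑ g, (X : G → ℂ) g * conj ((X : G → ℂ) g) = (Nat.card G : ℂ) := by
      field_simp at h1
      exact h1
    have h3 : ∑ g, ((-σ : ℂ) * (X : G → ℂ) g) * ((-σ : ℂ) * conj ((X : G → ℂ) g)) =
        (Nat.card G : ℂ) := by
      rw [← h2]
      refine Finset.sum_congr rfl fun g _ => ?_
      linear_combination (((X : G → ℂ) g * conj ((X : G → ℂ) g))) * hs
    rw [sum_partition (K := K)] at h3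
    have e1 : ∑ g ∈ Finset.univ.filter (Big K), ((-σ : ℂ) * (X : G → ℂ) g) *
        ((-σ : ℂ) * conj ((X : G → ℂ) g)) = (Nat.card {g : G // Big K g} : ℂ) := by
      have : ∀ g ∈ Finset.univ.filter (Big K), ((-σ : ℂ) * (X : G → ℂ) g) *
          ((-σ : ℂ) * conj ((X : G → ℂ) g)) = 1 := by
        intro g hg
        have h5 := X_big hF S (Finset.mem_filter.mp hg).2
        have h6 := congrArg conj h5
        simp only [map_mul, map_neg, map_intCast, map_one] at h6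
        rw [h5, h6, mul_one]
      rw [Finset.sum_congr rfl this, hcard]
      simp
    have e2 : ∑ g ∈ Finset.univ.filter (Outer K), ((-σ : ℂ) * (X : G → ℂ) g) *
        ((-σ : ℂ) * conj ((X : G → ℂ) g)) =
        ∑ g ∈ Finset.univ.filter (Outer K), (wf σ X g : ℂ) ^ 2 := by
      refine Finset.sum_congr rfl fun g hg => ?_
      obtain ⟨h5, h6⟩ := X_one_outer hF S hν₀ (Finset.mem_filter.mp hg).2 hk
      rw [h5, h6, sq]
    rw [e1, e2] at h3
    simp only [dg_spec, map_intCast] at h3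
    have h4 : (((-σ * dg X) ^ 2 + (Nat.card {g : G // Big K g} : ℤ) +
        ∑ g ∈ Finset.univ.filter (Outer K), wf σ X g ^ 2 : ℤ) : ℂ) = ((Nat.card G : ℤ) : ℂ) := by
      push_cast
      rw [← h3]
      ring
    exact_mod_cast h4


/-- The values of `w`. -/
lemma wf_values [Finite G] {ν₀ : Lam K} (hν₀ : ν₀ ≠ ε) (hk : 4 ≤ Nat.card K) :
    (∀ y, Outer K y → wf σ X y = 0 ∨ wf σ X y = -1) ∧
      ((Nat.card {y : G // Outer K y ∧ wf σ X y = 0} : ℤ) = (-σ * dg X) ^ 2 - 1) := by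
  obtain ⟨m1, m2⟩ := moments hF S hν₀ hk
  obtain ⟨-, h2N⟩ := d_values hF S hν₀
  have hG := card_G_eq h
  have hb := card_big h
  set d := -σ * dg X with hd
  set N := Nat.card {u : G // IsConj t u} with hN
  set b := Nat.card {g : G // Big K g} with hbb
  set k := Nat.card K with hk'
  have hbN : (b : ℤ) = N * (k - 1) := by
    have h1 : b * (2 * k) = N * (2 * k) * (k - 1) := by rw [hb, hG]
    have h2 : b = N * (k - 1) := by
      have hk0 : 2 * k ≠ 0 := by omega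
      apply Nat.eq_of_mul_eq_mul_right (Nat.pos_of_ne_zero hk0)
      rw [h1]
      ring
    rw [h2]
    push_cast [Nat.cast_sub (show 1 ≤ k by omega)]
    ring
  have hGz : (Nat.card G : ℤ) = N * (2 * k) := by rw [hG]; push_cast; ring
  have hsum : ∑ g ∈ Finset.univ.filter (Outer K), (wf σ X g ^ 2 + wf σ X g) = 0 := by
    rw [Finset.sum_add_distrib]
    have : (∑ g ∈ Finset.univ.filter (Outer K), wf σ X g ^ 2) +
        ∑ g ∈ Finset.univ.filter (Outer K), wf σ X g =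
        (Nat.card G : ℤ) - d ^ 2 - d - 2 * b := by linarith
    rw [this, hGz, hbN]
    linear_combination h2N
  have hnn : ∀ g ∈ Finset.univ.filter (Outer K), 0 ≤ wf σ X g ^ 2 + wf σ X g := by
    intro g _
    have : wf σ X g ≤ -1 ∨ 0 ≤ wf σ X g := by omega
    rcases this with h1 | h1 <;> nlinarith
  have hzero := (Finset.sum_eq_zero_iff_of_nonneg hnn).mp hsum
  have hval : ∀ y, Outer K y → wf σ X y = 0 ∨ wf σ X y = -1 := by
    intro y hy
    have h1 := hzero y (Finset.mem_filter.mpr ⟨Finset.mem_univ _, hy⟩)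
    have h2 : wf σ X y * (wf σ X y + 1) = 0 := by linear_combination h1
    rcases mul_eq_zero.mp h2 with h3 | h3
    · exact Or.inl h3
    · right; omega
  refine ⟨hval, ?_⟩
  -- counting
  have hY1 : ∑ g ∈ Finset.univ.filter (Outer K), wf σ X g =
      -(((Finset.univ.filter (Outer K)).filter (fun g => ¬ wf σ X g = 0)).card : ℤ) := by
    rw [← Finset.sum_filter_add_sum_filter_not (Finset.univ.filter (Outer K))
      (fun g => wf σ X g = 0)]
    rw [Finset.sum_eq_zero (fun g hg => (Finset.mem_filter.mp hg).2), zero_add,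
      Finset.sum_congr rfl (g := fun _ => (-1 : ℤ))]
    · simp
    · intro g hg
      obtain ⟨h1, h2⟩ := Finset.mem_filter.mp hg
      rcases hval g (Finset.mem_filter.mp h1).2 with h3 | h3
      · exact absurd h3 h2
      · exact h3
  have hY0 : Nat.card {y : G // Outer K y ∧ wf σ X y = 0} =
      ((Finset.univ.filter (Outer K)).filter (fun g => wf σ X g = 0)).card := by
    rw [Nat.card_eq_fintype_card, Fintype.card_subtype, Finset.filter_filter]
  have hO := Finset.card_filter_add_card_filter_not (s := Finset.univ.filter (Outer K))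
    (fun g => wf σ X g = 0)
  have htotal : (Nat.card G : ℤ) = 1 + b + ((Finset.univ.filter (Outer K)).card : ℤ) := by
    have h1 := sum_partition (K := K) (fun _ : G => (1 : ℂ))
    simp only [Finset.sum_const, Finset.card_univ, nsmul_eq_mul, mul_one] at h1
    have hcard : b = (Finset.univ.filter (Big K)).card := by
      rw [hbb, Nat.card_eq_fintype_card, Fintype.card_subtype]
    rw [← hcard] at h1
    rw [Nat.card_eq_fintype_card]
    exact_mod_cast h1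
  rw [hY0]
  have e1 : (((Finset.univ.filter (Outer K)).filter (fun g => ¬ wf σ X g = 0)).card : ℤ) = d + b := by
    rw [hY1] at m1
    linarith
  have e2 : (((Finset.univ.filter (Outer K)).filter (fun g => wf σ X g = 0)).card : ℤ) =
      ((Finset.univ.filter (Outer K)).card : ℤ) - (d + b) := by
    rw [← e1, ← hO]
    push_cast
    ring
  rw [e2]
  have e3 : ((Finset.univ.filter (Outer K)).card : ℤ) = N * (2 * k) - 1 - b := by
    rw [← hGz, htotal]; ring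
  rw [e3, hbN]
  linear_combination h2N

end

/-- The character-theoretic output of the abstract Brauer–Suzuki–Wall analysis. -/
theorem char_main [Finite G] (h : Hyp t s K) (hk : 4 ≤ Nat.card K) :
    ∃ (d : ℤ) (w : G → ℤ),
      (d = 1 + 2 * (Nat.card K : ℤ) ∨ d = 1 - 2 * (Nat.card K : ℤ)) ∧
      2 * (Nat.card {u : G // IsConj t u} : ℤ) = d * (d + 1) ∧
      (∀ g c, w (c * g * c⁻¹) = w g) ∧
      (∀ y, Outer K y → w y⁻¹ = w y) ∧
      (∀ y, Outer K y → w y = 0 ∨ w y = -1) ∧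
      (∀ y, Outer K y → (d = 1 + 2 * (Nat.card K : ℤ) →
        (Nat.card (PairsWithProduct y) : ℤ) = d + (Nat.card K : ℤ) * w y) ∧
        (d = 1 - 2 * (Nat.card K : ℤ) →
        (Nat.card (PairsWithProduct y) : ℤ) = -((Nat.card K : ℤ) - 1) * w y)) ∧
      (Nat.card {y : G // Outer K y ∧ w y = 0} : ℤ) = d ^ 2 - 1 := by
  obtain ⟨ε, X, σ, z, y₁, y₂, hε, ⟨ν₀, hν₀⟩, hF, S⟩ := Family.exists_family h hk
  obtain ⟨hd, h2N⟩ := d_values hF S hν₀
  obtain ⟨hv, hc⟩ := wf_values hF S hν₀ hk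
  refine ⟨-σ * dg X, wf σ X, hd, h2N, fun g c => wf_conj g c, fun y hy => wf_inv hF S hν₀ hy hk, hv,
    fun y hy => ⟨fun e => ?_, fun e => ?_⟩, hc⟩
  · obtain ⟨h1, -⟩ := pairs_value hF S hν₀ (not_conj_of_outer hy) hk
    have h3 := h1 e
    rw [(X_one_outer hF S hν₀ hy hk).1] at h3
    have h4 : ((Nat.card (PairsWithProduct y) : ℤ) : ℂ) =
        ((-σ * dg X + (Nat.card K : ℤ) * wf σ X y : ℤ) : ℂ) := by
      rw [e]
      push_cast
      exact h3
    exact_mod_cast h4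
  · obtain ⟨-, h1⟩ := pairs_value hF S hν₀ (not_conj_of_outer hy) hk
    have h3 := h1 e
    rw [(X_one_outer hF S hν₀ hy hk).1] at h3
    have h4 : ((Nat.card (PairsWithProduct y) : ℤ) : ℂ) =
        ((-((Nat.card K : ℤ) - 1) * wf σ X y : ℤ) : ℂ) := by
      push_cast
      exact h3
    exact_mod_cast h4

end Cfsg.Agent.Lib.BSW.Numbers
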