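import Cfsg.Agent.Lib.BSW.Data
import Cfsg.Agent.S0731

/-!
# Abstract Brauer–Suzuki–Wall: recognition of `PSL₂(q)` for simple groups with the `BSW` structure
-/

set_option autoImplicit false
set_option linter.unusedSectionVars false
set_option linter.unusedVariables false

namespace Cfsg.Agent.Lib.BSW.Recog

open Subgroup hiding mem_centralizer_singleton_iff
open Cfsg Cfsg.Agent.Lib.BSW.Setup Cfsg.Agent.Lib.BSW.Group Cfsg.Agent.Lib.BSW.Data

variable {G : Type*} [Group G] [Finite G]

lemma mem_sup_decomp {Q D : Subgroup G} (hDN : D ≤ normalizer (Q : Set G)) {g : G}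
    (hg : g ∈ Q ⊔ D) : ∃ a ∈ Q, ∃ d ∈ D, g = a * d := by
  have hconj : ∀ d ∈ D, ∀ a ∈ Q, d * a * d⁻¹ ∈ Q := fun d hd a ha =>
    (mem_normalizer_iff.mp (hDN hd) a).mp ha
  let T : Subgroup G :=
    { carrier := {g | ∃ a ∈ Q, ∃ d ∈ D, g = a * d}
      mul_mem' := by
        rintro _ _ ⟨a, ha, d, hd, rfl⟩ ⟨b, hb, e, he, rfl⟩
        refine ⟨a * (d * b * d⁻¹), Q.mul_mem ha (hconj d hd b hb), d * e, D.mul_mem hd he, ?_⟩
        group
      one_mem' := ⟨1, Q.one_mem, 1, D.one_mem, by simp⟩
      inv_mem' := by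
        rintro _ ⟨a, ha, d, hd, rfl⟩
        refine ⟨d⁻¹ * a⁻¹ * d⁻¹⁻¹, hconj _ (D.inv_mem hd) _ (Q.inv_mem ha), d⁻¹, D.inv_mem hd, ?_⟩
        group }
  have hle : Q ⊔ D ≤ T := sup_le (fun a ha => ⟨a, ha, 1, D.one_mem, by simp⟩)
    (fun d hd => ⟨1, Q.one_mem, d, hd, by simp⟩)
  exact hle hg

lemma pow_decomp {Q D : Subgroup G} (hDN : D ≤ normalizer (Q : Set G)) {a d : G} (ha : a ∈ Q)
    (hd : d ∈ D) (m : ℕ) : ∃ a' ∈ Q, (a * d) ^ m = a' * d ^ m := by
  induction m with
  | zero => exact ⟨1, Q.one_mem, by simp⟩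
  | succ m ih =>
    obtain ⟨a', ha', h1⟩ := ih
    refine ⟨a' * (d ^ m * a * (d ^ m)⁻¹), Q.mul_mem ha'
      ((mem_normalizer_iff.mp (hDN (D.pow_mem hd m)) a).mp ha), ?_⟩
    rw [pow_succ, h1, pow_succ]
    group

/-- Recognition. -/
theorem recog [IsSimpleGroup G] (hC : Concl G) :
    ∃ (F : Type) (_ : Field F) (_ : Fintype F), Odd (Fintype.card F) ∧
      Nonempty (G ≃* Matrix.ProjectiveSpecialLinearGroup (Fin 2) F) := by
  classical
  obtain ⟨Q, D, hG, hSC, hDab, hcard, hdisj, hN, hX⟩ := hC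
  replace hSC : SelfCent Q := hSC
  set d := Nat.card D with hd
  have hdpos : 0 < d := Nat.card_pos
  have hGc : Nat.card G = (2 * d + 1) * (2 * d + 2) * d := by
    rw [← hcard] at hG
    have e1 : 2 * d + 1 + 1 = 2 * d + 2 := rfl
    have e2 : 2 * d + 1 - 1 = 2 * d := by omega
    rw [e1, e2] at hG
    have : 2 * Nat.card G = 2 * ((2 * d + 1) * (2 * d + 2) * d) := by rw [hG]; ring
    omega
  have hDN : D ≤ normalizer (Q : Set G) := by rw [hN]; exact le_sup_right
  have hQN : Q ≤ normalizer (Q : Set G) := Subgroup.le_normalizer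
  have hQD : ∀ a ∈ Q, a ∈ D → a = 1 := by
    intro a ha had
    have h1 : a ∈ Q ⊓ D := ⟨ha, had⟩
    rw [hdisj, Subgroup.mem_bot] at h1
    exact h1
  set N := normalizer (Q : Set G) with hNd
  have hcN : Nat.card N = (2 * d + 1) * d := by
    let e : Q × D → N := fun x => ⟨x.1.1 * x.2.1, N.mul_mem (hQN x.1.2) (hDN x.2.2)⟩
    have hbij : Function.Bijective e := by
      constructor
      · rintro ⟨a, b⟩ ⟨a', b'⟩ hab
        have h1 : a.1 * b.1 = a'.1 * b'.1 := congrArg Subtype.val hab
        have h2 : a'.1⁻¹ * a.1 = b'.1 * b.1⁻¹ := by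
          calc a'.1⁻¹ * a.1 = a'.1⁻¹ * (a.1 * b.1) * b.1⁻¹ := by group
            _ = a'.1⁻¹ * (a'.1 * b'.1) * b.1⁻¹ := by rw [h1]
            _ = _ := by group
        have h3 : a'.1⁻¹ * a.1 = 1 := by
          apply hQD _ (Q.mul_mem (Q.inv_mem a'.2) a.2)
          rw [h2]
          exact D.mul_mem b'.2 (D.inv_mem b.2)
        have h4 : a.1 = a'.1 := by
          have := congrArg (fun z => a'.1 * z) h3
          simpa using this
        have h5 : b.1 = b'.1 := by
          rw [h4] at h1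
          exact mul_left_cancel h1
        exact Prod.ext (Subtype.ext h4) (Subtype.ext h5)
      · rintro ⟨g, hg⟩
        have hg' : g ∈ Q ⊔ D := by rw [← hN]; exact hg
        obtain ⟨a, ha, b, hb, rfl⟩ := mem_sup_decomp hDN hg'
        exact ⟨(⟨a, ha⟩, ⟨b, hb⟩), rfl⟩
    rw [← Nat.card_congr (Equiv.ofBijective e hbij), Nat.card_prod, ← hcard]
  have hidx : N.index = 2 * d + 2 := by
    have h1 := N.index_mul_card
    rw [hcN, hGc] at h1
    apply Nat.eq_of_mul_eq_mul_right (show 0 < (2 * d + 1) * d by positivity)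
    rw [h1]
    ring
  have hQ1 : Q ≠ ⊥ := by
    intro h0
    rw [h0, Subgroup.card_bot] at hcard
    omega
  have hNtop : N ≠ ⊤ := by
    intro h0
    rw [h0, Subgroup.index_top] at hidx
    omega
  -- the case `D = ⊥`: no simple group of order 12
  by_cases hD1 : D = ⊥
  · exfalso
    have hd1 : d = 1 := by rw [hd, hD1, Subgroup.card_bot]
    rw [hd1] at hGc hcard
    have hQc : Nat.card Q = 3 := hcard.symm
    haveI : Fact (Nat.Prime 3) := ⟨Nat.prime_three⟩
    have hQp : IsPGroup 3 Q := IsPGroup.of_card (n := 1) (by rw [hQc, pow_one])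
    have hQidx : Q.index = 4 := by
      have h1 := Q.index_mul_card
      rw [hQc, hGc] at h1
      omega
    let P : Sylow 3 G := hQp.toSylow (by rw [hQidx]; norm_num)
    have hnorm : normalizer ((P : Subgroup G) : Set G) ≤ centralizer ((P : Subgroup G) : Set G) := by
      intro g hg
      have h1 : g ∈ N := hg
      rw [hN, hD1, sup_bot_eq] at h1
      rw [Subgroup.mem_centralizer_iff]
      intro h hh
      exact (hSC.comm h1 hh).symm
    have hcomp := MonoidHom.ker_transferSylow_isComplement' P hnorm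
    have hker := (MonoidHom.transferSylow P hnorm).normal_ker
    have hc := hcomp.card_mul_card
    have hPc : Nat.card P = 3 := hQc
    rw [hPc, hGc] at hc
    rcases IsSimpleGroup.eq_bot_or_eq_top_of_normal _ hker with h1 | h1
    · rw [h1, Subgroup.card_bot] at hc
      omega
    · rw [h1, Subgroup.card_top, hGc] at hc
      omega
  obtain ⟨-, u, hu, huD, huinv, hNu⟩ := hX D le_rfl hD1
  have htwo : ∀ v : G, orderOf v = 2 → v * v = 1 := fun v hv => by
    have := pow_orderOf_eq_one v
    rwa [hv, sq] at this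
  have huu := htwo u hu
  have hui : u⁻¹ = u := inv_eq_of_mul_eq_one_left huu
  -- the action
  let Ω := G ⧸ N
  let x₀ : Ω := ((1 : G) : G ⧸ N)
  have hstab : ∀ g : G, g • x₀ = x₀ ↔ g ∈ N := by
    intro g
    change ((g * 1 : G) : G ⧸ N) = ((1 : G) : G ⧸ N) ↔ g ∈ N
    rw [QuotientGroup.eq]
    simp
  have hcΩ : Nat.card Ω = 2 * d + 2 := hidx
  have hQpow : ∀ a ∈ Q, a ^ (2 * d + 1) = 1 := by
    intro a ha
    have h1 := pow_card_eq_one' (x := (⟨a, ha⟩ : Q))
    rw [← hcard] at h1
    exact congrArg Subtype.val h1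
  have hcopr : ∀ b ∈ N, b ^ (2 * d + 1) = 1 → b ∈ Q := by
    intro b hb hb1
    have hb' : b ∈ Q ⊔ D := by rw [← hN]; exact hb
    obtain ⟨a, ha, e, he, rfl⟩ := mem_sup_decomp hDN hb'
    obtain ⟨a', ha', h1⟩ := pow_decomp hDN ha he (2 * d + 1)
    rw [hb1] at h1
    have h2 : e ^ (2 * d + 1) = a'⁻¹ := by
      have := eq_inv_of_mul_eq_one_right h1.symm
      exact this
    have h3 : e ^ (2 * d + 1) = 1 := hQD _ (h2 ▸ Q.inv_mem ha') (D.pow_mem he _)
    have h4 := orderOf_dvd_of_pow_eq_one h3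
    have h5 : orderOf e ∣ d := by
      have := orderOf_dvd_natCard (⟨e, he⟩ : D)
      rwa [Subgroup.orderOf_mk] at this
    have h6 : orderOf e ∣ 1 := by
      have h7 := Nat.dvd_sub h4 (Dvd.dvd.mul_left h5 2)
      have e1 : 2 * d + 1 - 2 * d = 1 := by omega
      rwa [e1] at h7
    have h8 : e = 1 := orderOf_eq_one_iff.mp (Nat.dvd_one.mp h6)
    rw [h8, mul_one]
    exact ha
  have hfree : ∀ a ∈ Q, ∀ ω : Ω, ω ≠ x₀ → a • ω = ω → a = 1 := by
    intro a ha ω hω haω
    induction ω using QuotientGroup.induction_on with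
    | H g =>
      have hgN : g ∉ N := by
        intro h0
        apply hω
        change ((g : G) : G ⧸ N) = ((1 : G) : G ⧸ N)
        rw [QuotientGroup.eq]
        simpa using h0
      have h1 : ((a * g : G) : G ⧸ N) = ((g : G) : G ⧸ N) := haω
      rw [QuotientGroup.eq] at h1
      have h2 : g⁻¹ * a * g ∈ N := by
        have := N.inv_mem h1
        have e : ((a * g)⁻¹ * g)⁻¹ = g⁻¹ * a * g := by group
        rwa [e] at this
      have h3 : (g⁻¹ * a * g) ^ (2 * d + 1) = 1 := by
        have e : g⁻¹ * a * g = (MulAut.conj g⁻¹) a := by simp [MulAut.conj_apply]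
        rw [e, ← map_pow, hQpow a ha, map_one]
      have h4 := hcopr _ h2 h3
      by_contra ha1
      have h5 : g⁻¹ ∈ N := hSC.mem_normalizer ha ha1 (by
        have e : g⁻¹ * a * g⁻¹⁻¹ = g⁻¹ * a * g := by group
        rwa [e])
      apply hgN
      have := N.inv_mem h5
      simpa using this
  have hQfix : ∀ a ∈ Q, a • x₀ = x₀ := fun a ha => (hstab a).mpr (hQN ha)
  -- regularity
  have hcX : Nat.card {ω : Ω // ω ≠ x₀} = Nat.card Q := by
    have h1 := Nat.card_congr (Equiv.optionSubtypeNe x₀)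
    rw [hcΩ, Finite.card_option] at h1
    rw [← hcard]
    omega
  have hreg : ∀ y z : Ω, y ≠ x₀ → z ≠ x₀ → ∃! v : Q, (v : G) • y = z := by
    intro y z hy hz
    let f : Q → {ω : Ω // ω ≠ x₀} := fun a => ⟨(a : G) • y, by
      intro h0
      apply hy
      have h1 := congrArg (fun w => ((a : G))⁻¹ • w) h0
      simp only [inv_smul_smul] at h1
      rw [h1]
      exact hQfix _ (Q.inv_mem a.2)⟩
    have hfinj : Function.Injective f := by
      intro a b hab
      have h1 : (a : G) • y = (b : G) • y := congrArg Subtype.val hab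
      have h2 : ((b : G)⁻¹ * a) • y = y := by
        rw [mul_smul, h1, inv_smul_smul]
      have h3 := hfree _ (Q.mul_mem (Q.inv_mem b.2) a.2) y hy h2
      apply Subtype.ext
      have := congrArg (fun w => (b : G) * w) h3
      simpa using this
    have hfbij : Function.Bijective f :=
      Function.Injective.bijective_of_nat_card_le hfinj (le_of_eq hcX)
    obtain ⟨v, hv⟩ := hfbij.2 ⟨z, hz⟩
    refine ⟨v, congrArg Subtype.val hv, ?_⟩
    intro w hw
    apply hfinj
    apply Subtype.ext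
    rw [show ((f w : {ω : Ω // ω ≠ x₀}) : Ω) = (w : G) • y from rfl, hw]
    exact (congrArg Subtype.val hv).symm
  have htrans : ∀ ω : Ω, ∃ g : G, g • ω = x₀ := by
    intro ω
    induction ω using QuotientGroup.induction_on with
    | H g =>
      refine ⟨g⁻¹, ?_⟩
      change ((g⁻¹ * g : G) : G ⧸ N) = ((1 : G) : G ⧸ N)
      simp
  have h2trans : MulAction.IsMultiplyPretransitive G Ω 2 := by
    rw [MulAction.is_two_pretransitive_iff]
    intro a b c e hab hce
    obtain ⟨g₁, hg₁⟩ := htrans a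
    obtain ⟨g₂, hg₂⟩ := htrans c
    have hb : g₁ • b ≠ x₀ := by
      intro h0
      apply hab
      exact (MulAction.injective g₁) (hg₁.trans h0.symm)
    have he : g₂ • e ≠ x₀ := by
      intro h0
      apply hce
      exact (MulAction.injective g₂) (hg₂.trans h0.symm)
    obtain ⟨v, hv, -⟩ := hreg _ _ hb he
    refine ⟨g₂⁻¹ * v * g₁, ?_, ?_⟩
    · rw [mul_smul, mul_smul, hg₁, hQfix _ v.2, ← hg₂, inv_smul_smul]
    · rw [mul_smul, mul_smul, hv, inv_smul_smul]
  -- the second point
  let x₁ : Ω := u • x₀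
  have huN : u ∉ N := by
    intro h0
    have h1 : u ∈ Q ⊔ D := by rw [← hN]; exact h0
    obtain ⟨a, ha, e, he, hue⟩ := mem_sup_decomp hDN h1
    -- `a` normalizes `D` and so centralizes it
    obtain ⟨x, hx, hx1⟩ : ∃ x ∈ D, x ≠ 1 := by
      by_contra hcon
      push Not at hcon
      exact hD1 ((Subgroup.eq_bot_iff_forall D).mpr hcon)
    have hcommD : ∀ b ∈ D, ∀ c ∈ D, b * c = c * b := fun b hb c hc =>
      congrArg Subtype.val (hDab.is_comm.comm ⟨b, hb⟩ ⟨c, hc⟩)
    have hu2 := huinv x hx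
    have hae : a = u * e⁻¹ := by rw [hue]; group
    have h2 : a * x * a⁻¹ = x⁻¹ := by
      rw [hae]
      calc u * e⁻¹ * x * (u * e⁻¹)⁻¹ = u * (e⁻¹ * x * e) * u⁻¹ := by group
        _ = u * x * u⁻¹ := by rw [hcommD e⁻¹ (D.inv_mem he) x hx]; group
        _ = x⁻¹ := hu2
    have h3 : a * x * a⁻¹ * x⁻¹ ∈ Q := by
      have h4 := (mem_normalizer_iff.mp (hDN hx) a⁻¹).mp (Q.inv_mem ha)
      have e1 : a * x * a⁻¹ * x⁻¹ = a * (x * a⁻¹ * x⁻¹) := by group
      rw [e1]
      exact Q.mul_mem ha h4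
    rw [h2] at h3
    have h5 := hQD _ h3 (D.mul_mem (D.inv_mem hx) (D.inv_mem hx))
    have h7 : x⁻¹ = x := by
      have h8 := congrArg (fun z => x * z) h5
      have h9 : x * (x⁻¹ * x⁻¹) = x⁻¹ := by group
      simp only [h9, mul_one] at h8
      exact h8
    have h6 : a * x = x * a := by
      have h8 : a * x * a⁻¹ = x := h2.trans h7
      calc a * x = (a * x * a⁻¹) * a := by group
        _ = x * a := by rw [h8]
    by_cases ha1 : a = 1
    · rw [ha1, one_mul] at hue
      exact huD (hue ▸ he)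
    · have h10 : x ∈ centralizer ({a} : Set G) := by
        rw [Subgroup.mem_centralizer_singleton_iff]
        exact h6.symm
      rw [hSC a ha ha1] at h10
      exact hx1 (hQD x h10 hx)
  have hx₁ : x₁ ≠ x₀ := by
    intro h0
    exact huN ((hstab u).mp h0)
  have hDfix₀ : ∀ e ∈ D, e • x₀ = x₀ := fun e he => (hstab e).mpr (hDN he)
  have hDfix₁ : ∀ e ∈ D, e • x₁ = x₁ := by
    intro e he
    change e • u • x₀ = u • x₀
    have h1 : e * u = u * (u⁻¹ * e * u) := by group
    rw [← mul_smul, h1, mul_smul]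
    congr 1
    apply hDfix₀
    rw [hui]
    have := huinv e he
    rw [hui] at this
    rw [this]
    exact D.inv_mem he
  -- the stabilizer of two points
  have h2stab : ∀ g : G, g • x₀ = x₀ → g • x₁ = x₁ → g ∈ D := by
    intro g h0 h1
    have h2 : g ∈ Q ⊔ D := by rw [← hN]; exact (hstab g).mp h0
    obtain ⟨a, ha, e, he, rfl⟩ := mem_sup_decomp hDN h2
    have h3 : a • x₁ = x₁ := by
      rw [mul_smul, hDfix₁ e he] at h1
      exact h1
    rw [hfree a ha x₁ hx₁ h3, one_mul]
    exact he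
  have h3fix₀ : ∀ g : G, g • x₀ = x₀ → g • x₁ = x₁ → ∀ y : Ω, y ≠ x₀ → y ≠ x₁ → g • y = y → g = 1 := by
    intro g h0 h1 y hy0 hy1 hy
    have hgD := h2stab g h0 h1
    obtain ⟨v, hv, -⟩ := hreg x₁ y hx₁ hy0
    have hv1 : (v : G) ≠ 1 := by
      intro h2
      rw [h2, one_smul] at hv
      exact hy1 hv.symm
    have h2 : g * (v : G) * g⁻¹ ∈ Q := (mem_normalizer_iff.mp (hDN hgD) v).mp v.2
    have h3 : (g * (v : G) * g⁻¹) • x₁ = y := by
      rw [mul_smul, mul_smul, ← hv]
      have h4 : g⁻¹ • x₁ = x₁ := by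
        have := congrArg (fun w => g⁻¹ • w) h1
        simp only [inv_smul_smul] at this
        exact this.symm
      rw [h4, hv] at *
      exact hy
    have h4 : ((v : G)⁻¹ * (g * (v : G) * g⁻¹)) • x₁ = x₁ := by
      rw [mul_smul, h3, ← hv, inv_smul_smul]
    have h5 := hfree _ (Q.mul_mem (Q.inv_mem v.2) h2) x₁ hx₁ h4
    have h6 : g * (v : G) * g⁻¹ = v := by
      have := congrArg (fun z => (v : G) * z) h5
      simpa using this
    have h7 : g ∈ centralizer ({(v : G)} : Set G) := by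
      rw [Subgroup.mem_centralizer_singleton_iff]
      calc g * (v : G) = (g * (v : G) * g⁻¹) * g := by group
        _ = v * g := by rw [h6]
    rw [hSC _ v.2 hv1] at h7
    exact hQD g h7 hgD
  have hsimple : ∀ M : Subgroup G, M.Normal → M = ⊥ ∨ M = ⊤ :=
    fun M hM => IsSimpleGroup.eq_bot_or_eq_top_of_normal M hM
  have hZ : IsZassenhausGroup G Ω := by
    refine ⟨?_, h2trans, ?_, ?_, ?_⟩
    · refine ⟨?_⟩
      intro g₁ g₂ h12
      have hker : (MulAction.toPermHom G Ω).ker = ⊥ := by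
        rcases hsimple _ (MulAction.toPermHom G Ω).normal_ker with h1 | h1
        · exact h1
        · exfalso
          apply hNtop
          rw [eq_top_iff]
          intro g _
          have h2 : g ∈ (MulAction.toPermHom G Ω).ker := by rw [h1]; trivial
          have h3 : (MulAction.toPermHom G Ω) g = 1 := h2
          have h4 := congrArg (fun σ : Equiv.Perm Ω => σ x₀) h3
          exact (hstab g).mp h4
      have h3 : g₁⁻¹ * g₂ ∈ (MulAction.toPermHom G Ω).ker := by
        rw [MonoidHom.mem_ker]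
        ext ω
        change (g₁⁻¹ * g₂) • ω = ω
        rw [mul_smul, ← h12 ω, inv_smul_smul]
      rw [hker, Subgroup.mem_bot] at h3
      have := congrArg (fun z => g₁ * z) h3
      simpa using this.symm
    · intro g a b c hab hbc hac hga hgb hgc
      obtain ⟨h, hh1, hh2⟩ := (MulAction.is_two_pretransitive_iff.mp h2trans) hab hx₁.symm
      have e1 : (h * g * h⁻¹) • x₀ = x₀ := by
        rw [← hh1, mul_smul, mul_smul, inv_smul_smul, hga]
      have e2 : (h * g * h⁻¹) • x₁ = x₁ := by
        rw [← hh2, mul_smul, mul_smul, inv_smul_smul, hgb]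
      have e3 : (h * g * h⁻¹) • (h • c) = h • c := by
        rw [mul_smul, mul_smul, inv_smul_smul, hgc]
      have e4 : h • c ≠ x₀ := by
        rw [← hh1]
        exact fun h0 => hac (MulAction.injective h h0).symm
      have e5 : h • c ≠ x₁ := by
        rw [← hh2]
        exact fun h0 => hbc (MulAction.injective h h0).symm
      have e6 := h3fix₀ _ e1 e2 _ e4 e5 e3
      have := congrArg (fun z => h⁻¹ * z * h) e6
      simpa [mul_assoc] using this
    · obtain ⟨x, hx, hx1⟩ : ∃ x ∈ D, x ≠ 1 := by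
        by_contra hcon
        push Not at hcon
        exact hD1 ((Subgroup.eq_bot_iff_forall D).mpr hcon)
      exact ⟨x, hx1, x₀, x₁, hx₁.symm, hDfix₀ x hx, hDfix₁ x hx⟩
    · intro M hM hMt
      refine ⟨x₀, ?_⟩
      rcases hsimple M hM with h1 | h1
      · exfalso
        subst h1
        obtain ⟨g, hg⟩ := hMt.exists_smul_eq x₀ x₁
        have h3 : (g : G) = 1 := (Subgroup.mem_bot).mp g.2
        have h2 : (g : G) • x₀ = x₁ := hg
        rw [h3, one_smul] at h2
        exact hx₁ h2.symm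
      · subst h1
        obtain ⟨a, ha, ha1⟩ : ∃ a ∈ Q, a ≠ 1 := by
          by_contra hcon
          push Not at hcon
          exact hQ1 ((Subgroup.eq_bot_iff_forall Q).mpr hcon)
        intro h0
        have h2 : (⟨a, Subgroup.mem_top a⟩ : (⊤ : Subgroup G)) ∈
            MulAction.stabilizer (⊤ : Subgroup G) x₀ := hQfix a ha
        have h3 : (⟨a, Subgroup.mem_top a⟩ : (⊤ : Subgroup G)) ∈ (⊥ : Subgroup (⊤ : Subgroup G)) :=
          h0 ▸ h2
        exact ha1 (congrArg Subtype.val (Subgroup.mem_bot.mp h3))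
  have hFn : (Q.subgroupOf (MulAction.stabilizer G x₀)).Normal := by
    refine ⟨?_⟩
    intro n hn g
    have h1 : (g : G) ∈ N := (hstab g).mp g.2
    rw [Subgroup.mem_subgroupOf] at hn ⊢
    exact (mem_normalizer_iff.mp h1 _).mp hn
  have hFab : IsMulCommutative Q := ⟨⟨fun a b => Subtype.ext (hSC.comm a.2 b.2)⟩⟩
  rcases Cfsg.Agent.S0731.result hZ x₀ Q (fun a ha => hQfix a ha) hFn hFab hreg with h1 | h1
  · exfalso
    obtain ⟨h3, hst⟩ := h1
    -- count
    obtain ⟨y₂, hy₂⟩ : ∃ y : Ω, y ≠ x₀ ∧ y ≠ x₁ := by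
      by_contra hcon
      push Not at hcon
      have hsub : (Set.univ : Set Ω) ⊆ {x₀, x₁} := by
        intro y _
        by_cases hy : y = x₀
        · exact Or.inl hy
        · exact Or.inr (hcon y hy)
      have h4 : Nat.card Ω ≤ 2 := by
        have h5 := Set.ncard_le_ncard hsub (Set.toFinite _)
        rw [Set.ncard_univ] at h5
        exact h5.trans (Set.ncard_insert_le _ _ |>.trans (by simp))
      omega
    let p : Fin 3 ↪ Ω := ⟨![x₀, x₁, y₂], by
      intro i j hij
      fin_cases i <;> fin_cases j <;> first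
        | rfl
        | (exfalso; simp at hij; first
            | exact hx₁ hij
            | exact hx₁ hij.symm
            | exact hy₂.1 hij
            | exact hy₂.1 hij.symm
            | exact hy₂.2 hij
            | exact hy₂.2 hij.symm)⟩
    have horb : Nat.card G = (MulAction.orbit G p).ncard := by
      rw [← MulAction.index_stabilizer, hst p, Subgroup.index_bot]
    have hun : MulAction.orbit G p = Set.univ := MulAction.orbit_eq_univ G p
    rw [hun, Set.ncard_univ] at horb
    letI := Fintype.ofFinite Ω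
    have hemb : Nat.card (Fin 3 ↪ Ω) = (Nat.card Ω).descFactorial 3 := by
      rw [Nat.card_eq_fintype_card, Fintype.card_embedding_eq, Nat.card_eq_fintype_card]
      simp
    rw [hemb, hcΩ, hGc] at horb
    have e1 : (2 * d + 2).descFactorial 3 = (2 * d + 2) * (2 * d + 1) * (2 * d) := by
      rw [Nat.descFactorial_succ, Nat.descFactorial_succ, Nat.descFactorial_succ,
        Nat.descFactorial_zero]
      have e2 : 2 * d + 2 - 2 = 2 * d := by omega
      have e3 : 2 * d + 2 - 1 = 2 * d + 1 := by omega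
      have e4 : 2 * d + 2 - 0 = 2 * d + 2 := by omega
      rw [e2, e3, e4]
      ring
    rw [e1] at horb
    have h5 : 0 < (2 * d + 1) * (2 * d + 2) * d := by positivity
    nlinarith
  · obtain ⟨F, hF, hFt, hch, hiso⟩ := h1
    refine ⟨F, hF, hFt, ?_, hiso⟩
    have := FiniteField.odd_card_of_char_ne_two hch
    exact Nat.odd_iff.mpr this

end Cfsg.Agent.Lib.BSW.Recog
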